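import Groth.Agent.GmTorsor.Alg

/-! A cocycle of the group law `b + b' + l b b'` on a faithfully flat algebra is locally a coboundary. -/

set_option autoImplicit false
set_option linter.all false

universe u
open TensorProduct

namespace Groth.Agent.SWTorsorLib

variable {A B : Type u} [CommRing A] [CommRing B] [Algebra A B] [Module.FaithfullyFlat A B]

theorem exists_eq_add_mul (l : A) (m : B) (c' : B ⊗[A] B) (h : m ⊗ₜ[A] (1 : B) = (1 : B) ⊗ₜ[A] m + l • c') :
    ∃ (a : A) (w : B), m = algebraMap A B a + algebraMap A B l * w := by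
  let f : A × B →ₗ[A] B := (Algebra.linearMap A B).coprod (l • LinearMap.id)
  obtain ⟨⟨a, w⟩, hw⟩ := TorsorLift.mem_range_of_one_tmul (S := B) f m
    ⟨m ⊗ₜ[A] ((1 : A), (0 : B)) - (LinearMap.inr A A B).lTensor B c', by
      have e : f.comp (LinearMap.inr A A B) = l • LinearMap.id := LinearMap.coprod_inr _ _
      rw [map_sub, LinearMap.lTensor_tmul, ← LinearMap.comp_apply, ← LinearMap.lTensor_comp, e, LinearMap.lTensor_smul,
        LinearMap.lTensor_id, LinearMap.smul_apply, LinearMap.id_apply]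
      have e1 : f ((1 : A), (0 : B)) = 1 := by simp [f]
      rw [e1, h, add_sub_cancel_right]⟩
  refine ⟨a, w, hw.symm.trans ?_⟩
  simp [f, Algebra.smul_def]

theorem exists_trivializing (l : A) (c : B ⊗[A] B) (hU : IsUnit (1 + algebraMap A (B ⊗[A] B) l * c))
    (h : Algebra.TensorProduct.map (AlgHom.id A B) (Algebra.TensorProduct.includeRight : B →ₐ[A] B ⊗[A] B) c =
      ((1 : B) ⊗ₜ[A] c) +
        Algebra.TensorProduct.map (AlgHom.id A B) (Algebra.TensorProduct.includeLeft : B →ₐ[A] B ⊗[A] B) c +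
        algebraMap A (B ⊗[A] (B ⊗[A] B)) l * ((1 : B) ⊗ₜ[A] c) *
          Algebra.TensorProduct.map (AlgHom.id A B) (Algebra.TensorProduct.includeLeft : B →ₐ[A] B ⊗[A] B) c)
    (p : Ideal A) [p.IsPrime] :
    ∃ t : A, t ∉ p ∧ ∀ (B' : Type u) [CommRing B'] [Algebra A B'] (ι : B →ₐ[A] B'), IsUnit (algebraMap A B' t) →
      ∃ y : B', IsUnit (1 + algebraMap A B' l * y) ∧
        ∀ (C : Type u) [CommRing C] [Algebra A C] (L R : B' →ₐ[A] C) (χ : B ⊗[A] B →ₐ[A] C),
          (∀ b : B, χ (b ⊗ₜ[A] 1) = L (ι b)) → (∀ b : B, χ ((1 : B) ⊗ₜ[A] b) = R (ι b)) →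
          IsLeftRegular (algebraMap A C l) → L y = R y + χ c + algebraMap A C l * R y * χ c := by
  obtain ⟨v, hv⟩ := hU.exists_right_inv
  let e13 := Algebra.TensorProduct.map (AlgHom.id A B) (Algebra.TensorProduct.includeRight : B →ₐ[A] B ⊗[A] B)
  let e12 := Algebra.TensorProduct.map (AlgHom.id A B) (Algebra.TensorProduct.includeLeft : B →ₐ[A] B ⊗[A] B)
  let e23 : B ⊗[A] B →ₐ[A] B ⊗[A] (B ⊗[A] B) := Algebra.TensorProduct.includeRight
  have h' : e13 (1 + algebraMap A _ l * c) = e23 (1 + algebraMap A _ l * c) * e12 (1 + algebraMap A _ l * c) := by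
    simp only [map_add, map_one, map_mul, AlgHom.commutes]
    change _ = (1 + algebraMap A _ l * ((1 : B) ⊗ₜ[A] c)) * (1 + algebraMap A _ l * e12 c)
    rw [show e13 c = _ from h]
    ring
  obtain ⟨t₀, m, n, ht₀, hm, hmn⟩ := GmTorsor.exists_trivializing _ v hv h' p
  have hm' : m ⊗ₜ[A] (1 : B) = (1 : B) ⊗ₜ[A] m + l • (c * ((1 : B) ⊗ₜ[A] m)) := by
    rw [← hm, Algebra.smul_def]; ring
  obtain ⟨a, w, haw⟩ := exists_eq_add_mul l m _ hm'
  -- a scalar `a'` near `p` and a solution of `m = a' (1 + l y)`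
  obtain ⟨t, a', ht, hy⟩ : ∃ t a' : A, t ∉ p ∧ ∀ (B' : Type u) [CommRing B'] [Algebra A B'] (ι : B →ₐ[A] B'),
      IsUnit (algebraMap A B' t) → IsUnit (algebraMap A B' a') ∧ IsUnit (ι m) ∧
        ∃ y : B', ι m = algebraMap A B' a' * (1 + algebraMap A B' l * y) := by
    by_cases hl : l ∈ p
    · have ha : a ∉ p := fun ha => by
        have h1 : algebraMap A B t₀ ∈ (Ideal.span ({a, l} : Set A)).map (algebraMap A B) := by
          rw [← hmn, haw]
          exact Ideal.mul_mem_right _ _ (add_mem (Ideal.mem_map_of_mem _ (Ideal.subset_span (by simp)))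
            (Ideal.mul_mem_right _ _ (Ideal.mem_map_of_mem _ (Ideal.subset_span (by simp)))))
        rw [← Ideal.mem_comap, Ideal.comap_map_eq_self_of_faithfullyFlat] at h1
        exact ht₀ ((Ideal.span_le.2 (by
          rintro x (rfl | rfl)
          exacts [ha, hl])) h1)
      refine ⟨t₀ * a, a, Ideal.IsPrime.mul_notMem ‹_› ht₀ ha, fun B' _ _ ι hu => ?_⟩
      rw [map_mul, IsUnit.mul_iff] at hu
      obtain ⟨q, hq⟩ := hu.2
      refine ⟨hu.2, isUnit_of_mul_isUnit_left (y := ι n) (by rw [← map_mul, hmn, ι.commutes]; exact hu.1),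
        ↑q⁻¹ * ι w, ?_⟩
      rw [haw, map_add, map_mul, ι.commutes, ι.commutes, ← hq]
      have := q.mul_inv
      linear_combination (-(algebraMap A B' l) * ι w) * this
    · refine ⟨t₀ * l, 1, Ideal.IsPrime.mul_notMem ‹_› ht₀ hl, fun B' _ _ ι hu => ?_⟩
      rw [map_mul, IsUnit.mul_iff] at hu
      obtain ⟨q, hq⟩ := hu.2
      refine ⟨by simp, isUnit_of_mul_isUnit_left (y := ι n) (by rw [← map_mul, hmn, ι.commutes]; exact hu.1),
        ↑q⁻¹ * (ι m - 1), ?_⟩
      rw [map_one, one_mul, ← hq, ← mul_assoc, Units.mul_inv, one_mul, add_sub_cancel]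
  refine ⟨t, ht, fun B' _ _ ι hu => ?_⟩
  obtain ⟨ha', hum, y, hy⟩ := hy B' ι hu
  refine ⟨y, isUnit_of_mul_isUnit_right (hy ▸ hum), fun C _ _ L R χ hL hR hreg => hreg ?_⟩
  have e := congrArg χ hm
  rw [map_mul, map_add, map_one, map_mul, χ.commutes, hL, hR, hy, map_mul, map_mul, L.commutes, R.commutes,
    map_add, map_add, map_one, map_one, map_mul, map_mul, L.commutes, R.commutes] at e
  refine ((ha'.map L).mul_right_injective ?_ : _)
  rw [L.commutes]
  dsimp only
  linear_combination -e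

end Groth.Agent.SWTorsorLib
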