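import Mathlib
import Groth.Prelude.Def_SekSuwa2
import Groth.Agent.S14694

/-! The map `α : G_{λ,N} → μ_N` is an isomorphism where `λ` is invertible. -/

set_option autoImplicit false
set_option linter.all false
set_option backward.isDefEq.respectTransparency false
set_option backward.isDefEq.respectTransparency.types false

universe u
open CategoryTheory Limits AlgebraicGeometry
open scoped TensorProduct

noncomputable section

namespace Groth.Agent.SWTorsorLib

variable {R : Type u} [CommRing R] {lam : R} {N : ℕ}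

abbrev gen (R : Type u) [CommRing R] (N : ℕ) : MonoidAlgebra R (Multiplicative (ZMod N)) :=
  MonoidAlgebra.single (Multiplicative.ofAdd (1 : ZMod N)) 1

theorem gen_pow (k : ℕ) : (gen R N : MonoidAlgebra R (Multiplicative (ZMod N))) ^ k = MonoidAlgebra.single (Multiplicative.ofAdd (k : ZMod N)) 1 := by
  rw [MonoidAlgebra.single_pow, one_pow]
  congr 1
  apply Multiplicative.toAdd.injective
  simp

theorem algHom_ext_gen [NeZero N] {B : Type u} [CommRing B] [Algebra R B]
    {φ ψ : MonoidAlgebra R (Multiplicative (ZMod N)) →ₐ[R] B} (h : φ (gen R N) = ψ (gen R N)) : φ = ψ := by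
  refine MonoidAlgebra.algHom_ext (fun m => ?_) (Subsingleton.elim _ _)
  obtain ⟨k, hk⟩ := ZMod.natCast_zmod_surjective (Multiplicative.toAdd m)
  have : m = Multiplicative.ofAdd (k : ZMod N) := Multiplicative.toAdd.injective (by simp [hk])
  rw [this, ← gen_pow (R := R), map_pow, map_pow, h]

theorem bijective_map_alphaN (hN : 0 < N) (h : SekSuwa.DivCond lam N) (K : Type u) [CommRing K] [Algebra R K]
    (hlam : IsUnit (algebraMap R K lam)) :
    Function.Bijective (Algebra.TensorProduct.map
      (SekSuwa.alphaNHom R lam N h : MonoidAlgebra R (Multiplicative (ZMod N)) →ₐ[R] SekSuwa.AK R lam N h)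
      (AlgHom.id R K)) := by
  haveI : NeZero N := ⟨hN.ne'⟩
  let B := MonoidAlgebra R (Multiplicative (ZMod N)) ⊗[R] K
  obtain ⟨v, hv⟩ := hlam
  let g : B := gen R N ⊗ₜ 1
  let c : B := (1 : MonoidAlgebra R (Multiplicative (ZMod N))) ⊗ₜ (↑v⁻¹ : K)
  have hc : algebraMap R B lam * c = 1 := by
    rw [← Algebra.smul_def, ← TensorProduct.tmul_smul, Algebra.smul_def, ← hv, Units.mul_inv, Algebra.TensorProduct.one_def]
  have hb : 1 + algebraMap R B lam * (c * (g - 1)) = g := by
    rw [← _root_.mul_assoc, hc]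
    ring
  have hb' : 1 + lam • (c * (g - 1)) = g := Eq.trans (congrArg (1 + ·) (Algebra.smul_def lam (c * (g - 1)))) hb
  have hgN : g ^ N = 1 := by
    rw [Algebra.TensorProduct.tmul_pow, one_pow, gen_pow, ZMod.natCast_self]
    rfl
  have hu : (1 + lam • (c * (g - 1))) * g ^ (N - 1) = 1 := by
    rw [hb', ← pow_succ', Nat.sub_add_cancel hN, hgN]
  let f0 : SekSuwa.A R lam →ₐ[R] B := SekSuwa.A.lift R lam _ _ hu
  have hker : Polynomial.aeval (c * (g - 1)) (SekSuwa.psiPoly lam N h) = 0 := by
    have e := SekSuwa.aeval_psiPoly h (c * (g - 1))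
    rw [hb, hgN, sub_self, map_pow] at e
    exact ((IsUnit.of_mul_eq_one c hc).pow N).mul_right_eq_zero.1 e
  let p0 : SekSuwa.AK R lam N h →ₐ[R] B := Ideal.Quotient.liftₐ (SekSuwa.kerIdeal lam N h) f0 (by
    intro z hz
    obtain ⟨w, rfl⟩ := Ideal.mem_span_singleton'.mp hz
    rw [map_mul, SekSuwa.kerGen, ← Polynomial.aeval_algHom_apply, SekSuwa.A.lift_t, hker, mul_zero])
  have p0t : p0 SekSuwa.AK.t = c * (g - 1) := SekSuwa.A.lift_t _ _ hu
  have p0i : p0 SekSuwa.AK.inv = g ^ (N - 1) := SekSuwa.A.lift_inv _ _ hu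
  let ψ : SekSuwa.AK R lam N h ⊗[R] K →ₐ[R] B := Algebra.TensorProduct.productMap p0 Algebra.TensorProduct.includeRight
  let αA : MonoidAlgebra R (Multiplicative (ZMod N)) →ₐ[R] SekSuwa.AK R lam N h := SekSuwa.alphaNHom R lam N h
  let φ : B →ₐ[R] SekSuwa.AK R lam N h ⊗[R] K := Algebra.TensorProduct.map αA (AlgHom.id R K)
  have hα : αA (gen R N) = 1 + lam • (SekSuwa.AK.t : SekSuwa.AK R lam N h) := SekSuwa.alphaNHom_single_one R lam N h
  have h1 : ψ.comp φ = AlgHom.id R B := by
    refine Algebra.TensorProduct.ext (algHom_ext_gen ?_) (AlgHom.ext fun k => ?_)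
    · change ψ (φ (gen R N ⊗ₜ 1)) = gen R N ⊗ₜ 1
      rw [Algebra.TensorProduct.map_tmul, map_one, hα, Algebra.TensorProduct.productMap_apply_tmul, map_one, _root_.mul_one,
        map_add, map_one, map_smul, p0t]
      exact hb'
    · change ψ (φ (1 ⊗ₜ k)) = 1 ⊗ₜ k
      rw [Algebra.TensorProduct.map_tmul, map_one, Algebra.TensorProduct.productMap_apply_tmul, map_one, _root_.one_mul]
      rfl
  have h2 : φ.comp ψ = AlgHom.id R _ := by
    have hφg : φ g = 1 + algebraMap R _ lam * (SekSuwa.AK.t ⊗ₜ (1 : K)) := by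
      rw [Algebra.TensorProduct.map_tmul, map_one, hα, TensorProduct.add_tmul, ← TensorProduct.smul_tmul', Algebra.smul_def]
      rfl
    have hφc : φ c * algebraMap R _ lam = 1 := by
      rw [← AlgHom.commutes φ, ← map_mul, _root_.mul_comm, hc, map_one]
    refine Algebra.TensorProduct.ext (SekSuwa.AK.algHom_ext ?_ ?_) (AlgHom.ext fun k => ?_)
    · change φ (ψ (SekSuwa.AK.t ⊗ₜ 1)) = SekSuwa.AK.t ⊗ₜ 1
      rw [Algebra.TensorProduct.productMap_apply_tmul, map_one, _root_.mul_one, p0t, map_mul, map_sub, map_one, hφg,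
        add_sub_cancel_left, ← _root_.mul_assoc, hφc, _root_.one_mul]
    · change φ (ψ (SekSuwa.AK.inv ⊗ₜ 1)) = SekSuwa.AK.inv ⊗ₜ 1
      rw [Algebra.TensorProduct.productMap_apply_tmul, map_one, _root_.mul_one, p0i, map_pow, Algebra.TensorProduct.map_tmul,
        map_one, hα, Algebra.TensorProduct.tmul_pow, one_pow]
      congr 1
      have e1 : (1 + lam • (SekSuwa.AK.t : SekSuwa.AK R lam N h)) * SekSuwa.AK.inv = 1 := by
        have := congrArg (SekSuwa.AK.mkHom R lam N h) (SekSuwa.A.u_mul_inv (R := R) (lam := lam))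
        rw [map_mul, map_one, SekSuwa.A.u, map_add, map_one, map_smul] at this
        exact this
      exact left_inv_eq_right_inv (by rw [← pow_succ, Nat.sub_add_cancel hN, SekSuwa.AK.u_pow]) e1
    · change φ (ψ (1 ⊗ₜ k)) = 1 ⊗ₜ k
      rw [Algebra.TensorProduct.productMap_apply_tmul, map_one, _root_.one_mul]
      change φ (1 ⊗ₜ k) = 1 ⊗ₜ k
      rw [Algebra.TensorProduct.map_tmul, map_one]
      rfl
  exact Function.bijective_iff_has_inverse.2 ⟨ψ, DFunLike.congr_fun h1, DFunLike.congr_fun h2⟩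

theorem isIso_pullback_of_bijective {A B K : Type u} [CommRing A] [Algebra R A] [CommRing B] [Algebra R B]
    [CommRing K] [Algebra R K] (α : A →ₐ[R] B)
    (g : (Spec (CommRingCat.of B)).asOver (Spec (CommRingCat.of R)) ⟶ (Spec (CommRingCat.of A)).asOver (Spec (CommRingCat.of R)))
    (hg : g.left = Spec.map (CommRingCat.ofHom α.toRingHom))
    (hb : Function.Bijective (Algebra.TensorProduct.map α (AlgHom.id R K))) :
    IsIso ((Over.pullback (Spec.map (CommRingCat.ofHom (algebraMap R K)))).map g) := by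
  let φ := Algebra.TensorProduct.map α (AlgHom.id R K)
  haveI : IsIso (CommRingCat.ofHom φ.toRingHom) := (ConcreteCategory.isIso_iff_bijective _).2 hb
  have eL : φ.toRingHom.comp Algebra.TensorProduct.includeLeftRingHom =
      Algebra.TensorProduct.includeLeftRingHom.comp α.toRingHom :=
    RingHom.ext fun x => (Algebra.TensorProduct.map_tmul α (AlgHom.id R K) x 1).trans (by rw [map_one]; rfl)
  have eR : φ.toRingHom.comp (Algebra.TensorProduct.includeRight : K →ₐ[R] _).toRingHom =
      (Algebra.TensorProduct.includeRight : K →ₐ[R] B ⊗[R] K).toRingHom :=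
    RingHom.ext fun x => (Algebra.TensorProduct.map_tmul α (AlgHom.id R K) 1 x).trans (by rw [map_one]; rfl)
  have e : ((Over.pullback (Spec.map (CommRingCat.ofHom (algebraMap R K)))).map g).left =
      (pullbackSpecIso R B K).hom ≫ Spec.map (CommRingCat.ofHom φ.toRingHom) ≫ (pullbackSpecIso R A K).inv := by
    refine pullback.hom_ext ?_ ?_
    · rw [Category.assoc, Category.assoc]
      refine (pullback.lift_fst _ _ _).trans ?_
      refine Eq.trans ?_ (congrArg (fun m => (pullbackSpecIso R B K).hom ≫ Spec.map (CommRingCat.ofHom φ.toRingHom) ≫ m)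
        (pullbackSpecIso_inv_fst R A K)).symm
      rw [← Spec.map_comp, ← CommRingCat.ofHom_comp, eL, CommRingCat.ofHom_comp, Spec.map_comp, hg]
      exact (pullbackSpecIso_hom_fst_assoc R B K _).symm
    · rw [Category.assoc, Category.assoc]
      refine (pullback.lift_snd _ _ _).trans ?_
      refine Eq.trans ?_ (congrArg (fun m => (pullbackSpecIso R B K).hom ≫ Spec.map (CommRingCat.ofHom φ.toRingHom) ≫ m)
        (pullbackSpecIso_inv_snd R A K)).symm
      rw [← Spec.map_comp, ← CommRingCat.ofHom_comp]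
      exact ((congrArg (fun m => (pullbackSpecIso R B K).hom ≫ Spec.map (CommRingCat.ofHom m)) eR).trans
        (pullbackSpecIso_hom_snd R B K)).symm
  haveI : IsIso ((Over.forget _).map ((Over.pullback (Spec.map (CommRingCat.ofHom (algebraMap R K)))).map g)) := by
    change IsIso ((Over.pullback (Spec.map (CommRingCat.ofHom (algebraMap R K)))).map g).left
    rw [e]; infer_instance
  exact isIso_of_reflects_iso _ (Over.forget _)

theorem isIso_pullback_alphaN (hN : 0 < N) (h : SekSuwa.DivCond lam N) (K : Type u) [CommRing K] [Algebra R K]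
    (hlam : IsUnit (algebraMap R K lam)) :
    IsIso ((Over.pullback (Spec.map (CommRingCat.ofHom (algebraMap R K)))).map (SekSuwa.alphaN R lam N h)) :=
  isIso_pullback_of_bijective (SekSuwa.alphaNHom R lam N h : MonoidAlgebra R (Multiplicative (ZMod N)) →ₐ[R] SekSuwa.AK R lam N h)
    _ rfl (bijective_map_alphaN hN h K hlam)

theorem isFinite_GK (hN : 0 < N) (h : SekSuwa.DivCond lam N) :
    IsFinite (SekSuwa.GK R lam N h).hom ∧ Flat (SekSuwa.GK R lam N h).hom := by
  obtain ⟨hh, -⟩ := S14694.result R lam N hN h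
  exact ⟨hh.1, hh.2.1⟩

theorem isFinite_mu [NeZero N] :
    IsFinite (Red.diag R (ZMod N)).hom ∧ Flat (Red.diag R (ZMod N)).hom := by
  exact ⟨(IsFinite.SpecMap_iff _).2 (RingHom.finite_algebraMap.2 inferInstance),
    Flat.SpecMap_iff.2 (RingHom.flat_algebraMap_iff.2 inferInstance)⟩

end Groth.Agent.SWTorsorLib
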