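import Mathlib

/-! Subalgebras of functions on `ℤ/p` which are stable under the shift modulo `m`. -/

set_option autoImplicit false
set_option linter.all false

universe u

noncomputable section

namespace Groth.Agent.SWTorsorLib

variable {R : Type u} [CommRing R] {p : ℕ}

/-- Shift-stability modulo `m` and the normalisation. -/
structure IsLattice (m : R) (S : Subalgebra R (ZMod p → R)) : Prop where
  diff : ∀ g ∈ S, ∃ h ∈ S, ∀ n, g (n + 1) - g n = m * h n
  gen : ∃ f ∈ S, f 0 = 0 ∧ f 1 = m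

namespace IsLattice

variable {m : R} {S : Subalgebra R (ZMod p → R)}

theorem fwd_dvd (hS : IsLattice m S) {g : ZMod p → R} (hg : g ∈ S) :
    ∀ i : ℕ, ∃ h ∈ S, (fwdDiff (1 : ZMod p))^[i] g = fun n => m ^ i * h n
  | 0 => ⟨g, hg, by simp⟩
  | i + 1 => by
    obtain ⟨h, hh, e⟩ := fwd_dvd hS hg i
    obtain ⟨h', hh', e'⟩ := hS.diff h hh
    refine ⟨h', hh', ?_⟩
    rw [Function.iterate_succ_apply', e]
    funext n
    rw [fwdDiff, pow_succ, mul_assoc, ← e' n, mul_sub]

theorem dvd_sub_zero [NeZero p] (hS : IsLattice m S) {g : ZMod p → R} (hg : g ∈ S) (n : ZMod p) : m ∣ g n - g 0 := by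
  obtain ⟨h, -, e⟩ := hS.diff g hg
  rw [← ZMod.natCast_zmod_val n]
  induction n.val with
  | zero => simp
  | succ k ih =>
    rw [show g ((k + 1 : ℕ) : ZMod p) - g 0 = (g ((k : ZMod p) + 1) - g k) + (g k - g 0) by push_cast; ring, e]
    exact dvd_add (dvd_mul_right _ _) ih

theorem shift_mem (hS : IsLattice m S) {g : ZMod p → R} (hg : g ∈ S) : (fun n => g (n + 1)) ∈ S := by
  obtain ⟨h, hh, e⟩ := hS.diff g hg
  convert S.add_mem hg (S.smul_mem hh m) using 1
  funext n
  rw [Pi.add_apply, Pi.smul_apply, smul_eq_mul, ← e n]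
  ring

theorem shift_nat_mem (hS : IsLattice m S) {g : ZMod p → R} (hg : g ∈ S) (k : ℕ) : (fun n => g (n + (k : ZMod p))) ∈ S := by
  induction k with
  | zero => simpa using hg
  | succ k ih =>
    convert hS.shift_mem ih using 1
    funext n
    rw [Nat.cast_succ]
    congr 1
    ring

theorem exists_sep [IsLocalRing R] [hp : Fact p.Prime] (hS : IsLattice m S) (hm : IsUnit m) {i j : ZMod p} (hij : i ≠ j) :
    ∃ g ∈ S, IsUnit (g i - g j) := by
  by_contra hno
  obtain ⟨f, hf, hf0, hf1⟩ := hS.gen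
  have key : ∀ g ∈ S, g i - g j ∈ IsLocalRing.maximalIdeal R := fun g hg => fun hu => hno ⟨g, hg, hu⟩
  have step : ∀ k : ℕ, ∀ g ∈ S, g ((k : ZMod p) * (i - j)) - g 0 ∈ IsLocalRing.maximalIdeal R := by
    intro k
    induction k with
    | zero => intro g hg; simp
    | succ k ih =>
      intro g hg
      have h1 := key _ (hS.shift_nat_mem hg ((k : ZMod p) * (i - j) - j).val)
      simp only [ZMod.natCast_zmod_val] at h1
      have h2 := (IsLocalRing.maximalIdeal R).add_mem h1 (ih g hg)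
      convert h2 using 1
      rw [show i + ((k : ZMod p) * (i - j) - j) = ((k + 1 : ℕ) : ZMod p) * (i - j) by push_cast; ring,
        show j + ((k : ZMod p) * (i - j) - j) = (k : ZMod p) * (i - j) by ring]
      ring
  have h3 := step (i - j)⁻¹.val f hf
  rw [ZMod.natCast_zmod_val, inv_mul_cancel₀ (sub_ne_zero.2 hij), hf0, hf1, sub_zero] at h3
  exact h3 hm

theorem cast_isUnit [IsLocalRing R] [CharP (IsLocalRing.ResidueField R) p] {k : ℕ} (h0 : 0 < k) (hk : k < p) :
    IsUnit (k : R) := by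
  refine IsLocalRing.notMem_maximalIdeal.1 fun h => ?_
  have e : ((k : ℕ) : IsLocalRing.ResidueField R) = 0 := by
    rw [← map_natCast (IsLocalRing.residue R)]
    exact Ideal.Quotient.eq_zero_iff_mem.2 h
  exact absurd (Nat.le_of_dvd h0 ((CharP.cast_eq_zero_iff _ p k).1 e)) (not_le.2 hk)

theorem exists_pivot [IsLocalRing R] [hp : Fact p.Prime] [CharP (IsLocalRing.ResidueField R) p] (hS : IsLattice m S)
    {k : ℕ} (hk : k < p) :
    ∃ P ∈ S, (∀ j < k, P (j : ZMod p) = 0) ∧ ∃ w, IsUnit w ∧ P (k : ZMod p) = m ^ k * w := by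
  have hsep : ∀ j < k, ∃ g ∈ S, ∃ w, IsUnit w ∧ g (k : ZMod p) - g (j : ZMod p) = m * w := fun j hj => by
    by_cases hm : IsUnit m
    · have hne : (k : ZMod p) ≠ (j : ZMod p) := fun e => by
        have := congrArg ZMod.val e
        rw [ZMod.val_natCast, ZMod.val_natCast, Nat.mod_eq_of_lt hk, Nat.mod_eq_of_lt (hj.trans hk)] at this
        omega
      obtain ⟨g, hg, hu⟩ := hS.exists_sep hm hne
      exact ⟨g, hg, ↑hm.unit⁻¹ * (g k - g j), hm.unit⁻¹.isUnit.mul hu, by rw [← mul_assoc, IsUnit.mul_val_inv, one_mul]⟩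
    · obtain ⟨f, hf, hf0, hf1⟩ := hS.gen
      obtain ⟨h, hh, e⟩ := hS.diff f hf
      have hlin : ∀ l : ℕ, ∃ c, f (l : ZMod p) = m * ((l : R) * h 0 + m * c) := by
        intro l
        induction l with
        | zero => exact ⟨0, by simp [hf0]⟩
        | succ l ih =>
          obtain ⟨c, hc⟩ := ih
          obtain ⟨d, hd⟩ := hS.dvd_sub_zero hh (l : ZMod p)
          refine ⟨c + d, ?_⟩
          have e' := e (l : ZMod p)
          push_cast
          linear_combination e' + hc + m * hd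
      obtain ⟨ck, hck⟩ := hlin k
      obtain ⟨cj, hcj⟩ := hlin j
      by_cases hm0 : m = 0
      · exact ⟨f, hf, 1, isUnit_one, by rw [hck, hcj, hm0]; ring⟩
      · refine ⟨f, hf, ((k - j : ℕ) : R) * h 0 + m * (ck - cj), ?_, ?_⟩
        · have hh0 : IsUnit (h 0) := by
            have e0 := e 0
            rw [zero_add, hf0, hf1, sub_zero] at e0
            by_contra hu
            have h1 : m * (1 - h 0) = 0 := by rw [mul_sub, mul_one, ← e0, sub_self]
            have : IsUnit (1 - h 0) := IsLocalRing.isUnit_one_sub_self_of_mem_nonunits _ hu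
            exact hm0 (this.mul_left_eq_zero.1 h1)
          refine IsLocalRing.notMem_maximalIdeal.1 fun hmem => ?_
          have := (IsLocalRing.maximalIdeal R).sub_mem hmem
            ((IsLocalRing.maximalIdeal R).mul_mem_right (ck - cj) (show m ∈ IsLocalRing.maximalIdeal R from hm))
          rw [add_sub_cancel_right] at this
          exact IsLocalRing.notMem_maximalIdeal.2 ((cast_isUnit (R := R) (p := p) (by omega) (by omega)).mul hh0) this
        · rw [hck, hcj, Nat.cast_sub hj.le]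
          ring
  have hsep' : ∀ j : Fin k, ∃ g : ZMod p → R, g ∈ S ∧ ∃ w, IsUnit w ∧
      g (k : ZMod p) - g ((j : ℕ) : ZMod p) = m * w := fun j => hsep j j.2
  choose g hg w hw he using hsep'
  let P : ZMod p → R := ∏ j : Fin k, (g j - algebraMap R (ZMod p → R) (g j ((j : ℕ) : ZMod p)))
  refine ⟨P, prod_mem fun j _ => S.sub_mem (hg j) (S.algebraMap_mem _), fun j hj => ?_, ∏ j, w j,
    IsUnit.prod_univ_iff.2 hw, ?_⟩
  · simp only [P, Finset.prod_apply]
    exact Finset.prod_eq_zero (Finset.mem_univ ⟨j, hj⟩) (sub_self _)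
  · simp only [P, Finset.prod_apply]
    simp only [Pi.sub_apply, Pi.algebraMap_apply, Algebra.algebraMap_self, RingHom.id_apply, he, Finset.prod_mul_distrib]
    simp

theorem le [IsLocalRing R] [hp : Fact p.Prime] [CharP (IsLocalRing.ResidueField R) p] {S' : Subalgebra R (ZMod p → R)}
    (hS : IsLattice m S) (hS' : IsLattice m S') : S' ≤ S := by
  intro g hg
  have key : ∀ k ≤ p, ∃ s ∈ S, ∀ j < k, g (j : ZMod p) = s (j : ZMod p) := by
    intro k hk
    induction k with
    | zero => exact ⟨0, S.zero_mem, fun j hj => absurd hj (Nat.not_lt_zero j)⟩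
    | succ k ih =>
      obtain ⟨s, hs, hsj⟩ := ih (Nat.le_of_succ_le hk)
      obtain ⟨P, hP, hP0, w, hw, hPk⟩ := hS.exists_pivot (Nat.lt_of_succ_le hk)
      obtain ⟨h, -, e⟩ := hS'.fwd_dvd hg k
      obtain ⟨h', -, e'⟩ := hS.fwd_dvd hs k
      have e1 := congrFun e 0
      have e2 := congrFun e' 0
      rw [fwdDiff_iter_eq_sum_shift] at e1 e2
      have e3 : g (k : ZMod p) - s (k : ZMod p) = m ^ k * (h 0 - h' 0) := by
        rw [mul_sub, ← e1, ← e2, ← Finset.sum_sub_distrib, Finset.sum_eq_single k]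
        · simp
        · intro j hj hjk
          have : j < k := lt_of_le_of_ne (Nat.lt_succ_iff.1 (Finset.mem_range.1 hj)) hjk
          simp [hsj j this]
        · intro h; simp at h
      refine ⟨s + (↑hw.unit⁻¹ * (h 0 - h' 0)) • P, S.add_mem hs (S.smul_mem hP _), fun j hj => ?_⟩
      rcases Nat.lt_or_eq_of_le (Nat.lt_succ_iff.1 hj) with hj | hj
      · rw [Pi.add_apply, Pi.smul_apply, hP0 j hj, smul_zero, add_zero, hsj j hj]
      · subst hj
        rw [Pi.add_apply, Pi.smul_apply, smul_eq_mul, hPk]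
        linear_combination e3 - (m ^ j * (h 0 - h' 0)) * hw.val_inv_mul
  obtain ⟨s, hs, hsj⟩ := key p le_rfl
  convert hs
  funext n
  rw [← ZMod.natCast_zmod_val n]
  exact hsj _ n.val_lt

theorem eq [IsLocalRing R] [hp : Fact p.Prime] [CharP (IsLocalRing.ResidueField R) p] {S' : Subalgebra R (ZMod p → R)}
    (hS : IsLattice m S) (hS' : IsLattice m S') : S' = S :=
  le_antisymm (hS.le hS') (hS'.le hS)

theorem pow_dvd_natCast [IsDomain R] [hp : Fact p.Prime] (hS : IsLattice m S) (hm0 : m ≠ 0) [IsLocalRing R]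
    (hm : ¬ IsUnit m) : m ^ (p - 1) ∣ (p : R) := by
  obtain ⟨f, hf, hf0, hf1⟩ := hS.gen
  have hper := shift_eq_sum_fwdDiff_iter (1 : ZMod p) f p 0
  rw [zero_add, nsmul_one, ZMod.natCast_self, hf0] at hper
  have h2 : 2 ≤ p := hp.out.two_le
  obtain ⟨q, rfl⟩ : ∃ q, p = q + 2 := ⟨p - 2, by omega⟩
  rw [Finset.sum_range_succ, Finset.sum_range_succ', Finset.sum_range_succ'] at hper
  simp only [Function.iterate_zero, id_eq, hf0, smul_zero, add_zero, Nat.choose_self, one_smul, Nat.choose_one_right,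
    zero_add, Function.iterate_one, fwdDiff, hf1, sub_zero] at hper
  obtain ⟨c, hc⟩ : (↑(q + 2) * (m * m) : R) ∣
      ∑ k ∈ Finset.range q, (q + 2).choose (k + 1 + 1) • (fwdDiff (1 : ZMod (q + 2)))^[k + 1 + 1] f 0 := by
    refine Finset.dvd_sum fun k hk => ?_
    obtain ⟨h, -, e⟩ := hS.fwd_dvd hf (k + 1 + 1)
    have hk' : k < q := Finset.mem_range.1 hk
    obtain ⟨b, hb⟩ := hp.out.dvd_choose_self (k := k + 1 + 1) (by omega) (by omega)
    rw [congrFun e 0, nsmul_eq_mul, hb, Nat.cast_mul, show k + 1 + 1 = 2 + k by ring, pow_add]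
    exact ⟨(b : R) * m ^ k * h 0, by ring⟩
  obtain ⟨h, -, e⟩ := hS.fwd_dvd hf (q + 2)
  rw [hc, congrFun e 0, nsmul_eq_mul] at hper
  have hu : IsUnit (1 + m * c) := IsLocalRing.notMem_maximalIdeal.1 fun hmem => by
    have := (IsLocalRing.maximalIdeal R).sub_mem hmem
      ((IsLocalRing.maximalIdeal R).mul_mem_right c (show m ∈ IsLocalRing.maximalIdeal R from hm))
    rw [add_sub_cancel_right] at this
    exact (IsLocalRing.maximalIdeal.isMaximal R).ne_top ((Ideal.eq_top_iff_one _).2 this)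
  refine (hu.dvd_mul_right).1 ⟨-h 0, mul_left_cancel₀ hm0 ?_⟩
  rw [show q + 2 - 1 = q + 1 from rfl]
  linear_combination -hper

end IsLattice

end Groth.Agent.SWTorsorLib
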