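import Groth.Prelude.Def_TwC
import Groth.Prelude.Def_Red
import Groth.Agent.GaPoints.Basic
import Groth.Agent.SWTorsorLib.Lattice
import Groth.Agent.GmTorsor.Points

/-! Finite flat group schemes of order `p` with constant generic fibre, through their integral points. -/

set_option autoImplicit false
set_option linter.all false
set_option backward.isDefEq.respectTransparency false
set_option backward.isDefEq.respectTransparency.types false

universe u v
open CategoryTheory Limits MonoidalCategory CartesianMonoidalCategory MonObj GrpObj AlgebraicGeometry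
open scoped TensorProduct
open Groth.Agent.GaPoints (ringMap exists_ringMap ringMap_comp_SpecMap ringMap_injective)
open Groth.Agent.GmTorsor (gammaSpec_map)

noncomputable section

namespace Groth.Agent.SWTorsorLib

/-- The map into an affine scheme with prescribed map on functions. -/
theorem spec_isoSpec_inv_appTop {Y : Scheme.{u}} [IsAffine Y] {C : Type u} [CommRing C] (ev : Γ(Y, ⊤) →+* C) (a : Γ(Y, ⊤)) :
    (Scheme.ΓSpecIso (CommRingCat.of C)).hom ((Spec.map (CommRingCat.ofHom ev) ≫ Y.isoSpec.inv).appTop a) = ev a := by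
  rw [Scheme.Hom.comp_appTop, CommRingCat.comp_apply]
  erw [gammaSpec_map]
  congr 1
  have e := congrArg (fun h : Y ⟶ Y => h.appTop a) Y.isoSpec.hom_inv_id
  simp only [Scheme.Hom.comp_appTop, Scheme.Hom.id_appTop, Scheme.isoSpec_hom, Scheme.toSpecΓ_appTop, CommRingCat.comp_apply, CommRingCat.id_apply] at e
  exact e

variable {R : Type u} [CommRing R]

/-- The base, as an object over itself. -/
abbrev basePt (R : Type u) [CommRing R] : Over (Spec (CommRingCat.of R)) :=
  (Spec (CommRingCat.of R)).asOver (Spec (CommRingCat.of R))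

theorem basePt_hom : (basePt R).hom = 𝟙 (Spec (CommRingCat.of R)) := by
  show Spec.map (CommRingCat.ofHom (algebraMap R R)) = 𝟙 _
  rw [Algebra.algebraMap_self]
  exact Spec.map_id _

abbrev toPt (T : Over (Spec (CommRingCat.of R))) : T ⟶ basePt R :=
  Over.homMk T.hom (by rw [basePt_hom]; exact Category.comp_id _)

variable {G : Over (Spec (CommRingCat.of R))}

/-- The value of a function at an integral point. -/
def val (s : basePt R ⟶ G) : Γ(G.left, ⊤) →+* R :=
  ((Scheme.ΓSpecIso (CommRingCat.of R)).hom.hom).comp s.left.appTop.hom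

theorem appTop_point (s : basePt R ⟶ G) (T : Over (Spec (CommRingCat.of R))) (a : Γ(G.left, ⊤)) :
    (toPt T ≫ s).left.appTop a = ringMap (R := CommRingCat.of R) T.hom (val s a) := by
  have e := ConcreteCategory.congr_hom (Iso.hom_inv_id (Scheme.ΓSpecIso (CommRingCat.of R))) (s.left.appTop a)
  rw [CommRingCat.comp_apply, CommRingCat.id_apply] at e
  show T.hom.appTop (s.left.appTop a) = T.hom.appTop ((Scheme.ΓSpecIso (CommRingCat.of R)).inv _)
  exact congrArg _ e.symm

theorem val_ext [IsAffine G.left] {s s' : basePt R ⟶ G} (h : ∀ a, val s a = val s' a) : s = s' :=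
  Over.OverMorphism.ext (ext_of_isAffine (CommRingCat.hom_ext (RingHom.ext fun a =>
    (ConcreteCategory.bijective_of_isIso (Scheme.ΓSpecIso (CommRingCat.of R)).hom).1 (h a))))

theorem val_str (s : basePt R ⟶ G) (r : R) : val s (ringMap (R := CommRingCat.of R) G.hom r) = r := by
  have e : ringMap (R := CommRingCat.of R) (s.left ≫ G.hom) r = ringMap (R := CommRingCat.of R) (𝟙 _) r :=
    congrArg (fun q : Spec (CommRingCat.of R) ⟶ Spec (CommRingCat.of R) => ringMap (R := CommRingCat.of R) q r)
      ((Over.w s).trans basePt_hom)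
  show (Scheme.ΓSpecIso (CommRingCat.of R)).hom (s.left.appTop _) = r
  refine (congrArg _ (Eq.trans ?_ e)).trans ?_
  · simp [ringMap, -Over.w]
  · simp [ringMap]

theorem val_translate [GrpObj G] (s s' : basePt R ⟶ G) (a : Γ(G.left, ⊤)) :
    val s' ((𝟙 G * (toPt G ≫ s)).left.appTop a) = val (s' * s) a := by
  have e : s' ≫ (𝟙 G * (toPt G ≫ s)) = s' * s := by
    rw [MonObj.comp_mul, Category.comp_id, ← Category.assoc, show s' ≫ toPt G = 𝟙 _ from
      Over.OverMorphism.ext ((Over.w s').trans basePt_hom), Category.id_comp]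
  rw [← e]
  simp [val]
  rfl

/-- Translation by a point congruent to the unit modulo `m` is the identity modulo `m`. -/
theorem exists_translate_sub [GrpObj G] [IsAffine G.left] (s : basePt R ⟶ G) (m : R)
    (hs : ∀ a, m ∣ val s a - val 1 a) (a : Γ(G.left, ⊤)) :
    ∃ b, (𝟙 G * (toPt G ≫ s)).left.appTop a - a = ringMap (R := CommRingCat.of R) G.hom m * b := by
  let C := Γ(G.left, ⊤) ⧸ Ideal.span {ringMap (R := CommRingCat.of R) G.hom m}
  let mkC : Γ(G.left, ⊤) →+* C := Ideal.Quotient.mk _
  let q : Spec (CommRingCat.of C) ⟶ G.left := Spec.map (CommRingCat.ofHom mkC) ≫ G.left.isoSpec.inv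
  let T : Over (Spec (CommRingCat.of R)) := Over.mk (q ≫ G.hom)
  let π : T ⟶ G := Over.homMk q
  have hm0 : ringMap (R := CommRingCat.of R) T.hom m = 0 := by
    apply (ConcreteCategory.bijective_of_isIso (Scheme.ΓSpecIso (CommRingCat.of C)).hom).1
    have e : ringMap (R := CommRingCat.of R) T.hom m = q.appTop (ringMap (R := CommRingCat.of R) G.hom m) := by
      simp [T, ringMap]
    rw [e, map_zero]
    exact (spec_isoSpec_inv_appTop mkC _).trans (Ideal.Quotient.eq_zero_iff_mem.2 (Ideal.mem_span_singleton_self _))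
  have h1 : toPt T ≫ s = 1 := by
    rw [← MonObj.comp_one (toPt T)]
    refine Over.OverMorphism.ext (ext_of_isAffine (CommRingCat.hom_ext (RingHom.ext fun b => ?_)))
    obtain ⟨c, hc⟩ := hs b
    refine (appTop_point s T b).trans (Eq.trans ?_ (appTop_point 1 T b).symm)
    rw [← sub_eq_zero, ← map_sub, hc, map_mul, hm0, zero_mul]
  have h2 : π ≫ (𝟙 G * (toPt G ≫ s)) = π := by
    rw [MonObj.comp_mul, Category.comp_id, ← Category.assoc, show π ≫ toPt G = toPt T from rfl, h1, _root_.mul_one]
  have h3 := congrArg (fun x : T ⟶ G => (Scheme.ΓSpecIso (CommRingCat.of C)).hom (x.left.appTop a)) h2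
  simp only [Over.comp_left, Scheme.Hom.comp_appTop, CommRingCat.comp_apply, π, Over.homMk_left] at h3
  erw [spec_isoSpec_inv_appTop mkC, spec_isoSpec_inv_appTop mkC] at h3
  obtain ⟨b, hb⟩ := Ideal.mem_span_singleton'.1 (Ideal.Quotient.eq.1 h3)
  exact ⟨b, by rw [_root_.mul_comm]; exact hb.symm⟩

variable {K : Type u} [Field K] [Algebra R K]

theorem finite_ringMap [IsFinite G.hom] : (ringMap (R := CommRingCat.of R) G.hom).Finite := by
  have h := IsFinite.finite_app G.hom ⊤ (isAffineOpen_top _)
  exact h.comp (RingHom.Finite.of_surjective _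
    (ConcreteCategory.bijective_of_isIso (Scheme.ΓSpecIso (CommRingCat.of R)).inv).2)

theorem flat_ringMap [IsAffine G.left] [Flat G.hom] : (ringMap (R := CommRingCat.of R) G.hom).Flat := by
  have h := (HasRingHomProperty.iff_of_isAffine (P := @Flat) (f := G.hom)).1 inferInstance
  exact RingHom.Flat.comp (RingHom.Flat.of_bijective
    (ConcreteCategory.bijective_of_isIso (Scheme.ΓSpecIso (CommRingCat.of R)).inv)) h

theorem exists_point_of_generic [IsAffine G.left] [IsFinite G.hom] [IsDomain R] [IsIntegrallyClosed R] [IsFractionRing R K]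
    (x : Spec (CommRingCat.of K) ⟶ G.left) (hx : x ≫ G.hom = Spec.map (CommRingCat.ofHom (algebraMap R K))) :
    ∃ s : basePt R ⟶ G, Spec.map (CommRingCat.ofHom (algebraMap R K)) ≫ s.left = x := by
  letI : Algebra R Γ(G.left, ⊤) := (ringMap (R := CommRingCat.of R) G.hom).toAlgebra
  haveI : Module.Finite R Γ(G.left, ⊤) := finite_ringMap
  let g : Γ(G.left, ⊤) →ₐ[R] K :=
    { ((Scheme.ΓSpecIso (CommRingCat.of K)).hom.hom).comp x.appTop.hom with
      commutes' := fun r => by
        show (Scheme.ΓSpecIso (CommRingCat.of K)).hom (x.appTop (ringMap (R := CommRingCat.of R) G.hom r)) = _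
        have e : ringMap (R := CommRingCat.of R) (x ≫ G.hom) r = x.appTop (ringMap (R := CommRingCat.of R) G.hom r) := by
          simp [ringMap]
        rw [← e, hx]
        show (Scheme.ΓSpecIso (CommRingCat.of K)).hom ((Spec.map (CommRingCat.ofHom (algebraMap R K))).appTop
          ((Scheme.ΓSpecIso (CommRingCat.of R)).inv r)) = _
        erw [gammaSpec_map]
        rw [Iso.inv_hom_id_apply] }
  have hint : ∀ a, ∃ r, algebraMap R K r = g a := fun a =>
    IsIntegrallyClosed.isIntegral_iff.1 ((Algebra.IsIntegral.isIntegral (R := R) a).map g)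
  choose ev hev using hint
  have hinj : Function.Injective (algebraMap R K) := IsFractionRing.injective R K
  let evh : Γ(G.left, ⊤) →+* R :=
    { toFun := ev
      map_one' := hinj (by rw [hev, map_one, map_one])
      map_zero' := hinj (by rw [hev, map_zero, map_zero])
      map_add' := fun a b => hinj (by rw [hev, map_add, map_add, hev, hev])
      map_mul' := fun a b => hinj (by rw [hev, map_mul, map_mul, hev, hev]) }
  let q : Spec (CommRingCat.of R) ⟶ G.left := Spec.map (CommRingCat.ofHom evh) ≫ G.left.isoSpec.inv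
  have hq : ∀ a, (Scheme.ΓSpecIso (CommRingCat.of R)).hom (q.appTop a) = ev a := fun a => spec_isoSpec_inv_appTop evh a
  have hw : q ≫ G.hom = (basePt R).hom := by
    rw [basePt_hom]
    refine ringMap_injective (RingHom.ext fun r => ?_)
    apply (ConcreteCategory.bijective_of_isIso (Scheme.ΓSpecIso (CommRingCat.of R)).hom).1
    have e : ringMap (R := CommRingCat.of R) (q ≫ G.hom) r = q.appTop (ringMap (R := CommRingCat.of R) G.hom r) := by
      simp [ringMap]
    rw [e, hq, show ev (ringMap (R := CommRingCat.of R) G.hom r) = r from hinj ((hev _).trans (g.commutes r))]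
    simp [ringMap]
  refine ⟨Over.homMk q hw, ext_of_isAffine (CommRingCat.hom_ext (RingHom.ext fun a => ?_))⟩
  apply (ConcreteCategory.bijective_of_isIso (Scheme.ΓSpecIso (CommRingCat.of K)).hom).1
  show (Scheme.ΓSpecIso (CommRingCat.of K)).hom ((Spec.map (CommRingCat.ofHom (algebraMap R K))).appTop (q.appTop a)) = g a
  erw [gammaSpec_map]
  rw [hq, hev]

theorem val_ext_generic [IsAffine G.left] [IsDomain R] [IsFractionRing R K] {s s' : basePt R ⟶ G}
    (h : Spec.map (CommRingCat.ofHom (algebraMap R K)) ≫ s.left = Spec.map (CommRingCat.ofHom (algebraMap R K)) ≫ s'.left) :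
    s = s' := by
  refine val_ext fun a => IsFractionRing.injective R K ?_
  have e := congrArg (fun x => (Scheme.ΓSpecIso (CommRingCat.of K)).hom (Scheme.Hom.appTop x a)) h
  simp only [Scheme.Hom.comp_appTop, CommRingCat.comp_apply] at e
  erw [gammaSpec_map, gammaSpec_map] at e
  exact e

theorem injective_fst_appTop [IsAffine G.left] [Flat G.hom] [IsDomain R] [IsFractionRing R K] {a : Γ(G.left, ⊤)}
    (ha : (pullback.fst G.hom (Spec.map (CommRingCat.ofHom (algebraMap R K)))).appTop a = 0) : a = 0 := by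
  letI : Algebra R Γ(G.left, ⊤) := (ringMap (R := CommRingCat.of R) G.hom).toAlgebra
  haveI : Module.Flat R Γ(G.left, ⊤) := flat_ringMap
  let iL : Γ(G.left, ⊤) →+* Γ(G.left, ⊤) ⊗[R] K := Algebra.TensorProduct.includeLeftRingHom
  let iR : K →+* Γ(G.left, ⊤) ⊗[R] K := (Algebra.TensorProduct.includeRight : K →ₐ[R] Γ(G.left, ⊤) ⊗[R] K).toRingHom
  have hw : (Spec.map (CommRingCat.ofHom iL) ≫ G.left.isoSpec.inv) ≫ G.hom =
      Spec.map (CommRingCat.ofHom iR) ≫ Spec.map (CommRingCat.ofHom (algebraMap R K)) := by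
    refine ringMap_injective (RingHom.ext fun r => ?_)
    apply (ConcreteCategory.bijective_of_isIso (Scheme.ΓSpecIso (CommRingCat.of (Γ(G.left, ⊤) ⊗[R] K))).hom).1
    have e : ringMap (R := CommRingCat.of R) ((Spec.map (CommRingCat.ofHom iL) ≫ G.left.isoSpec.inv) ≫ G.hom) r =
        (Spec.map (CommRingCat.ofHom iL) ≫ G.left.isoSpec.inv).appTop (ringMap (R := CommRingCat.of R) G.hom r) := by
      simp [ringMap]
    rw [e, spec_isoSpec_inv_appTop, ringMap_comp_SpecMap]
    show iL (algebraMap R Γ(G.left, ⊤) r) = (Scheme.ΓSpecIso _).hom ((Spec.map (CommRingCat.ofHom iR)).appTop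
      ((Scheme.ΓSpecIso (CommRingCat.of K)).inv (algebraMap R K r)))
    erw [gammaSpec_map]
    rw [Iso.inv_hom_id_apply]
    exact ((Algebra.TensorProduct.includeLeft : Γ(G.left, ⊤) →ₐ[R] Γ(G.left, ⊤) ⊗[R] K).commutes r).trans
      ((Algebra.TensorProduct.includeRight : K →ₐ[R] Γ(G.left, ⊤) ⊗[R] K).commutes r).symm
  have e := spec_isoSpec_inv_appTop iL a
  rw [← pullback.lift_fst _ _ hw, Scheme.Hom.comp_appTop, CommRingCat.comp_apply, ha, map_zero, map_zero] at e
  refine Algebra.TensorProduct.includeLeft_injective (S := R) (IsFractionRing.injective R K) ?_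
  exact e.symm.trans (map_zero _).symm

theorem eq_zero_of_forall_iota {I : Type v} [Small.{u} I] {Z : Scheme.{u}} (y : Γ(∐ (fun _ : I => Z), ⊤))
    (h : ∀ i, (Sigma.ι (fun _ : I => Z) i).appTop y = 0) : y = 0 := by
  let X := ∐ (fun _ : I => Z)
  let P := CommRingCat.of (MvPolynomial PUnit.{u+1} (ULift.{u} ℤ))
  let g (z : Γ(X, ⊤)) : MvPolynomial PUnit.{u+1} (ULift.{u} ℤ) →+* Γ(X, ⊤) := MvPolynomial.eval₂Hom ((Int.castRingHom _).comp ULift.ringEquiv.toRingHom) fun _ => z
  obtain ⟨q, hq⟩ := exists_ringMap (R := P) (g y)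
  obtain ⟨q', hq'⟩ := exists_ringMap (R := P) (g 0)
  have e : q = q' := by
    refine Sigma.hom_ext _ _ fun i => ringMap_injective ?_
    have hc : ∀ (q₀ : X ⟶ Spec P), ringMap (Sigma.ι (fun _ : I => Z) i ≫ q₀) =
        (Sigma.ι (fun _ : I => Z) i).appTop.hom.comp (ringMap q₀) := fun q₀ => RingHom.ext fun z => by simp [ringMap]
    rw [hc, hc, hq, hq']
    refine MvPolynomial.ringHom_ext (fun n => ?_) fun _ => ?_
    · exact congrArg _ ((MvPolynomial.eval₂Hom_C _ _ n).trans (MvPolynomial.eval₂Hom_C _ _ n).symm)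
    · refine (congrArg _ (MvPolynomial.eval₂Hom_X' _ _ _)).trans ((h i).trans (Eq.symm ?_))
      exact (congrArg (Sigma.ι (fun _ : I => Z) i).appTop.hom (MvPolynomial.eval₂Hom_X' _ _ _)).trans (map_zero _)
  have e' := RingHom.congr_fun (hq.symm.trans ((congrArg ringMap e).trans hq')) (MvPolynomial.X PUnit.unit)
  exact (MvPolynomial.eval₂Hom_X' _ _ _).symm.trans (e'.trans (MvPolynomial.eval₂Hom_X' _ _ _))

theorem homEquiv_symm_mul {S S' : Scheme.{u}} (f : S' ⟶ S) {T : Over S'} {G₀ : Over S} [GrpObj G₀]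
    (a b : T ⟶ Red.bc f G₀) :
    ((Over.mapPullbackAdj f).homEquiv T G₀).symm (a * b) =
      ((Over.mapPullbackAdj f).homEquiv T G₀).symm a * ((Over.mapPullbackAdj f).homEquiv T G₀).symm b := by
  obtain ⟨x, rfl⟩ := ((Over.mapPullbackAdj f).homEquiv T G₀).surjective a
  obtain ⟨y, rfl⟩ := ((Over.mapPullbackAdj f).homEquiv T G₀).surjective b
  have hm : (Over.mapPullbackAdj f).homEquiv T G₀ (x * y) =
      (Over.mapPullbackAdj f).homEquiv T G₀ x * (Over.mapPullbackAdj f).homEquiv T G₀ y := by
    simp only [Adjunction.homEquiv_unit, Functor.map_mul, MonObj.comp_mul]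
  rw [Equiv.symm_apply_apply, Equiv.symm_apply_apply, ← hm, Equiv.symm_apply_apply]

section GenericPoints
variable {S : Scheme.{u}} {L : Type u} [Field L] {G₀ : Over S} (j : Spec (CommRingCat.of L) ⟶ S)
  {I : Type v} [Small.{u} I] (e : Red.bc j G₀ ≅ TwC.const (Spec (CommRingCat.of L)) I)

/-- The point of index `i` over the generic point. -/
def genPt (i : I) : (Over.map j).obj (𝟙_ (Over (Spec (CommRingCat.of L)))) ⟶ G₀ :=
  ((Over.mapPullbackAdj j).homEquiv _ G₀).symm (TwC.pt _ _ i ≫ e.inv)

theorem genPt_left (i : I) : (genPt j e i).left =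
    (Sigma.ι (fun _ : I => Spec (CommRingCat.of L)) i ≫ e.inv.left) ≫ pullback.fst G₀.hom j := by
  simp [genPt, Adjunction.homEquiv_counit, TwC.pt]

theorem genPt_injective : Function.Injective (genPt j e) := by
  intro a b h
  by_contra hne
  have h2 : TwC.pt (Spec (CommRingCat.of L)) I a = TwC.pt (Spec (CommRingCat.of L)) I b :=
    (cancel_mono e.inv).1 (((Over.mapPullbackAdj j).homEquiv _ G₀).symm.injective h)
  have h2' : Sigma.ι (fun _ : I => Spec (CommRingCat.of L)) a = Sigma.ι (fun _ : I => Spec (CommRingCat.of L)) b :=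
    congrArg CommaMorphism.left h2
  have h3 := congrArg (fun q : Spec (CommRingCat.of L) ⟶ ∐ (fun _ : I => Spec (CommRingCat.of L)) => q (IsLocalRing.closedPoint L)) h2'
  have hd := AlgebraicGeometry.disjoint_opensRange_sigmaι (fun _ : I => Spec (CommRingCat.of L)) a b hne
  exact Set.disjoint_iff.1 (TopologicalSpace.Opens.coe_disjoint.2 hd) ⟨⟨_, rfl⟩, ⟨_, h3.symm⟩⟩

theorem fst_appTop_eq_zero {a : Γ(G₀.left, ⊤)} (h : ∀ i, (genPt j e i).left.appTop a = 0) :
    (pullback.fst G₀.hom j).appTop a = 0 := by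
  have h0 : e.inv.left.appTop ((pullback.fst G₀.hom j).appTop a) = 0 := by
    refine eq_zero_of_forall_iota _ fun i => ?_
    have hx := h i
    rw [genPt_left, Scheme.Hom.comp_appTop, Scheme.Hom.comp_appTop, CommRingCat.comp_apply, CommRingCat.comp_apply] at hx
    exact hx
  haveI : IsIso e.inv.left := inferInstanceAs (IsIso ((Over.forget _).map e.inv))
  exact (ConcreteCategory.bijective_of_isIso e.inv.left.appTop).1 (h0.trans (map_zero _).symm)

end GenericPoints

theorem genPt_mul {S : Scheme.{u}} {L : Type u} [Field L] {G₀ : Over S} [GrpObj G₀] (j : Spec (CommRingCat.of L) ⟶ S)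
    {I : Type v} [Group I] [Small.{u} I] (e : Red.bc j G₀ ≅ TwC.const (Spec (CommRingCat.of L)) I)
    (he : TwC.IsConstGrp I (Red.bc j G₀) e) (a b : I) : genPt j e a * genPt j e b = genPt j e (a * b) :=
  (homEquiv_symm_mul j _ _).symm.trans (congrArg ((Over.mapPullbackAdj j).homEquiv _ G₀).symm (he a b))

theorem exists_points [GrpObj G] [IsFinite G.hom] [Flat G.hom] [IsDomain R] [IsIntegrallyClosed R] [IsFractionRing R K]
    {M : Type v} [AddGroup M] [Small.{u} (Multiplicative M)]
    (e : Red.bc (Spec.map (CommRingCat.ofHom (algebraMap R K))) G ≅ TwC.const (Spec (CommRingCat.of K)) (Multiplicative M))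
    (he : TwC.IsConstGrp (Multiplicative M) (Red.bc (Spec.map (CommRingCat.ofHom (algebraMap R K))) G) e) :
    ∃ σ : M → (basePt R ⟶ G), (∀ a b, σ a * σ b = σ (a + b)) ∧ Function.Injective σ ∧
      ∀ a, (∀ n, val (σ n) a = 0) → a = 0 := by
  haveI : IsAffine G.left := isAffine_of_isAffineHom G.hom
  let j := Spec.map (CommRingCat.ofHom (algebraMap R K))
  let T₀ := (Over.map j).obj (𝟙_ (Over (Spec (CommRingCat.of K))))
  let x : M → (T₀ ⟶ G) := fun n => genPt j e (Multiplicative.ofAdd n)
  have hTj : T₀.hom = j := Category.id_comp j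
  choose σ hσ using fun n => exists_point_of_generic (K := K) (x n).left ((Over.w (x n)).trans hTj)
  let ρ : T₀ ⟶ basePt R := Over.homMk j ((congrArg (j ≫ ·) basePt_hom).trans ((Category.comp_id j).trans hTj.symm))
  have hρ : ∀ n, ρ ≫ σ n = x n := fun n => Over.OverMorphism.ext (hσ n)
  refine ⟨σ, fun a b => val_ext_generic (K := K) ?_, fun a b hab => ?_, fun a ha => injective_fst_appTop (K := K) ?_⟩
  · refine congrArg CommaMorphism.left (show ρ ≫ (σ a * σ b) = ρ ≫ σ (a + b) from ?_)
    rw [MonObj.comp_mul, hρ, hρ, hρ]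
    exact genPt_mul j e he _ _
  · exact Multiplicative.ofAdd.injective (genPt_injective j e (show x a = x b by rw [← hρ, ← hρ, hab]))
  · refine fst_appTop_eq_zero j e fun i => ?_
    show (x (Multiplicative.toAdd i)).left.appTop a = 0
    rw [← hσ, Scheme.Hom.comp_appTop, CommRingCat.comp_apply]
    have h1 : (σ (Multiplicative.toAdd i)).left.appTop a = 0 :=
      (ConcreteCategory.bijective_of_isIso (Scheme.ΓSpecIso (CommRingCat.of R)).hom).1 ((ha _).trans (map_zero _).symm)
    exact (congrArg _ h1).trans (map_zero _)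

end Groth.Agent.SWTorsorLib
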