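import Groth.Agent.SWTorsorLib.Points
import Groth.Agent.SWTorsorLib.Alg
import Groth.Agent.GmTorsor.Main

/-! Torsors of `G^(λ)` over a flat scheme over the base are Zariski locally trivial. -/

set_option autoImplicit false
set_option linter.all false
set_option backward.isDefEq.respectTransparency false

universe u
open CategoryTheory Limits MonoidalCategory CartesianMonoidalCategory MonObj GrpObj AlgebraicGeometry
open scoped TensorProduct
open Groth.Agent.GmTorsor

noncomputable section

namespace Groth.Agent.SWTorsorLib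

variable {R : Type u} [CommRing R] [IsDomain R] {lam : R} {S : Scheme.{u}} (f : S ⟶ Spec (CommRingCat.of R))

theorem strC_base {A C : Type u} [CommRing A] [CommRing C] [Algebra A C] (j : Spec (CommRingCat.of A) ⟶ S) (r : R) :
    strC f (base j C) r = algebraMap A C (strC f j r) :=
  strC_mor f (algebraMap A C) rfl r

theorem isLeftRegular_strC [Flat f] (hlam : lam ≠ 0) {A C : Type u} [CommRing A] [CommRing C] [Algebra A C]
    (j : Spec (CommRingCat.of A) ⟶ S) [Flat j] [Module.Flat A C] :
    IsLeftRegular (algebraMap A C (strC f j lam)) := by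
  have hfl : Flat (Spec.map (Spec.preimage (j ≫ f))) := by rw [Spec.map_preimage]; infer_instance
  letI : Algebra R A := (Spec.preimage (j ≫ f)).hom.toAlgebra
  haveI : Module.Flat R A := (HasRingHomProperty.Spec_iff (P := @Flat)).mp hfl
  have h1 : IsSMulRegular A (strC f j lam) := by
    have h := Module.Flat.isSMulRegular_of_isRegular (M := A) (IsRegular.of_ne_zero hlam)
    intro x y hxy
    refine h ?_
    show lam • x = lam • y
    rw [Algebra.smul_def, Algebra.smul_def, show algebraMap R A lam = strC f j lam from (strC_eq f j lam).symm]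
    exact hxy
  have h2 : IsSMulRegular C (algebraMap A C (strC f j lam)) := h1.of_flat (S := C)
  exact fun x y hxy => h2 hxy

theorem exists_hasSectionOver [Flat f] (hlam : lam ≠ 0) {X : Over S}
    (a : AlgGrp.Action (Red.bc f (SekSuwa.G R lam)) X) (ha : NonAbH1.IsPseudoTorsorSch a)
    {A B : Type u} [CommRing A] [CommRing B] [Algebra A B] [Module.FaithfullyFlat A B]
    (j : Spec (CommRingCat.of A) ⟶ S) [Flat j] (x : Over.mk (base j B) ⟶ X) (p : PrimeSpectrum A) :
    ∃ t : A, t ∉ p.asIdeal ∧ NonAbH1.HasSectionOver X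
      (Spec.map (CommRingCat.ofHom (algebraMap A (Localization.Away t))) ≫ j) := by
  obtain ⟨g, hg, hc⟩ := exists_cocycle a ha j x
  have hc' := congrArg (sgVal f) hc
  rw [sgVal_mul, sgVal_mor, sgVal_mor, sgVal_mor, strC_base] at hc'
  have hU := isUnit_sgVal f g
  rw [strC_base] at hU
  obtain ⟨t, ht, key⟩ := exists_trivializing (strC f j lam) (sgVal f g) hU hc' p.asIdeal
  refine ⟨t, ht, ?_⟩
  let A' := Localization.Away t
  let B' := A' ⊗[A] B
  let j' := Spec.map (CommRingCat.ofHom (algebraMap A A')) ≫ j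
  let incB : B →ₐ[A] B' := (Algebra.TensorProduct.includeRight : B →ₐ[A] B')
  have hincB : Spec.map (CommRingCat.ofHom incB.toRingHom) ≫ base j B = base j' B' := by
    simp only [base, j', ← Category.assoc, ← Spec.map_comp, ← CommRingCat.ofHom_comp]
    congr 3
    rw [← IsScalarTower.algebraMap_eq A A' B']
    exact incB.comp_algebraMap
  have htu : IsUnit (algebraMap A B' t) := by
    rw [IsScalarTower.algebraMap_eq A A' B', RingHom.comp_apply]
    exact (IsLocalization.Away.algebraMap_isUnit t).map (algebraMap A' B')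
  obtain ⟨y, hy, key⟩ := key B' incB htu
  have hj' : ∀ (C : Type u) [CommRing C] [Algebra A C] [Algebra A' C] [IsScalarTower A A' C],
      strC f (base j' C) lam = algebraMap A C (strC f j lam) := fun C _ _ _ _ => by
    rw [strC_base, strC_mor f (algebraMap A A') (b := j) (b' := j') rfl, ← IsScalarTower.algebraMap_apply A A' C]
  obtain ⟨h, hh⟩ := exists_sgVal f (b := base j' B') (lam := lam) y (by rw [hj']; exact hy)
  let q : Over.mk (base j' B') ⟶ Over.mk (base j B) := mor incB.toRingHom hincB
  let z := lift h (q ≫ x) ≫ a.act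
  let l' : B' →ₐ[A'] B' ⊗[A'] B' := Algebra.TensorProduct.includeLeft
  let r' : B' →ₐ[A'] B' ⊗[A'] B' := Algebra.TensorProduct.includeRight
  let χ := Algebra.TensorProduct.productMap (R := A) (S := B' ⊗[A'] B')
    ((l'.restrictScalars A).comp incB) ((r'.restrictScalars A).comp incB)
  have hχl : ∀ b : B, χ (b ⊗ₜ[A] 1) = l' (incB b) := fun b => Algebra.TensorProduct.productMap_left_apply _ _ b
  have hχr : ∀ b : B, χ ((1 : B) ⊗ₜ[A] b) = r' (incB b) := fun b => Algebra.TensorProduct.productMap_right_apply _ _ b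
  haveI : Module.Flat A A' := IsLocalization.flat A' (Submonoid.powers t)
  haveI : Module.Flat A (B' ⊗[A'] B') := Module.Flat.trans A A' _
  have hreg := isLeftRegular_strC f hlam (C := B' ⊗[A'] B') j
  have hkey := key (B' ⊗[A'] B') (l'.restrictScalars A) (r'.restrictScalars A) χ hχl hχr hreg
  have hχ : Spec.map (CommRingCat.ofHom χ.toRingHom) ≫ base j (B ⊗[A] B) = base j' (B' ⊗[A'] B') := by
    simp only [base, j', ← Category.assoc, ← Spec.map_comp, ← CommRingCat.ofHom_comp]
    congr 3
    rw [← IsScalarTower.algebraMap_eq A A' (B' ⊗[A'] B')]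
    exact χ.comp_algebraMap
  let Q : Over.mk (base j' (B' ⊗[A'] B')) ⟶ Over.mk (base j (B ⊗[A] B)) := mor χ.toRingHom hχ
  have el : amor j' (C' := B' ⊗[A'] B') l' ≫ q = Q ≫ amor j (Algebra.TensorProduct.includeLeft : B →ₐ[A] B ⊗[A] B) := by
    refine Over.OverMorphism.ext ?_
    simp only [q, Q, amor, mor, Over.comp_left, Over.homMk_left, ← Spec.map_comp, ← CommRingCat.ofHom_comp]
    congr 2
    exact RingHom.ext fun b => (hχl b).symm
  have er : amor j' (C' := B' ⊗[A'] B') r' ≫ q = Q ≫ amor j (Algebra.TensorProduct.includeRight : B →ₐ[A] B ⊗[A] B) := by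
    refine Over.OverMorphism.ext ?_
    simp only [q, Q, amor, mor, Over.comp_left, Over.homMk_left, ← Spec.map_comp, ← CommRingCat.ofHom_comp]
    congr 2
    exact RingHom.ext fun b => (hχr b).symm
  have hz : amor j' (C' := B' ⊗[A'] B') l' ≫ z = amor j' (C' := B' ⊗[A'] B') r' ≫ z := by
    simp only [z, comp_act]
    rw [← Category.assoc, el, ← Category.assoc, er, Category.assoc, Category.assoc, ← hg, comp_act, ← act_mul]
    congr 2
    refine sgVal_injective f ?_
    rw [sgVal_mul, sgVal_mor, sgVal_mor, sgVal_mor, hh, hj']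
    exact hkey
  obtain ⟨s, hs⟩ := exists_descent A' B' z.left (congrArg CommaMorphism.left hz)
  refine ⟨s, ?_⟩
  haveI := epi_spec A' B'
  rw [← cancel_epi (Spec.map (CommRingCat.ofHom (algebraMap A' B'))), reassoc_of% hs]
  exact Over.w z

theorem isTorsorFor_zariski [Flat f] (hlam : lam ≠ 0) {X : Over S}
    (a : AlgGrp.Action (Red.bc f (SekSuwa.G R lam)) X) (h : NonAbH1.IsTorsorFor Scheme.fpqcPrecoverage a) :
    NonAbH1.IsTorsorFor Scheme.zariskiPrecoverage a := by
  obtain ⟨T, σ, hT, hX⟩ := TorsorDesc.exists_trivializing a h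
  haveI : SchDesc.IsFpqc T.hom := hT
  haveI : IsZariskiLocalAtTarget (@Flat : MorphismProperty Scheme.{u}) :=
    HasRingHomProperty.instIsZariskiLocalAtTarget _
  haveI : IsAffineHom X.hom :=
    TorsorDesc.prop_of_isFpqc (@IsAffineHom : MorphismProperty Scheme.{u}) FpqcDesc.isAffineHom_descends X.hom T.hom (hX _ (isAffineHom_bc f lam))
  haveI : Flat X.hom := TorsorDesc.prop_of_isFpqc (@Flat : MorphismProperty Scheme.{u}) inferInstance X.hom T.hom (hX _ (flat_bc f lam))
  haveI : Surjective X.hom := ⟨fun s => by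
    obtain ⟨t, rfl⟩ := T.hom.surjective s
    exact ⟨σ.left t, by rw [← Scheme.Hom.comp_apply, Over.w σ]⟩⟩
  refine ⟨h.1, isLocallyTrivialFor_zariski X fun s => ?_⟩
  obtain ⟨A, B, _, _, _, _, j, x, hj, ⟨p, rfl⟩, hx⟩ := exists_local_point X s
  haveI : Flat j := inferInstance
  obtain ⟨t, ht, hsec⟩ := exists_hasSectionOver f hlam a h.1 j (Over.homMk x hx) p
  haveI : IsOpenImmersion (Spec.map (CommRingCat.ofHom (algebraMap A (Localization.Away t)))) :=
    IsOpenImmersion.of_isLocalization t
  refine ⟨_, _, inferInstance, ?_, hsec⟩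
  obtain ⟨p', hp'⟩ : p ∈ Set.range (PrimeSpectrum.comap (algebraMap A (Localization.Away t))) := by
    rw [PrimeSpectrum.localization_away_comap_range (Localization.Away t) t]
    exact ht
  exact ⟨p', by rw [Scheme.Hom.comp_apply]; exact congrArg j hp'⟩

end Groth.Agent.SWTorsorLib
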