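import Groth.Agent.SWTorsorLib.OrdP
import Groth.Agent.SWTorsorLib.GenConst

/-! A finite flat group of order `p` with constant generic fibre is some `G_{λ,1}`. -/

set_option autoImplicit false
set_option linter.all false
set_option backward.isDefEq.respectTransparency false
set_option backward.isDefEq.respectTransparency.types false

universe u v
open CategoryTheory Limits MonoidalCategory CartesianMonoidalCategory MonObj GrpObj AlgebraicGeometry
open scoped TensorProduct
open Groth.Agent.GaPoints (ringMap exists_ringMap ringMap_comp_SpecMap ringMap_injective)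

noncomputable section

namespace Groth.Agent.SWTorsorLib

variable {R : Type u} [CommRing R]

theorem toSpecΓ_comp_rm {Y : Scheme.{u}} {A : Type u} [CommRing A] (θ : A →+* Γ(Y, ⊤)) (z : A) :
    ringMap (R := CommRingCat.of A) (Y.toSpecΓ ≫ Spec.map (CommRingCat.ofHom θ)) z = θ z := by
  rw [ringMap_comp_SpecMap]
  simp [ringMap, Scheme.toSpecΓ_appTop]

theorem comp_pt_ext {A : Type u} [CommRing A] [Algebra R A] {G : Over (Spec (CommRingCat.of R))}
    (s : basePt R ⟶ G) (χ : A →ₐ[R] R) (θ : A →+* Γ(G.left, ⊤))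
    (φ : G ⟶ (Spec (CommRingCat.of A)).asOver (Spec (CommRingCat.of R)))
    (hφ : φ.left = G.left.toSpecΓ ≫ Spec.map (CommRingCat.ofHom θ)) (h : ∀ z, val s (θ z) = χ z) :
    s ≫ φ = S14683.pt χ := by
  refine Over.OverMorphism.ext (ringMap_injective (R := CommRingCat.of A) (RingHom.ext fun z => ?_))
  apply (ConcreteCategory.bijective_of_isIso (Scheme.ΓSpecIso (CommRingCat.of R)).hom).1
  show (Scheme.ΓSpecIso (CommRingCat.of R)).hom (ringMap (R := CommRingCat.of A) (s.left ≫ φ.left) z) =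
    (Scheme.ΓSpecIso (CommRingCat.of R)).hom (ringMap (R := CommRingCat.of A) (Spec.map (CommRingCat.ofHom χ.toRingHom)) z)
  have e : ringMap (R := CommRingCat.of A) (s.left ≫ φ.left) z = s.left.appTop (ringMap (R := CommRingCat.of A) φ.left z) := by
    simp [ringMap]
  rw [e, hφ, toSpecΓ_comp_rm, rm_spec]
  refine (h z).trans ?_
  simp [ringMap]

section
variable [IsDomain R] [IsDiscreteValuationRing R] {p : ℕ} [hp : Fact p.Prime] [CharP (IsLocalRing.ResidueField R) p]
  {G : Over (Spec (CommRingCat.of R))} [GrpObj G] [IsAffine G.left]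

theorem isLattice_of_points (σ : ZMod p → (basePt R ⟶ G)) (hσ : ∀ a b, σ a * σ b = σ (a + b))
    (hinj : Function.Injective σ) (h0 : σ 0 = 1) [Algebra R Γ(G.left, ⊤)]
    (halg : ∀ r, algebraMap R Γ(G.left, ⊤) r = ringMap (R := CommRingCat.of R) G.hom r)
    (ev : Γ(G.left, ⊤) →ₐ[R] (ZMod p → R)) (hev : ∀ a n, ev a n = val (σ n) a) :
    ∃ m : R, m ≠ 0 ∧ IsLattice m ev.range := by
  let e : ZMod p → (Γ(G.left, ⊤) →ₗ[R] R) := fun n => (LinearMap.proj n).comp ev.toLinearMap
  let J : Submodule R R := (LinearMap.ker (e 0)).map (e 1)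
  obtain ⟨m, hm⟩ : ∃ m, J = Submodule.span R {m} := ⟨_, (Submodule.IsPrincipal.span_singleton_generator J).symm⟩
  have hdvd : ∀ a, m ∣ val (σ 1) a - val (σ 0) a := fun a => by
    have hmem : ev a 1 - ev a 0 ∈ J := by
      refine ⟨a - algebraMap R _ (ev a 0), ?_, ?_⟩
      · show ev (a - algebraMap R _ (ev a 0)) 0 = 0
        rw [map_sub, AlgHom.commutes]
        simp
      · show ev (a - algebraMap R _ (ev a 0)) 1 = _
        rw [map_sub, AlgHom.commutes]
        simp
    rw [hm, Submodule.mem_span_singleton] at hmem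
    obtain ⟨c, hc⟩ := hmem
    exact ⟨c, by rw [← hev, ← hev, ← hc, smul_eq_mul, _root_.mul_comm]⟩
  refine ⟨m, fun hm0 => ?_, fun g hg => ?_, ?_⟩
  · haveI : Fact (1 < p) := ⟨hp.out.one_lt⟩
    refine one_ne_zero (α := ZMod p) (hinj (val_ext fun a => sub_eq_zero.1 ?_))
    have := hdvd a
    rw [hm0] at this
    exact zero_dvd_iff.1 this
  · obtain ⟨a, rfl⟩ := hg
    obtain ⟨b, hb⟩ := exists_translate_sub (σ 1) m (fun c => by rw [← h0]; exact hdvd c) a
    refine ⟨ev b, ⟨b, rfl⟩, fun n => ?_⟩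
    have e1 := congrArg (val (σ n)) hb
    rw [map_sub, map_mul, val_translate, val_str, hσ] at e1
    show ev a (n + 1) - ev a n = m * ev b n
    rw [hev, hev, hev]
    exact e1
  · have hmem : m ∈ J := hm ▸ Submodule.mem_span_singleton_self m
    obtain ⟨a, ha, ha'⟩ := hmem
    exact ⟨ev a, ⟨a, rfl⟩, ha, ha'⟩

end

variable [IsDomain R] [IsDiscreteValuationRing R] {p : ℕ} [hp : Fact p.Prime] [CharP (IsLocalRing.ResidueField R) p]

theorem mul_compat {lam : R} (h : SekSuwa.DivCond lam p) {G : Over (Spec (CommRingCat.of R))} [GrpObj G]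
    (φ : G ⟶ SekSuwa.GK R lam p h) [IsIso φ] (σ : ZMod p → (basePt R ⟶ G)) (hσ : ∀ a b, σ a * σ b = σ (a + b))
    (χ : ZMod p → (SekSuwa.AK R lam p h →ₐ[R] R)) (hφσ : ∀ n, σ n ≫ φ = S14683.pt (χ n))
    (hχ : ∀ a b, S14683.pt (χ a) * S14683.pt (χ b) = S14683.pt (χ (a + b)))
    (hinj : Function.Injective fun n => χ n SekSuwa.AK.t) :
    μ[G] ≫ φ = (φ ⊗ₘ φ) ≫ μ[SekSuwa.GK R lam p h] := by
  let A := SekSuwa.AK R lam p h
  let u : (Spec (CommRingCat.of (A ⊗[R] A))).asOver (Spec (CommRingCat.of R)) ⟶ SekSuwa.GK R lam p h :=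
    S14683.pt (Algebra.TensorProduct.includeLeft : A →ₐ[R] A ⊗[R] A)
  let w : (Spec (CommRingCat.of (A ⊗[R] A))).asOver (Spec (CommRingCat.of R)) ⟶ SekSuwa.GK R lam p h :=
    S14683.pt (Algebra.TensorProduct.includeRight : A →ₐ[R] A ⊗[R] A)
  suffices key : ((u ≫ inv φ) * (w ≫ inv φ)) ≫ φ = u * w by
    haveI : Epi (lift u w) := S14683.epi_lift_pt (R := R) (A := A) (B := A)
    rw [← cancel_epi (inv φ ⊗ₘ inv φ), tensorHom_comp_tensorHom_assoc, IsIso.inv_hom_id, id_tensorHom_id, Category.id_comp,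
      ← cancel_epi (lift u w), lift_map_assoc, ← Category.assoc, ← Hom.mul_def]
    exact key.trans (Hom.mul_def _ _)
  obtain ⟨α, hα⟩ := S14683.pt_surjective (((u ≫ inv φ) * (w ≫ inv φ)) ≫ φ)
  obtain ⟨β, hβ⟩ := S14683.pt_surjective (u * w)
  rw [← hα, ← hβ]
  congr 1
  refine AlgHom.ext fun z => sub_eq_zero.1 ?_
  let E := FractionRing R
  let o : R →ₐ[R] E := Algebra.ofId R E
  let χE : Fin p → (A →ₐ[R] E) := fun i => o.comp (χ ((i : ℕ) : ZMod p))
  have hχE : Function.Injective fun i => χE i SekSuwa.AK.t := fun a b hab => by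
    have h1 : χ ((a : ℕ) : ZMod p) SekSuwa.AK.t = χ ((b : ℕ) : ZMod p) SekSuwa.AK.t := IsFractionRing.injective R E hab
    have h2 := congrArg ZMod.val (hinj h1)
    rwa [ZMod.val_natCast_of_lt a.2, ZMod.val_natCast_of_lt b.2, ← Fin.ext_iff] at h2
  refine S14683.eq_zero_of_points (lam_ne_zero h) (lam_ne_zero h) hp.out.pos E χE hχE χE hχE _ fun i j => ?_
  have hσ' : ∀ n, S14683.pt (χ n) ≫ inv φ = σ n := fun n => by rw [← hφσ, Category.assoc, IsIso.hom_inv_id, Category.comp_id]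
  let L := Algebra.TensorProduct.lift (χE i) (χE j) (fun _ _ => Commute.all _ _)
  have hu : S14683.pt L ≫ u = S14683.pt o ≫ S14683.pt (χ ((i : ℕ) : ZMod p)) := by
    rw [S14683.pt_comp, S14683.pt_comp, Algebra.TensorProduct.lift_comp_includeLeft]
  have hw : S14683.pt L ≫ w = S14683.pt o ≫ S14683.pt (χ ((j : ℕ) : ZMod p)) := by
    rw [S14683.pt_comp, S14683.pt_comp]
    congr 1
    ext z
    simp [L, χE]
  have e1 : S14683.pt L ≫ S14683.pt α = S14683.pt L ≫ S14683.pt β := by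
    rw [hα, hβ, ← Category.assoc, MonObj.comp_mul, ← Category.assoc, ← Category.assoc, hu, hw, Category.assoc,
      Category.assoc, hσ', hσ', ← MonObj.comp_mul, hσ, Category.assoc, hφσ, MonObj.comp_mul, hu, hw, ← MonObj.comp_mul, hχ]
  rw [S14683.pt_comp, S14683.pt_comp] at e1
  rw [map_sub, sub_eq_zero]
  exact AlgHom.congr_fun (S14683.pt_injective e1) z

theorem one_compat {lam : R} (h : SekSuwa.DivCond lam p) {G : Over (Spec (CommRingCat.of R))} [GrpObj G]
    (φ : G ⟶ SekSuwa.GK R lam p h) (h1 : (1 : basePt R ⟶ G) ≫ φ = 1) :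
    η[G] ≫ φ = η[SekSuwa.GK R lam p h] := by
  rw [MonObj.one_eq_one, MonObj.one_eq_one, ← MonObj.comp_one (toPt (𝟙_ _)), Category.assoc, h1, MonObj.comp_one]

theorem exists_iso {ζ : R} (hζ : IsPrimitiveRoot ζ p) {G : Over (Spec (CommRingCat.of R))} [GrpObj G] [IsFinite G.hom]
    (σ : ZMod p → (basePt R ⟶ G)) (hσ : ∀ a b, σ a * σ b = σ (a + b)) (hinj : Function.Injective σ)
    (hsep : ∀ a, (∀ n, val (σ n) a = 0) → a = 0) :
    ∃ (lam : R) (h : SekSuwa.DivCond lam p), lam ≠ 0 ∧ Nonempty (Grp.mk G ≅ Grp.mk (SekSuwa.GK R lam p h)) := by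
  haveI : IsAffine G.left := isAffine_of_isAffineHom G.hom
  have h0 : σ 0 = 1 := mul_left_cancel (a := σ 0) (by rw [hσ, add_zero, _root_.mul_one])
  letI : Algebra R Γ(G.left, ⊤) := (ringMap (R := CommRingCat.of R) G.hom).toAlgebra
  let ev : Γ(G.left, ⊤) →ₐ[R] (ZMod p → R) :=
    AlgHom.pi fun n => { val (σ n) with commutes' := fun r => val_str (σ n) r }
  have hevinj : Function.Injective ev := (injective_iff_map_eq_zero ev).2 fun a ha => hsep a fun n => congrFun ha n
  obtain ⟨m, hm0, hL⟩ := isLattice_of_points σ hσ hinj h0 (fun r => rfl) ev (fun a n => rfl)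
  obtain ⟨lam, hlam⟩ : m ∣ ζ - 1 := by
    by_cases hu : IsUnit m
    · exact hu.dvd
    · refine (IsIntegrallyClosed.pow_dvd_pow_iff (n := p - 1) ?_).1
        ((hL.pow_dvd_natCast hm0 hu).trans (associated_natCast hζ).symm.dvd)
      have := hp.out.two_le
      omega
  have hlm : lam * m = ζ - 1 := by rw [_root_.mul_comm, ← hlam]
  have hlam0 : lam ≠ 0 := fun e => sub_ne_zero.2 (hζ.ne_one hp.out.one_lt) (by rw [← hlm, e, zero_mul])
  have h := divCond_of_mul_eq hζ hlm hlam0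
  obtain ⟨t, ht, ht1⟩ := exists_tFun hζ hlm
  obtain ⟨χ, hχ⟩ := exists_chi h hζ t ht
  have htinj : Function.Injective fun n => χ n SekSuwa.AK.t := fun a b hab => by
    refine ZMod.val_injective p (hζ.pow_inj a.val_lt b.val_lt ?_)
    simp only [hχ] at hab
    have := congrArg (fun x => lam * x + 1) hab
    simpa [ht] using this
  have hK := isLattice_range h χ t hχ ht hζ hlm ht1
  have heq : (AlgHom.pi χ).range = ev.range := hL.eq hK
  let θ : SekSuwa.AK R lam p h ≃ₐ[R] Γ(G.left, ⊤) :=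
    (AlgEquiv.ofInjective _ (injective_eval h χ htinj)).trans
      ((Subalgebra.equivOfEq _ _ heq).trans (AlgEquiv.ofInjective ev hevinj).symm)
  have hθ : ∀ z n, val (σ n) (θ z) = χ n z := fun z n => by
    have e : ev (θ z) = AlgHom.pi χ z := congrArg Subtype.val ((AlgEquiv.ofInjective ev hevinj).apply_symm_apply
      (Subalgebra.equivOfEq _ _ heq (AlgEquiv.ofInjective _ (injective_eval h χ htinj) z)))
    exact congrFun e n
  let θr : SekSuwa.AK R lam p h →+* Γ(G.left, ⊤) := θ.toAlgHom.toRingHom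
  have hw : (G.left.toSpecΓ ≫ Spec.map (CommRingCat.ofHom θr)) ≫ (SekSuwa.GK R lam p h).hom = G.hom := by
    refine ringMap_injective (R := CommRingCat.of R) (RingHom.ext fun r => ?_)
    show ringMap (R := CommRingCat.of R) ((G.left.toSpecΓ ≫ Spec.map (CommRingCat.ofHom θr)) ≫
      Spec.map (CommRingCat.ofHom (algebraMap R (SekSuwa.AK R lam p h)))) r = _
    rw [ringMap_comp_SpecMap]
    exact (toSpecΓ_comp_rm θr _).trans (θ.commutes r)
  let φ : G ⟶ SekSuwa.GK R lam p h := Over.homMk (G.left.toSpecΓ ≫ Spec.map (CommRingCat.ofHom θr)) hw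
  haveI : IsIso (CommRingCat.ofHom θr) := (ConcreteCategory.isIso_iff_bijective _).2 θ.bijective
  haveI : IsIso φ := by
    haveI : IsIso ((Over.forget _).map φ) := by
      change IsIso (G.left.toSpecΓ ≫ Spec.map (CommRingCat.ofHom θr))
      infer_instance
    exact isIso_of_reflects_iso _ (Over.forget _)
  have hφσ : ∀ n, σ n ≫ φ = S14683.pt (χ n) := fun n => comp_pt_ext (σ n) (χ n) θr φ rfl fun z => hθ z n
  have hpm := pt_mul h χ t hχ ht hζ
  have h1 : S14683.pt (χ 0) = 1 := mul_left_cancel (a := S14683.pt (χ 0)) (by rw [hpm, add_zero, _root_.mul_one])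
  haveI : IsMonHom (asIso φ).hom :=
    { one_hom := one_compat h φ (by rw [← h0, hφσ, h1])
      mul_hom := mul_compat h φ σ hσ χ hφσ hpm htinj }
  exact ⟨lam, h, hlam0, ⟨Grp.mkIso' (asIso φ)⟩⟩

end Groth.Agent.SWTorsorLib
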