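import Groth.Agent.SWTorsorLib.TwoStepExact

/-! A finite flat group of order `p²` with constant generic fibre is an extension of two `G_{λ,1}`. -/

set_option autoImplicit false
set_option linter.all false
set_option backward.isDefEq.respectTransparency false
set_option backward.isDefEq.respectTransparency.types false

universe u v
open CategoryTheory Limits MonoidalCategory CartesianMonoidalCategory MonObj GrpObj AlgebraicGeometry
open scoped TensorProduct

noncomputable section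

namespace Groth.Agent.SWTorsorLib

variable {R : Type u} [CommRing R]

theorem isIso_lift_pt {A B : Type u} [CommRing A] [Algebra R A] [CommRing B] [Algebra R B] :
    IsIso (lift (S14683.pt (Algebra.TensorProduct.includeLeft : A →ₐ[R] A ⊗[R] B))
      (S14683.pt (Algebra.TensorProduct.includeRight : B →ₐ[R] A ⊗[R] B))) := by
  let m := lift (S14683.pt (Algebra.TensorProduct.includeLeft : A →ₐ[R] A ⊗[R] B))
    (S14683.pt (Algebra.TensorProduct.includeRight : B →ₐ[R] A ⊗[R] B))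
  have : m.left = (pullbackSpecIso R A B).inv := by
    apply pullback.hom_ext
    · rw [Over.lift_left, pullback.lift_fst]
      exact (pullbackSpecIso_inv_fst R A B).symm
    · rw [Over.lift_left, pullback.lift_snd]
      exact (pullbackSpecIso_inv_snd R A B).symm
  haveI : IsIso ((Over.forget _).map m) := by
    rw [Over.forget_map, this]
    exact Iso.isIso_inv _
  exact isIso_of_reflects_iso m (Over.forget _)

theorem isPullback_pt {B A E : Type u} [CommRing B] [Algebra R B] [CommRing A] [Algebra R A] [CommRing E] [Algebra R E]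
    (θ : B →ₐ[R] A) (l r : A →ₐ[R] E)
    (h : IsPushout (CommRingCat.ofHom θ.toRingHom) (CommRingCat.ofHom θ.toRingHom) (CommRingCat.ofHom l.toRingHom)
      (CommRingCat.ofHom r.toRingHom)) :
    IsPullback (S14683.pt l) (S14683.pt r) (S14683.pt θ) (S14683.pt θ) := by
  refine CategoryTheory.IsPullback.of_map_of_faithful (Over.forget (Spec (CommRingCat.of R))) ?_
  exact AlgebraicGeometry.isPullback_SpecMap_of_isPushout _ _ _ _ h

variable [IsDomain R] [IsDiscreteValuationRing R] {p : ℕ} [hp : Fact p.Prime] [CharP (IsLocalRing.ResidueField R) p]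

namespace PtData

variable {G : Over (Spec (CommRingCat.of R))} [GrpObj G] [Algebra R Γ(G.left, ⊤)] {M : Type v} [AddCommGroup M]
  (D : PtData G M) [IsAffine G.left] [Finite M] {f : ZMod p →+ M} {ν : M →+ ZMod p}
  {N₁ : Model (D.res f).range} {θ₁ : Γ(G.left, ⊤) →ₐ[R] SekSuwa.AK R N₁.lam p N₁.h}
  {N₂ : Model (D.ev.range.comap (comapFun ν))} {θ₂ : SekSuwa.AK R N₂.lam p N₂.h →ₐ[R] Γ(G.left, ⊤)}
  {m : R} {T : Γ(G.left, ⊤)}

theorem isPullback_uv [Module.Free R Γ(G.left, ⊤)] (hS : IsStep p (fun x => x + f 1) m D.ev.range (D.ev T)) (hm : m ≠ 0)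
    (hL : IsLattice m (D.res f).range) (hν : ∀ x, ν x = 0 ↔ x ∈ Set.range f) {g₀ : M} (hg : ν g₀ = 1)
    (h₁ : ∀ n a, N₁.χ n (θ₁ a) = D.ev a (f n)) (h₂ : ∀ x z, D.ev (θ₂ z) x = N₂.χ (ν x) z) :
    IsPullback (fst G (SekSuwa.GK R N₁.lam p N₁.h)) ((G ◁ (S14683.pt θ₁ ≫ D.iG)) ≫ μ[G])
      (inv D.iG ≫ S14683.pt θ₂) (inv D.iG ≫ S14683.pt θ₂) := by
  obtain ⟨ρ, hρ, hρ'⟩ := D.exists_rho h₁
  let A := Γ(G.left, ⊤)
  let C := SekSuwa.AK R N₁.lam p N₁.h
  let l := S14683.pt (Algebra.TensorProduct.includeLeft : A →ₐ[R] A ⊗[R] C)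
  let r := S14683.pt (Algebra.TensorProduct.includeRight : C →ₐ[R] A ⊗[R] C)
  haveI : IsIso (lift l r) := isIso_lift_pt
  haveI : IsIso (lift (l ≫ D.iG) r) := by
    rw [show lift (l ≫ D.iG) r = lift l r ≫ (D.iG ⊗ₘ 𝟙 _) by rw [lift_map, Category.comp_id]]
    infer_instance
  refine (isPullback_pt θ₂ _ ρ (D.isPushout_rings hS hm hL hν hg h₂ ρ hρ')).of_iso (asIso (lift (l ≫ D.iG) r))
    (asIso D.iG) (asIso D.iG) (Iso.refl _) ?_ ?_ ?_ ?_
  · simp only [asIso_hom, lift_fst]
    rfl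
  · simp only [asIso_hom]
    exact hρ.symm
  · simp
  · simp

theorem locallyTrivial (D : PtData G M) {B : Type u} [CommRing B] [Algebra R B] [Module.Finite R B]
    [Module.Finite R Γ(G.left, ⊤)] (θ : B →ₐ[R] Γ(G.left, ⊤)) {n : ℕ} (hn : 0 < n) (T : Γ(G.left, ⊤))
    (hspan : ∀ a, ∃ z : Fin n → B, a = ∑ i, θ (z i) * T ^ (i : ℕ))
    (hind : ∀ z : Fin n → B, ∑ i, θ (z i) * T ^ (i : ℕ) = 0 → z = 0) :
    NonAbH1.IsLocallyTrivialFor Scheme.fppfPrecoverage
      (Over.mk ((inv D.iG ≫ S14683.pt θ).left) : Over ((Spec (CommRingCat.of B)).asOver (Spec (CommRingCat.of R))).left) := by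
  letI : Algebra B Γ(G.left, ⊤) := θ.toRingHom.toAlgebra
  haveI : IsScalarTower R B Γ(G.left, ⊤) := IsScalarTower.of_algebraMap_eq fun r => (θ.commutes r).symm
  let bas : Module.Basis (Fin n) B Γ(G.left, ⊤) := Module.Basis.mk (v := fun i => T ^ (i : ℕ))
    (Fintype.linearIndependent_iff.2 fun z hz i => congrFun (hind z hz) i)
    (fun a _ => by
      obtain ⟨z, rfl⟩ := hspan a
      exact Submodule.sum_mem _ fun i _ => Submodule.smul_mem _ (z i) (Submodule.subset_span ⟨i, rfl⟩))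
  haveI : Module.Free B Γ(G.left, ⊤) := Module.Free.of_basis bas
  haveI : Module.Finite B Γ(G.left, ⊤) := Module.Finite.of_basis bas
  haveI : Module.FinitePresentation B Γ(G.left, ⊤) := Module.finitePresentation_of_projective B _
  haveI : Algebra.FinitePresentation B Γ(G.left, ⊤) := Algebra.FinitePresentation.of_finitePresentation B _
  haveI : Flat (Spec.map (CommRingCat.ofHom θ.toRingHom)) := Flat.SpecMap_iff.2 (RingHom.flat_algebraMap_iff.2 inferInstance)
  haveI : LocallyOfFinitePresentation (Spec.map (CommRingCat.ofHom θ.toRingHom)) :=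
    (HasRingHomProperty.Spec_iff (P := @LocallyOfFinitePresentation)).2 (RingHom.finitePresentation_algebraMap.2 ‹_›)
  haveI : Surjective (Spec.map (CommRingCat.ofHom θ.toRingHom)) := by
    refine ⟨fun P => ?_⟩
    rcases subsingleton_or_nontrivial B with hB | hB
    · exact absurd (Subsingleton.elim (1 : B) 0) (fun e => P.2.ne_top ((Ideal.eq_top_iff_one _).2 (e ▸ P.asIdeal.zero_mem)))
    · haveI : Nonempty (Fin n) := ⟨⟨0, hn⟩⟩
      haveI : Nontrivial Γ(G.left, ⊤) := bas.repr.toEquiv.nontrivial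
      haveI : Module.FaithfullyFlat B Γ(G.left, ⊤) := inferInstance
      exact PrimeSpectrum.comap_surjective_of_faithfullyFlat (A := B) (B := Γ(G.left, ⊤)) P
  have hleft : (inv D.iG ≫ S14683.pt θ).left = (inv D.iG).left ≫ Spec.map (CommRingCat.ofHom θ.toRingHom) := rfl
  haveI : IsIso (inv D.iG).left := inferInstanceAs (IsIso ((Over.forget _).map (inv D.iG)))
  refine ⟨Presieve.singleton (inv D.iG ≫ S14683.pt θ).left,
    (Scheme.singleton_mem_precoverage_iff (@Flat ⊓ @LocallyOfFinitePresentation) _).2 ⟨?_, ?_, ?_⟩, ?_⟩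
  · rw [hleft]; exact Scheme.Hom.surjective _
  · rw [hleft]; infer_instance
  · rw [hleft]; infer_instance
  · intro S' g hg
    obtain ⟨⟩ := hg
    exact ⟨𝟙 _, Category.id_comp _⟩

end PtData

theorem isFinite_GKhom {lam : R} {N : ℕ} (hN : 0 < N) (h : SekSuwa.DivCond lam N) : IsFinite (SekSuwa.GK R lam N h).hom :=
  (S14694.result R lam N hN h).1.1

theorem exists_extension_of_points {ζ : R} (hζ : IsPrimitiveRoot ζ (p ^ 2)) {G : Over (Spec (CommRingCat.of R))} [GrpObj G]
    [IsFinite G.hom] [Flat G.hom] {M : Type} [AddCommGroup M] [Finite M] (hcard : Nat.card M = p ^ 2)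
    (σ : M → (basePt R ⟶ G)) (hσ : ∀ a b, σ a * σ b = σ (a + b)) (hinj : Function.Injective σ)
    (hsep : ∀ a, (∀ n, val (σ n) a = 0) → a = 0) :
    ∃ (lam mu : R) (h₁ : SekSuwa.DivCond lam p) (h₂ : SekSuwa.DivCond mu p)
      (u : SekSuwa.GK R lam p h₁ ⟶ G) (v : G ⟶ SekSuwa.GK R mu p h₂),
      lam ≠ 0 ∧ mu ≠ 0 ∧ NonAbH1.IsExactSeq Scheme.fppfPrecoverage u v := by
  haveI : IsAffine G.left := isAffine_of_isAffineHom G.hom
  letI : Algebra R Γ(G.left, ⊤) := (GaPoints.ringMap (R := CommRingCat.of R) G.hom).toAlgebra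
  haveI : Module.Finite R Γ(G.left, ⊤) := finite_ringMap
  let D : PtData G M :=
    { σ := σ
      mul := hσ
      inj := hinj
      ev := AlgHom.pi fun n => { val (σ n) with commutes' := fun r => val_str (σ n) r }
      ev_eq := fun a x => rfl
      sep := (injective_iff_map_eq_zero _).2 fun a ha => hsep a fun n => congrFun ha n
      alg := fun r => rfl }
  haveI := D.free_A
  have hp0 := hp.out.pos
  have hζp : IsPrimitiveRoot (ζ ^ p) p := hζ.pow (by positivity) (by ring)
  obtain ⟨g, hg⟩ := exists_prime_addOrderOf_dvd_card' (G := M) p (hcard ▸ dvd_pow_self p two_ne_zero)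
  let f : ZMod p →+ M := ZMod.lift p ⟨zmultiplesHom M g, by
    show (p : ℤ) • g = 0
    rw [natCast_zsmul, ← hg]
    exact addOrderOf_nsmul_eq_zero g⟩
  have hf1 : ∀ k : ℕ, f (k : ZMod p) = k • g := fun k => by
    rw [← Int.cast_natCast (R := ZMod p) k]
    simp only [f, ZMod.lift_coe, zmultiplesHom_apply, natCast_zsmul]
  have hf : Function.Injective f := (injective_iff_map_eq_zero f).2 fun k hk => by
    rw [← ZMod.natCast_zmod_val k, hf1, ← addOrderOf_dvd_iff_nsmul_eq_zero, hg] at hk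
    rw [← ZMod.natCast_zmod_val k, (ZMod.natCast_eq_zero_iff _ _).2 hk]
  have hQ : Nat.card (M ⧸ f.range) = p := by
    have h1 := AddSubgroup.card_eq_card_quotient_mul_card_addSubgroup f.range
    rw [hcard, Nat.card_congr (AddMonoidHom.ofInjective hf).toEquiv.symm, Nat.card_zmod, pow_two] at h1
    exact (Nat.eq_of_mul_eq_mul_right hp0 h1).symm
  let eQ : M ⧸ f.range ≃+ ZMod p :=
    (zmodAddCyclicAddEquiv (isAddCyclic_of_prime_card hQ)).symm.trans (ZMod.ringEquivCongr hQ).toAddEquiv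
  let ν : M →+ ZMod p := eQ.toAddMonoidHom.comp (QuotientAddGroup.mk' f.range)
  have hν : ∀ x, ν x = 0 ↔ x ∈ Set.range f := fun x => by
    show eQ (QuotientAddGroup.mk x) = 0 ↔ _
    rw [AddEquiv.map_eq_zero_iff, QuotientAddGroup.eq_zero_iff]
    rfl
  obtain ⟨g₀, hg₀⟩ := QuotientAddGroup.mk'_surjective f.range (eQ.symm 1)
  have hg₀' : ν g₀ = 1 := by show eQ (QuotientAddGroup.mk' f.range g₀) = 1; rw [hg₀, AddEquiv.apply_symm_apply]
  obtain ⟨m, T, hm, hL, hS⟩ := D.exists_isStep f hf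
  obtain ⟨m₂, hm₂, hL₂⟩ := D.exists_lattice_quot hS hm hf ν hν g₀ hg₀'
  obtain ⟨N₁⟩ := exists_model hζp hm hL
  obtain ⟨N₂⟩ := exists_model hζp hm₂ hL₂
  obtain ⟨θ₁, h₁⟩ := D.exists_theta₁ N₁
  obtain ⟨θ₂, h₂⟩ := D.exists_theta₂ N₂
  haveI : Module.Finite R (SekSuwa.AK R N₁.lam p N₁.h) :=
    RingHom.finite_algebraMap.1 ((IsFinite.SpecMap_iff _).1 (isFinite_GKhom hp0 N₁.h))
  haveI : Module.Finite R (SekSuwa.AK R N₂.lam p N₂.h) :=
    RingHom.finite_algebraMap.1 ((IsFinite.SpecMap_iff _).1 (isFinite_GKhom hp0 N₂.h))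
  haveI : Module.Free R (SekSuwa.AK R N₁.lam p N₁.h) := by
    haveI : Module.IsTorsionFree R (SekSuwa.AK R N₁.lam p N₁.h) :=
      N₁.inj.moduleIsTorsionFree (AlgHom.pi N₁.χ) (fun r a => map_smul (AlgHom.pi N₁.χ) r a)
    exact Module.free_of_finite_type_torsion_free'
  obtain ⟨hspan, hind⟩ := D.exists_basis hS hm hν hg₀' h₂
  exact ⟨N₁.lam, N₂.lam, N₁.h, N₂.h, S14683.pt θ₁ ≫ D.iG, inv D.iG ≫ S14683.pt θ₂, lam_ne_zero N₁.h, lam_ne_zero N₂.h,
    D.isMonHom_u h₁, D.isMonHom_v h₂, D.comp_eq_one h₁ h₂ (fun n => (hν _).2 ⟨n, rfl⟩),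
    D.isPullback_uv hS hm hL hν hg₀' h₁ h₂, D.locallyTrivial θ₂ hp0 T hspan hind⟩

theorem mul_comm_of_card_sq {M : Type} [Group M] {q : ℕ} [Fact q.Prime] (h : Nat.card M = q ^ 2) (a b : M) :
    a * b = b * a :=
  IsPGroup.commutative_of_card_eq_prime_sq (p := q) h a b

omit hp [CharP (IsLocalRing.ResidueField R) p] in
theorem card_eq_of_points {G : Over (Spec (CommRingCat.of R))}
    [IsFinite G.hom] [Flat G.hom] {M : Type} [Finite M] (σ : M → (basePt R ⟶ G)) (hinj : Function.Injective σ)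
    (hsep : ∀ a, (∀ n, val (σ n) a = 0) → a = 0) {d : ℕ} (hd : ∀ y, G.hom.finrank y = d) : Nat.card M = d := by
  haveI : IsAffine G.left := isAffine_of_isAffineHom G.hom
  letI : Algebra R Γ(G.left, ⊤) := (GaPoints.ringMap (R := CommRingCat.of R) G.hom).toAlgebra
  haveI : Module.Finite R Γ(G.left, ⊤) := finite_ringMap
  haveI : Module.Flat R Γ(G.left, ⊤) := flat_ringMap (G := G)
  haveI : Module.Free R Γ(G.left, ⊤) := Module.free_of_flat_of_isLocalRing
  haveI : Fintype M := Fintype.ofFinite M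
  let χ : M → (Γ(G.left, ⊤) →ₐ[R] R) := fun n => { val (σ n) with commutes' := fun r => val_str (σ n) r }
  have hχ : Function.Injective χ := fun a b h => hinj (val_ext fun z => AlgHom.congr_fun h z)
  have h1 : Nat.card M ≤ Module.finrank R Γ(G.left, ⊤) :=
    le_trans (Nat.card_le_card_of_injective χ hχ) (card_algHom_le_finrank R _ R)
  have h2 : Module.finrank R Γ(G.left, ⊤) ≤ Nat.card M := by
    have hev : Function.Injective (AlgHom.pi χ).toLinearMap :=
      (injective_iff_map_eq_zero _).2 fun a ha => hsep a fun n => congrFun ha n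
    calc Module.finrank R Γ(G.left, ⊤) ≤ Module.finrank R (M → R) := LinearMap.finrank_le_finrank_of_injective hev
      _ = Nat.card M := by rw [Module.finrank_pi, Nat.card_eq_fintype_card]
  have h3 : Module.finrank R Γ(G.left, ⊤) = d := by
    have e : G.hom = G.left.isoSpec.hom ≫ Spec.map (CommRingCat.ofHom (algebraMap R Γ(G.left, ⊤))) := by
      apply ext_of_isAffine
      simp [RingHom.algebraMap_toAlgebra, GaPoints.ringMap, Scheme.isoSpec_hom]
    haveI : IsFinite (Spec.map (CommRingCat.ofHom (algebraMap R Γ(G.left, ⊤)))) :=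
      (IsFinite.SpecMap_iff _).2 (RingHom.finite_algebraMap.2 ‹_›)
    haveI : Flat (Spec.map (CommRingCat.ofHom (algebraMap R Γ(G.left, ⊤)))) :=
      Flat.SpecMap_iff.2 (RingHom.flat_algebraMap_iff.2 ‹_›)
    let y : PrimeSpectrum R := ⟨IsLocalRing.maximalIdeal R, inferInstance⟩
    rw [← hd y, e, Scheme.Hom.finrank_comp_left_of_isIso, Scheme.Hom.finrank_SpecMap_algebraMap,
      Module.rankAtStalk_eq_finrank_of_free]
    rfl
  omega

end Groth.Agent.SWTorsorLib
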