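import Groth.Agent.SWTorsorLib.Points

/-! Points of the multiplicative group `Spec R[ℤ]` over an arbitrary base, and the map `α^λ` to it. -/

set_option autoImplicit false
set_option linter.all false
set_option backward.isDefEq.respectTransparency false
set_option backward.defeqAttrib.useBackward true
set_option backward.isDefEq.respectTransparency.types false

universe u
open CategoryTheory Limits MonoidalCategory CartesianMonoidalCategory MonObj GrpObj AlgebraicGeometry
open scoped TensorProduct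

noncomputable section

namespace Groth.Agent.SWTorsorLib

open Groth.Agent.GaPoints (ringMap exists_ringMap ringMap_comp_SpecMap ringMap_injective)
open Groth.Agent.GmTorsor (mor gammaSpec_map)

variable {R : Type u} [CommRing R]

abbrev dgGen (R : Type u) [CommRing R] : MonoidAlgebra R (Multiplicative ℤ) :=
  MonoidAlgebra.single (Multiplicative.ofAdd (1 : ℤ)) 1

variable {S : Scheme.{u}} (f : S ⟶ Spec (CommRingCat.of R)) {lam : R}

/-- The invertible function of a point. -/
def dgFn {T : Over S} (x : T ⟶ Red.bc f (Red.diag R ℤ)) : Γ(T.left, ⊤) :=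
  ringMap (R := CommRingCat.of (MonoidAlgebra R (Multiplicative ℤ))) (x.left ≫ pullback.fst _ _) (dgGen R)

theorem isUnit_dgFn {T : Over S} (x : T ⟶ Red.bc f (Red.diag R ℤ)) : IsUnit (dgFn f x) := by
  refine IsUnit.map (ringMap (R := CommRingCat.of (MonoidAlgebra R (Multiplicative ℤ)))
    (x.left ≫ pullback.fst (Red.diag R ℤ).hom f)) ?_
  exact (Group.isUnit (Multiplicative.ofAdd (1 : ℤ))).map (MonoidAlgebra.of R (Multiplicative ℤ))

theorem ringMap_algebraMap_dg {T : Over S} (x : T ⟶ Red.bc f (Red.diag R ℤ)) (r : R) :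
    ringMap (R := CommRingCat.of (MonoidAlgebra R (Multiplicative ℤ))) (x.left ≫ pullback.fst _ _)
      (algebraMap R (MonoidAlgebra R (Multiplicative ℤ)) r) = str f T r := by
  have e : (x.left ≫ pullback.fst _ _) ≫
      Spec.map (CommRingCat.ofHom (algebraMap R (MonoidAlgebra R (Multiplicative ℤ)))) = T.hom ≫ f := by
    rw [Category.assoc]
    erw [pullback.condition]
    rw [← Category.assoc]
    congr 1
    exact Over.w x
  rw [str, ← e, ringMap_comp_SpecMap]
  rfl

theorem dgFn_injective {T : Over S} : Function.Injective (dgFn f (T := T)) := by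
  intro x y h
  refine Over.OverMorphism.ext (pullback.hom_ext (ringMap_injective ?_) ((Over.w x).trans (Over.w y).symm))
  refine MonoidAlgebra.ringHom_ext (fun r => ?_) (fun m => ?_)
  · exact (ringMap_algebraMap_dg f x r).trans (ringMap_algebraMap_dg f y r).symm
  · have hm : ∀ (φ : MonoidAlgebra R (Multiplicative ℤ) →+* Γ(T.left, ⊤)) (m : Multiplicative ℤ),
        φ (MonoidAlgebra.single m 1) =
          (((φ : MonoidAlgebra R (Multiplicative ℤ) →* Γ(T.left, ⊤)).comp (MonoidAlgebra.of R _)).toHomUnits m : Γ(T.left, ⊤)) :=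
      fun φ m => rfl
    rw [hm, hm]
    congr 1
    refine DFunLike.congr_fun (MonoidHom.ext_mint (Units.ext ?_)) m
    exact h

theorem dgFn_surjective {T : Over S} (b : Γ(T.left, ⊤)) (hb : IsUnit b) :
    ∃ x : T ⟶ Red.bc f (Red.diag R ℤ), dgFn f x = b := by
  obtain ⟨v, rfl⟩ := hb
  letI : Algebra R Γ(T.left, ⊤) := (str f T).toAlgebra
  let φ : MonoidAlgebra R (Multiplicative ℤ) →ₐ[R] Γ(T.left, ⊤) :=
    MonoidAlgebra.lift R Γ(T.left, ⊤) (Multiplicative ℤ) ((Units.coeHom _).comp (zpowersHom _ v))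
  obtain ⟨q, hq⟩ := exists_ringMap (R := CommRingCat.of (MonoidAlgebra R (Multiplicative ℤ))) φ.toRingHom
  have hw : q ≫ Spec.map (CommRingCat.ofHom (algebraMap R (MonoidAlgebra R (Multiplicative ℤ)))) = T.hom ≫ f :=
    ringMap_injective (RingHom.ext fun r => by
      rw [ringMap_comp_SpecMap, hq]
      exact φ.commutes r)
  refine ⟨Over.homMk (pullback.lift q T.hom hw) (pullback.lift_snd _ _ _), ?_⟩
  change ringMap ((pullback.lift q T.hom _) ≫ pullback.fst _ _) (dgGen R) = (v : Γ(T.left, ⊤))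
  rw [pullback.lift_fst, hq]
  show φ (dgGen R) = _
  simp [φ, dgGen]

theorem dg_mul {Y : Over (Spec (CommRingCat.of R))} (x y : Y ⟶ Red.diag R ℤ) :
    ringMap (R := CommRingCat.of (MonoidAlgebra R (Multiplicative ℤ))) (x * y).left (dgGen R) =
      ringMap (R := CommRingCat.of (MonoidAlgebra R (Multiplicative ℤ))) x.left (dgGen R) *
        ringMap (R := CommRingCat.of (MonoidAlgebra R (Multiplicative ℤ))) y.left (dgGen R) := by
  let A := MonoidAlgebra R (Multiplicative ℤ)
  let j₁ : CommRingCat.of A ⟶ CommRingCat.of (A ⊗[R] A) :=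
    CommRingCat.ofHom Algebra.TensorProduct.includeLeftRingHom
  let j₂ : CommRingCat.of A ⟶ CommRingCat.of (A ⊗[R] A) :=
    CommRingCat.ofHom (R := A) (S := A ⊗[R] A)
      (RingHomClass.toRingHom (Algebra.TensorProduct.includeRight : A →ₐ[R] A ⊗[R] A))
  let m : Y.left ⟶ Spec (CommRingCat.of (A ⊗[R] A)) :=
    (CartesianMonoidalCategory.lift x y).left ≫ (pullbackSpecIso R A A).hom
  have h₁ : m ≫ Spec.map j₁ = x.left := by
    simp only [m, j₁, Category.assoc]
    erw [pullbackSpecIso_hom_fst]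
    simp
    exact pullback.lift_fst _ _ _
  have h₂ : m ≫ Spec.map j₂ = y.left := by
    simp only [m, j₂, Category.assoc]
    erw [pullbackSpecIso_hom_snd]
    simp
    exact pullback.lift_snd _ _ _
  have h₀ : (x * y).left = m ≫ Spec.map (CommRingCat.ofHom (Bialgebra.comulAlgHom R A).toRingHom) := by
    rw [Hom.mul_def, Over.comp_left]
    erw [mul_spec_asOver_spec_left]
    simp [m, A]
  rw [h₀, ← h₁, ← h₂, ringMap_comp_SpecMap, ringMap_comp_SpecMap, ringMap_comp_SpecMap, ← map_mul]
  congr 1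
  simp [j₁, j₂, A, dgGen]

theorem dgFn_mul {T : Over S} (x y : T ⟶ Red.bc f (Red.diag R ℤ)) : dgFn f (x * y) = dgFn f x * dgFn f y := by
  let adj := Over.mapPullbackAdj f
  obtain ⟨a, rfl⟩ := (adj.homEquiv T (Red.diag R ℤ)).surjective x
  obtain ⟨b, rfl⟩ := (adj.homEquiv T (Red.diag R ℤ)).surjective y
  have hm : adj.homEquiv T (Red.diag R ℤ) (a * b) =
      adj.homEquiv T (Red.diag R ℤ) a * adj.homEquiv T (Red.diag R ℤ) b := by
    simp only [Adjunction.homEquiv_unit, Functor.map_mul, MonObj.comp_mul]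
  have key : ∀ c : (Over.map f).obj T ⟶ Red.diag R ℤ,
      dgFn f (adj.homEquiv T (Red.diag R ℤ) c) =
        ringMap (R := CommRingCat.of (MonoidAlgebra R (Multiplicative ℤ))) c.left (dgGen R) := by
    intro c
    conv_rhs => rw [← (adj.homEquiv T (Red.diag R ℤ)).symm_apply_apply c, Adjunction.homEquiv_counit]
    simp [adj, dgFn]
  rw [← hm, key, key, key]
  exact dg_mul a b

theorem dgFn_one {T : Over S} : dgFn f (1 : T ⟶ Red.bc f (Red.diag R ℤ)) = 1 := by
  have h := dgFn_mul f (1 : T ⟶ Red.bc f (Red.diag R ℤ)) 1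
  rw [_root_.one_mul] at h
  exact ((isUnit_dgFn f 1).mul_eq_left).1 h.symm

theorem dgFn_comp {T T' : Over S} (g : T' ⟶ T) (x : T ⟶ Red.bc f (Red.diag R ℤ)) :
    dgFn f (g ≫ x) = g.left.appTop (dgFn f x) := by
  simp [dgFn, ringMap]

theorem dgFn_alpha {T : Over S} (x : T ⟶ Red.bc f (SekSuwa.G R lam)) :
    dgFn f (x ≫ (Over.pullback f).map (SekSuwa.alpha R lam)) = 1 + str f T lam * sgFn f x := by
  have e : (x ≫ (Over.pullback f).map (SekSuwa.alpha R lam)).left ≫ pullback.fst _ _ =
      (x.left ≫ pullback.fst _ _) ≫ Spec.map (CommRingCat.ofHom (SekSuwa.alphaHom R lam : MonoidAlgebra R (Multiplicative ℤ) →+* SekSuwa.A R lam)) := by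
    simp [SekSuwa.alpha, SekSuwa.specHom]
    rfl
  rw [dgFn, e, ringMap_comp_SpecMap]
  have e2 : SekSuwa.alphaHom R lam (dgGen R) = (SekSuwa.A.u : SekSuwa.A R lam) := by
    simp [SekSuwa.alphaHom, dgGen]
    rfl
  show ringMap (R := CommRingCat.of (SekSuwa.A R lam)) (x.left ≫ pullback.fst _ _) (SekSuwa.alphaHom R lam (dgGen R)) = _
  rw [e2, SekSuwa.A.u_def]
  erw [map_add, map_one, map_mul, ringMap_algebraMap]
  rfl

theorem isAffineHom_bc_diag : IsAffineHom (Red.bc f (Red.diag R ℤ)).hom := by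
  haveI : IsAffine (Red.diag R ℤ).left := isAffine_Spec _
  haveI : IsAffineHom (Red.diag R ℤ).hom := isAffineHom_of_isAffine _
  exact MorphismProperty.pullback_snd _ _ inferInstance

end Groth.Agent.SWTorsorLib
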