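import Groth.Agent.SWTorsorLib.Main
import Groth.Agent.SWTorsorLib.Diag
import Groth.Agent.TorsorPushLib.Main

/-! Torsors of `G^(λ)` with liftable units and trivial `G_m` torsors are trivial. -/

set_option autoImplicit false
set_option linter.all false
set_option backward.isDefEq.respectTransparency false

universe u
open CategoryTheory Limits MonoidalCategory CartesianMonoidalCategory MonObj GrpObj AlgebraicGeometry
open scoped TensorProduct
open Groth.Agent.GmTorsor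

noncomputable section

namespace Groth.Agent.SWTorsorLib

variable {R : Type u} [CommRing R] [IsDomain R] {lam : R} {S : Scheme.{u}} (f : S ⟶ Spec (CommRingCat.of R))

/-- The map `α^λ` over `S`. -/
abbrev alphaS (lam : R) : Red.bc f (SekSuwa.G R lam) ⟶ Red.bc f (Red.diag R ℤ) :=
  (Over.pullback f).map (SekSuwa.alpha R lam)

theorem act_mapped {S : Scheme.{u}} {G G' X X' : Over S} [GrpObj G] [GrpObj G'] (α : G ⟶ G') (a : AlgGrp.Action G X)
    (b : AlgGrp.Action G' X') (φ : X ⟶ X')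
    (hφ : a.act ≫ φ = lift (fst _ X ≫ α) (snd _ X ≫ φ) ≫ b.act)
    {T : Over S} (g : T ⟶ G) (x : T ⟶ X) :
    (lift g x ≫ a.act) ≫ φ = lift (g ≫ α) (x ≫ φ) ≫ b.act := by
  rw [Category.assoc, hφ, comp_lift_assoc, lift_fst_assoc, lift_snd_assoc]

theorem eq_one_of_alpha_eq_one [Flat f] (hlam : lam ≠ 0) {T : Over S} [Flat T.hom]
    (g : T ⟶ Red.bc f (SekSuwa.G R lam)) (h : g ≫ alphaS f lam = 1) : g = 1 := by
  refine Over.OverMorphism.ext (Scheme.Cover.hom_ext T.left.affineCover _ _ fun i => ?_)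
  let C : Type u := Γ(T.left.affineCover.X i, ⊤)
  let c : Spec (CommRingCat.of C) ⟶ T.left := (T.left.affineCover.X i).isoSpec.inv ≫ T.left.affineCover.f i
  let m : Over.mk (c ≫ T.hom) ⟶ T := Over.homMk c
  have key : m ≫ g = m ≫ 1 := by
    refine sgVal_injective f ?_
    have e1 : m ≫ g ≫ alphaS f lam = 1 := by rw [h, MonObj.comp_one]
    rw [← Category.assoc] at e1
    have e2 := congrArg (dgFn f) e1
    rw [dgFn_alpha, dgFn_one, add_eq_left] at e2
    have e3 := congrArg (Scheme.ΓSpecIso (CommRingCat.of C)).hom e2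
    rw [map_mul, map_zero] at e3
    haveI : Flat (c ≫ T.hom) := inferInstance
    have hreg := isLeftRegular_strC f hlam (C := C) (c ≫ T.hom)
    rw [MonObj.comp_one]
    have h0 : sgVal f (1 : Over.mk (c ≫ T.hom) ⟶ Red.bc f (SekSuwa.G R lam)) = 0 := by
      have h1 := sgVal_mul f (1 : Over.mk (c ≫ T.hom) ⟶ Red.bc f (SekSuwa.G R lam)) 1
      rw [_root_.one_mul] at h1
      have hu := isUnit_sgVal f (1 : Over.mk (c ≫ T.hom) ⟶ Red.bc f (SekSuwa.G R lam))
      refine hu.mul_right_eq_zero.1 ?_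
      linear_combination -h1
    rw [h0]
    refine hreg ?_
    show algebraMap C C (strC f (c ≫ T.hom) lam) * _ = algebraMap C C (strC f (c ≫ T.hom) lam) * 0
    rw [mul_zero]
    exact e3
  have key' := congrArg CommaMorphism.left key
  simp only [m, c, Over.comp_left, Over.homMk_left, Category.assoc] at key'
  exact (cancel_epi (T.left.affineCover.X i).isoSpec.inv).1 key'

theorem exists_affine_sections [Flat f] (hlam : lam ≠ 0) {X : Over S}
    (a : AlgGrp.Action (Red.bc f (SekSuwa.G R lam)) X) (h : NonAbH1.IsTorsorFor Scheme.fpqcPrecoverage a) :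
    ∃ 𝒰 : Scheme.OpenCover.{u} S, ∀ i, IsAffine (𝒰.X i) ∧ Nonempty (Over.mk (𝒰.f i) ⟶ X) := by
  obtain ⟨Rc, hR, hsec⟩ := (isTorsorFor_zariski f hlam a h).2
  obtain ⟨I, Y, g, rfl⟩ := Rc.exists_eq_ofArrows
  let E : PreZeroHypercover S := { I₀ := I, X := Y, f := g }
  obtain ⟨hcov, hopen⟩ := (Scheme.presieve₀_mem_precoverage_iff (P := @IsOpenImmersion) E).mp hR
  have key : ∀ s : S, ∃ (U : Scheme.{u}) (j : U ⟶ S), IsOpenImmersion j ∧ s ∈ Set.range j ∧ IsAffine U ∧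
      Nonempty (Over.mk j ⟶ X) := fun s => by
    obtain ⟨i, y, hy⟩ : ∃ i, s ∈ Set.range (g i) := hcov s
    haveI : IsOpenImmersion (g i) := hopen i
    obtain ⟨k, z, hz⟩ := (Y i).affineCover.exists_eq y
    obtain ⟨t, ht⟩ := hsec (g i) (Presieve.ofArrows.mk i)
    exact ⟨(Y i).affineCover.X k, (Y i).affineCover.f k ≫ g i, inferInstance,
      ⟨z, by rw [Scheme.Hom.comp_apply, hz, hy]⟩, inferInstance,
      ⟨Over.homMk ((Y i).affineCover.f k ≫ t) (by simp [ht])⟩⟩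
  choose U j hj hs hU hx using key
  exact ⟨Scheme.Cover.mkOfCovers.{u} (J := ↥S) U j (fun s => ⟨s, hs s⟩) hj, fun s => ⟨hU s, hx s⟩⟩

/-- The structure morphism, as a morphism over the base. -/
abbrev toS (T : Over S) : T ⟶ Over.mk (𝟙 S) := Over.homMk T.hom (Category.comp_id _)

theorem comp_toS {T T' : Over S} (m : T' ⟶ T) : m ≫ toS T = toS T' :=
  Over.OverMorphism.ext (Over.w m)

section
variable {G' X' : Over S} [GrpObj G'] (b : AlgGrp.Action G' X') (σ : Over.mk (𝟙 S) ⟶ X')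

theorem comp_frame {T T' : Over S} (m : T' ⟶ T) (h : T ⟶ G') :
    m ≫ lift h (toS T ≫ σ) ≫ b.act = lift (m ≫ h) (toS T' ≫ σ) ≫ b.act := by
  rw [comp_act, ← Category.assoc m (toS T), comp_toS]

theorem frame_inj (hb : NonAbH1.IsPseudoTorsorSch b) {T : Over S} {h h' : T ⟶ G'}
    (e : lift h (toS T ≫ σ) ≫ b.act = lift h' (toS T ≫ σ) ≫ b.act) : h = h' :=
  (existsUnique_act b hb (toS T ≫ σ) (lift h (toS T ≫ σ) ≫ b.act)).unique rfl e.symm

end

/-- The difference of two frames is in the image of `α`. -/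
theorem exists_alpha_diff {G G' X X' : Over S} [GrpObj G] [GrpObj G'] (α : G ⟶ G') (a : AlgGrp.Action G X)
    (ha : NonAbH1.IsPseudoTorsorSch a) (b : AlgGrp.Action G' X') (hb : NonAbH1.IsPseudoTorsorSch b)
    (φ : X ⟶ X') (hφ : a.act ≫ φ = lift (fst _ X ≫ α) (snd _ X ≫ φ) ≫ b.act)
    (σ : Over.mk (𝟙 S) ⟶ X') {T : Over S} (x y : T ⟶ X) (hx hy : T ⟶ G')
    (ex : lift hx (toS T ≫ σ) ≫ b.act = x ≫ φ) (ey : lift hy (toS T ≫ σ) ≫ b.act = y ≫ φ) :
    ∃ g : T ⟶ G, lift g x ≫ a.act = y ∧ hy = (g ≫ α) * hx := by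
  obtain ⟨g, hg, -⟩ := existsUnique_act a ha x y
  refine ⟨g, hg, frame_inj b σ hb ?_⟩
  rw [act_mul, ey, ex, ← act_mapped α a b φ hφ, hg]

theorem str_eq_zero {T : Over S}
    (m : T.left ⟶ pullback f (Spec.map (CommRingCat.ofHom (Ideal.Quotient.mk (Ideal.span ({lam} : Set R))))))
    (hm : m ≫ pullback.fst _ _ = T.hom) : str f T lam = 0 := by
  let k := Ideal.Quotient.mk (Ideal.span ({lam} : Set R))
  have e : T.hom ≫ f = (m ≫ pullback.snd f (Spec.map (CommRingCat.ofHom k))) ≫ Spec.map (CommRingCat.ofHom k) := by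
    rw [← hm, Category.assoc, Category.assoc, pullback.condition]
  rw [str, e, GaPoints.ringMap_comp_SpecMap]
  have hk : k lam = 0 := Ideal.Quotient.eq_zero_iff_mem.2 (Ideal.mem_span_singleton_self lam)
  exact (congrArg _ hk).trans (map_zero _)

/-- The frames glue on the locus `lam = 0`. -/
theorem exists_hbar (𝒰 : S.OpenCover) (hp : ∀ i, Over.mk (𝒰.f i) ⟶ Red.bc f (Red.diag R ℤ))
    (hover : ∀ i k, ∃ g : Over.mk (pullback.fst (𝒰.f i) (𝒰.f k) ≫ 𝒰.f i) ⟶ Red.bc f (SekSuwa.G R lam),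
      (Over.homMk (pullback.snd _ _) pullback.condition.symm :
          Over.mk (pullback.fst (𝒰.f i) (𝒰.f k) ≫ 𝒰.f i) ⟶ Over.mk (𝒰.f k)) ≫ hp k =
        (g ≫ alphaS f lam) * ((Over.homMk (pullback.fst _ _) :
          Over.mk (pullback.fst (𝒰.f i) (𝒰.f k) ≫ 𝒰.f i) ⟶ Over.mk (𝒰.f i)) ≫ hp i)) :
    ∃ H : Over.mk (pullback.fst f (Spec.map (CommRingCat.ofHom (Ideal.Quotient.mk (Ideal.span ({lam} : Set R)))))) ⟶
        Red.bc f (Red.diag R ℤ),
      ∀ i, pullback.fst (pullback.fst f (Spec.map (CommRingCat.ofHom (Ideal.Quotient.mk (Ideal.span ({lam} : Set R)))))) (𝒰.f i) ≫ H.left =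
        pullback.snd _ (𝒰.f i) ≫ (hp i).left := by
  set q := pullback.fst f (Spec.map (CommRingCat.ofHom (Ideal.Quotient.mk (Ideal.span ({lam} : Set R)))))
  let 𝒱 := Precoverage.ZeroHypercover.pullback₁ q 𝒰
  have compat : ∀ i k : 𝒰.I₀, pullback.fst (𝒱.f i) (𝒱.f k) ≫ pullback.snd q (𝒰.f i) ≫ (hp i).left =
      pullback.snd (𝒱.f i) (𝒱.f k) ≫ pullback.snd q (𝒰.f k) ≫ (hp k).left := fun i k => by
    let T : Over S := Over.mk ((pullback.fst (𝒱.f i) (𝒱.f k) ≫ 𝒱.f i) ≫ q)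
    have w₁ : (pullback.fst (𝒱.f i) (𝒱.f k) ≫ pullback.snd q (𝒰.f i)) ≫ 𝒰.f i =
        (pullback.fst (𝒱.f i) (𝒱.f k) ≫ 𝒱.f i) ≫ q := by
      show (_ ≫ pullback.snd q (𝒰.f i)) ≫ _ = (_ ≫ pullback.fst q (𝒰.f i)) ≫ q
      rw [Category.assoc, Category.assoc, pullback.condition]
    have w₂ : (pullback.snd (𝒱.f i) (𝒱.f k) ≫ pullback.snd q (𝒰.f k)) ≫ 𝒰.f k =
        (pullback.fst (𝒱.f i) (𝒱.f k) ≫ 𝒱.f i) ≫ q := by
      rw [pullback.condition (f := 𝒱.f i) (g := 𝒱.f k)]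
      show (_ ≫ pullback.snd q (𝒰.f k)) ≫ _ = (_ ≫ pullback.fst q (𝒰.f k)) ≫ q
      rw [Category.assoc, Category.assoc, pullback.condition]
    obtain ⟨g, hg⟩ := hover i k
    let m : T ⟶ Over.mk (pullback.fst (𝒰.f i) (𝒰.f k) ≫ 𝒰.f i) :=
      Over.homMk (pullback.lift _ _ (w₁.trans w₂.symm)) (by
        show pullback.lift _ _ _ ≫ pullback.fst _ _ ≫ 𝒰.f i = _
        rw [pullback.lift_fst_assoc]
        exact w₁)
    have e1 := whisker_eq m hg
    rw [MonObj.comp_mul] at e1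
    have e2 : m ≫ g ≫ alphaS f lam = 1 := by
      refine dgFn_injective f ?_
      rw [← Category.assoc, dgFn_alpha, dgFn_one, str_eq_zero f (T := T) (pullback.fst (𝒱.f i) (𝒱.f k) ≫ 𝒱.f i) rfl,
        zero_mul, add_zero]
    rw [e2, _root_.one_mul] at e1
    have e3 := congrArg CommaMorphism.left e1
    simp only [m, Over.comp_left, Over.homMk_left] at e3
    rw [pullback.lift_fst_assoc, pullback.lift_snd_assoc, Category.assoc, Category.assoc] at e3
    exact e3.symm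
  let hbar := Scheme.Cover.glueMorphisms 𝒱 (fun i => pullback.snd q (𝒰.f i) ≫ (hp i).left) compat
  have heq : ∀ i, 𝒱.f i ≫ hbar = pullback.snd q (𝒰.f i) ≫ (hp i).left :=
    fun i => Scheme.Cover.ι_glueMorphisms 𝒱 (fun i => pullback.snd q (𝒰.f i) ≫ (hp i).left) compat i
  have hw : hbar ≫ (Red.bc f (Red.diag R ℤ)).hom = q := Scheme.Cover.hom_ext 𝒱 _ _ fun i => by
    rw [← Category.assoc, heq i, Category.assoc, Over.w (hp i)]
    exact pullback.condition.symm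
  exact ⟨Over.homMk hbar hw, heq⟩

/-- On an affine piece a frame can be moved to a lift of its reduction. -/
theorem exists_correction {T : Over S} [IsAffine T.left] (h U : T ⟶ Red.bc f (Red.diag R ℤ))
    (hU : ∀ (T₀ : Over S) (m : T₀ ⟶ T),
      (∃ n : T₀.left ⟶ pullback f (Spec.map (CommRingCat.ofHom (Ideal.Quotient.mk (Ideal.span ({lam} : Set R))))),
        n ≫ pullback.fst _ _ = T₀.hom) → m ≫ U = m ≫ h) :
    ∃ g : T ⟶ Red.bc f (SekSuwa.G R lam), (g ≫ alphaS f lam) * h = U := by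
  let c : Γ(T.left, ⊤) := str f T lam
  let C := Γ(T.left, ⊤) ⧸ Ideal.span {c}
  let mkC : Γ(T.left, ⊤) →+* C := Ideal.Quotient.mk _
  let ι₀ : Spec (CommRingCat.of C) ⟶ T.left := Spec.map (CommRingCat.ofHom mkC) ≫ T.left.isoSpec.inv
  have hι : ∀ z, (Scheme.ΓSpecIso (CommRingCat.of C)).hom (ι₀.appTop z) = mkC z := fun z => by
    rw [Scheme.Hom.comp_appTop, CommRingCat.comp_apply]
    erw [gammaSpec_map]
    congr 1
    have e := congrArg (fun h : T.left ⟶ T.left => h.appTop z) T.left.isoSpec.hom_inv_id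
    simp only [Scheme.Hom.comp_appTop, Scheme.Hom.id_appTop, Scheme.isoSpec_hom, Scheme.toSpecΓ_appTop, CommRingCat.comp_apply, CommRingCat.id_apply] at e
    exact e
  let T₀ : Over S := Over.mk (ι₀ ≫ T.hom)
  let m : T₀ ⟶ T := Over.homMk ι₀
  have hc0 : mkC c = 0 := Ideal.Quotient.eq_zero_iff_mem.2 (Ideal.mem_span_singleton_self c)
  let r₀ : R ⧸ Ideal.span ({lam} : Set R) →+* C :=
    Ideal.Quotient.lift _ (mkC.comp (str f T)) fun r hr => by
      obtain ⟨d, rfl⟩ := Ideal.mem_span_singleton'.1 hr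
      rw [RingHom.comp_apply, map_mul, map_mul, hc0, mul_zero]
  have hsq : (ι₀ ≫ T.hom) ≫ f = Spec.map (CommRingCat.ofHom r₀) ≫
      Spec.map (CommRingCat.ofHom (Ideal.Quotient.mk (Ideal.span ({lam} : Set R)))) := by
    refine GaPoints.ringMap_injective (RingHom.ext fun r => ?_)
    apply (ConcreteCategory.bijective_of_isIso (Scheme.ΓSpecIso (CommRingCat.of C)).hom).1
    rw [GaPoints.ringMap_comp_SpecMap, Category.assoc]
    have e : GaPoints.ringMap (ι₀ ≫ T.hom ≫ f) r = ι₀.appTop (str f T r) := by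
      simp [GaPoints.ringMap, str]
    rw [e, hι]
    show mkC (str f T r) = (Scheme.ΓSpecIso (CommRingCat.of C)).hom ((Spec.map (CommRingCat.ofHom r₀)).appTop
      ((Scheme.ΓSpecIso (CommRingCat.of (R ⧸ Ideal.span ({lam} : Set R)))).inv (Ideal.Quotient.mk _ r)))
    erw [gammaSpec_map]
    rw [Iso.inv_hom_id_apply]
    rfl
  have e1 := congrArg (dgFn f) (hU T₀ m ⟨pullback.lift _ _ hsq, pullback.lift_fst _ _ _⟩)
  rw [dgFn_comp, dgFn_comp] at e1
  have e2 := congrArg (Scheme.ΓSpecIso (CommRingCat.of C)).hom e1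
  change (Scheme.ΓSpecIso (CommRingCat.of C)).hom (ι₀.appTop _) = (Scheme.ΓSpecIso (CommRingCat.of C)).hom (ι₀.appTop _) at e2
  rw [hι, hι] at e2
  obtain ⟨w, hw⟩ := Ideal.mem_span_singleton'.1 (Ideal.Quotient.eq.1 e2)
  obtain ⟨v, hv⟩ := isUnit_dgFn f h
  have key : 1 + str f T lam * (w * ↑v⁻¹) = dgFn f U * ↑v⁻¹ := by
    rw [show str f T lam = c from rfl, ← _root_.mul_assoc, _root_.mul_comm c w, hw, ← hv, sub_mul, Units.mul_inv]
    ring
  obtain ⟨g, hg⟩ := sgFn_surjective f (T := T) (lam := lam) (w * ↑v⁻¹) (by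
    rw [key]
    exact (isUnit_dgFn f _).mul v⁻¹.isUnit)
  refine ⟨g, dgFn_injective f ?_⟩
  rw [dgFn_mul, dgFn_alpha, hg, key, ← hv, Units.inv_mul_cancel_right]

set_option maxHeartbeats 800000 in
theorem hasSectionOver [Flat f] (hlam : lam ≠ 0)
    (hunit : Function.Surjective (Units.map
      (pullback.fst f (Spec.map (CommRingCat.ofHom (Ideal.Quotient.mk (Ideal.span ({lam} : Set R)))))).appTop.hom.toMonoidHom))
    {X X' : Over S} (a : AlgGrp.Action (Red.bc f (SekSuwa.G R lam)) X) (h : NonAbH1.IsTorsorFor Scheme.fpqcPrecoverage a)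
    (b : AlgGrp.Action (Red.bc f (Red.diag R ℤ)) X') (hb : NonAbH1.IsPseudoTorsorSch b)
    (φ : X ⟶ X') (hφ : a.act ≫ φ = lift (fst _ X ≫ alphaS f lam) (snd _ X ≫ φ) ≫ b.act)
    (σ : Over.mk (𝟙 S) ⟶ X') : NonAbH1.HasSectionOver X (𝟙 S) := by
  obtain ⟨𝒰, h𝒰⟩ := exists_affine_sections f hlam a h
  let x := fun i => (h𝒰 i).2.some
  choose hp hhp using fun i => (existsUnique_act b hb (toS (Over.mk (𝒰.f i)) ≫ σ) (x i ≫ φ)).exists
  let p₁ : ∀ i k, Over.mk (pullback.fst (𝒰.f i) (𝒰.f k) ≫ 𝒰.f i) ⟶ Over.mk (𝒰.f i) :=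
    fun i k => Over.homMk (pullback.fst _ _)
  let p₂ : ∀ i k, Over.mk (pullback.fst (𝒰.f i) (𝒰.f k) ≫ 𝒰.f i) ⟶ Over.mk (𝒰.f k) :=
    fun i k => Over.homMk (pullback.snd _ _) pullback.condition.symm
  set q := pullback.fst f (Spec.map (CommRingCat.ofHom (Ideal.Quotient.mk (Ideal.span ({lam} : Set R))))) with hq
  obtain ⟨H, hH⟩ : ∃ H : Over.mk q ⟶ Red.bc f (Red.diag R ℤ),
      ∀ i, pullback.fst q (𝒰.f i) ≫ H.left = pullback.snd q (𝒰.f i) ≫ (hp i).left := exists_hbar f 𝒰 hp fun i k => by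
    obtain ⟨g, -, hg⟩ := exists_alpha_diff (alphaS f lam) a h.1 b hb φ hφ σ (p₁ i k ≫ x i) (p₂ i k ≫ x k) (p₁ i k ≫ hp i)
      (p₂ i k ≫ hp k) (by rw [← comp_frame, hhp, Category.assoc]) (by rw [← comp_frame, hhp, Category.assoc])
    exact ⟨g, hg⟩
  obtain ⟨u, hu⟩ := hunit (isUnit_dgFn f H).unit
  obtain ⟨U, hU⟩ := dgFn_surjective f (T := Over.mk (𝟙 S)) (u : Γ(S, ⊤)) u.isUnit
  have hqU : toS (Over.mk q) ≫ U = H := by
    refine dgFn_injective f ?_
    rw [dgFn_comp, hU]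
    exact congrArg Units.val hu
  have hcorr : ∀ i, ∃ g : Over.mk (𝒰.f i) ⟶ Red.bc f (SekSuwa.G R lam),
      (g ≫ alphaS f lam) * hp i = toS (Over.mk (𝒰.f i)) ≫ U := fun i => by
    haveI : IsAffine (Over.mk (𝒰.f i)).left := (h𝒰 i).1
    refine exists_correction f _ _ fun T₀ m ⟨n, hn⟩ => ?_
    rw [← Category.assoc, comp_toS, ← comp_toS (Over.homMk n hn : T₀ ⟶ Over.mk q), Category.assoc, hqU]
    refine Over.OverMorphism.ext ?_
    simp only [Over.comp_left, Over.homMk_left]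
    have w : n ≫ q = m.left ≫ 𝒰.f i := hn.trans (Over.w m).symm
    exact (pullback.lift_fst_assoc n m.left w H.left).symm.trans
      ((congrArg (pullback.lift n m.left w ≫ ·) (hH i)).trans (pullback.lift_snd_assoc n m.left w _))
  choose g hg using hcorr
  let z := fun i => lift (g i) (x i) ≫ a.act
  have hz : ∀ i, lift (toS (Over.mk (𝒰.f i)) ≫ U) (toS (Over.mk (𝒰.f i)) ≫ σ) ≫ b.act = z i ≫ φ := fun i => by
    simp only [z]
    rw [act_mapped (alphaS f lam) a b φ hφ, ← hhp i, ← act_mul, hg i]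
  have hagree : ∀ i k, p₁ i k ≫ z i = p₂ i k ≫ z k := fun i k => by
    obtain ⟨d, hd, hd'⟩ := exists_alpha_diff (alphaS f lam) a h.1 b hb φ hφ σ (p₁ i k ≫ z i) (p₂ i k ≫ z k)
      (p₁ i k ≫ toS (Over.mk (𝒰.f i)) ≫ U) (p₂ i k ≫ toS (Over.mk (𝒰.f k)) ≫ U)
      (by rw [← comp_frame, hz]; simp only [Category.assoc]) (by rw [← comp_frame, hz]; simp only [Category.assoc])
    haveI : Flat (Over.mk (pullback.fst (𝒰.f i) (𝒰.f k) ≫ 𝒰.f i)).hom :=
      inferInstanceAs (Flat (pullback.fst (𝒰.f i) (𝒰.f k) ≫ 𝒰.f i))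
    rw [← Category.assoc, ← Category.assoc, comp_toS, comp_toS] at hd'
    have e := congrArg (dgFn f) hd'
    rw [dgFn_mul] at e
    have hα : d ≫ alphaS f lam = 1 := dgFn_injective f (((isUnit_dgFn f _).mul_eq_right.1 e.symm).trans (dgFn_one f).symm)
    rw [eq_one_of_alpha_eq_one f hlam d hα, act_one] at hd
    exact hd
  refine ⟨Scheme.Cover.glueMorphisms 𝒰 (fun i => (z i).left) fun i k => congrArg CommaMorphism.left (hagree i k), ?_⟩
  refine Scheme.Cover.hom_ext 𝒰 _ _ fun i => ?_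
  rw [← Category.assoc, Scheme.Cover.ι_glueMorphisms, Category.comp_id]
  exact Over.w (z i)

end Groth.Agent.SWTorsorLib
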