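import Mathlib

/-! Polynomials in two variables of bounded degree are detected modulo a monic polynomial. -/

set_option autoImplicit false
set_option linter.all false

universe u
open Polynomial

noncomputable section

namespace Groth.Agent.SWTorsorLib

variable {Q : Type u} [CommRing Q]

/-- Degree at most `n` in both variables. -/
def Bounded (n : ℕ) (V : Q[X][X]) : Prop := V.natDegree ≤ n ∧ ∀ j, (V.coeff j).natDegree ≤ n

theorem Bounded.add {n : ℕ} {V W : Q[X][X]} (hV : Bounded n V) (hW : Bounded n W) : Bounded n (V + W) :=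
  ⟨(natDegree_add_le _ _).trans (max_le hV.1 hW.1), fun j => by
    rw [coeff_add]
    exact (natDegree_add_le _ _).trans (max_le (hV.2 j) (hW.2 j))⟩

theorem Bounded.sub {n : ℕ} {V W : Q[X][X]} (hV : Bounded n V) (hW : Bounded n W) : Bounded n (V - W) :=
  ⟨(natDegree_sub_le _ _).trans (max_le hV.1 hW.1), fun j => by
    rw [coeff_sub]
    exact (natDegree_sub_le _ _).trans (max_le (hV.2 j) (hW.2 j))⟩

theorem Bounded.mono {n m : ℕ} {V : Q[X][X]} (hV : Bounded n V) (h : n ≤ m) : Bounded m V :=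
  ⟨hV.1.trans h, fun j => (hV.2 j).trans h⟩

theorem Bounded.zero (n : ℕ) : Bounded n (0 : Q[X][X]) := ⟨by simp, fun j => by simp⟩

theorem Bounded.C_mul {n : ℕ} (c : Q) {V : Q[X][X]} (hV : Bounded n V) : Bounded n (C (C c) * V) :=
  ⟨(natDegree_C_mul_le _ _).trans hV.1, fun j => by
    rw [coeff_C_mul]
    exact (natDegree_C_mul_le _ _).trans (hV.2 j)⟩

theorem bounded_pow (m : Q) : ∀ i : ℕ, Bounded i ((C X + C (1 + C m * X) * X : Q[X][X]) ^ i)
  | 0 => ⟨by simp, fun j => by rw [pow_zero, coeff_one]; split_ifs <;> simp⟩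
  | i + 1 => by
    obtain ⟨h1, h2⟩ := bounded_pow m i
    have hX : (X : Q[X]).natDegree ≤ 1 := natDegree_X_le
    have hl : (1 + C m * X : Q[X]).natDegree ≤ 1 := by
      refine (natDegree_add_le _ _).trans (max_le (by simp) ((natDegree_C_mul_le _ _).trans hX))
    rw [pow_succ]
    refine ⟨natDegree_mul_le.trans (add_le_add h1 ((natDegree_add_le _ _).trans (max_le (by simp)
      ((natDegree_C_mul_le _ _).trans natDegree_X_le)))), fun j => ?_⟩
    rw [mul_add, coeff_add, coeff_mul_C, ← mul_assoc]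
    refine (natDegree_add_le _ _).trans (max_le (natDegree_mul_le.trans (add_le_add (h2 j) hX)) ?_)
    cases j with
    | zero => simp
    | succ j =>
      rw [coeff_mul_X, coeff_mul_C]
      exact natDegree_mul_le.trans (add_le_add (h2 j) hl)

/-- The defect of multiplicativity of a polynomial for the law `s + t + m s t`. -/
def defect (m : Q) (F : Q[X]) : Q[X][X] :=
  F.eval₂ ((C : Q[X] →+* Q[X][X]).comp C) (C X + C (1 + C m * X) * X) - C F * F.map C

theorem bounded_defect (m : Q) {F : Q[X]} {n : ℕ} (hF : F.natDegree ≤ n) : Bounded n (defect m F) := by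
  refine Bounded.sub ?_ ⟨(natDegree_C_mul_le _ _).trans (natDegree_map_le.trans hF), fun j => ?_⟩
  · rw [eval₂_eq_sum_range]
    refine Finset.sum_induction _ (Bounded n) (fun _ _ => Bounded.add) (Bounded.zero n) fun i hi => ?_
    exact ((bounded_pow m i).mono (le_trans (Nat.lt_succ_iff.1 (Finset.mem_range.1 hi)) hF)).C_mul _
  · rw [coeff_C_mul, coeff_map]
    exact natDegree_mul_le.trans (by simpa using hF)

theorem eval_defect {C' : Type u} [CommRing C'] (ρ : Q →+* C') (m : Q) (F : Q[X]) (a b : C') :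
    (defect m F).eval₂ (eval₂RingHom ρ a) b = F.eval₂ ρ (a + b + ρ m * a * b) - F.eval₂ ρ a * F.eval₂ ρ b := by
  rw [defect, eval₂_sub, eval₂_mul, eval₂_C, eval₂_map, ← coe_eval₂RingHom (eval₂RingHom ρ a) b, hom_eval₂]
  have e : ((eval₂RingHom (eval₂RingHom ρ a) b).comp ((C : Q[X] →+* Q[X][X]).comp C)) = ρ :=
    RingHom.ext fun r => by simp
  have e' : (eval₂RingHom ρ a).comp C = ρ := RingHom.ext fun r => by simp
  rw [e, coe_eval₂RingHom, coe_eval₂RingHom, e']
  congr 1
  congr 1
  simp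
  ring

theorem eq_zero_of_mk_eq_zero {A : Type u} [CommRing A] {P V : A[X]} (hP : P.Monic) (hV : V.natDegree < P.natDegree)
    (h : AdjoinRoot.mk P V = 0) : V = 0 := by
  by_contra hne
  exact hP.not_dvd_of_natDegree_lt hne hV (AdjoinRoot.mk_eq_zero.1 h)

theorem eq_zero_of_eval_root {P : Q[X]} (hP : P.Monic) {n : ℕ} (hn : n < P.natDegree) {W : Q[X][X]}
    (hW : Bounded n W)
    (h : W.eval₂ (eval₂RingHom ((AdjoinRoot.of (P.map (AdjoinRoot.of P))).comp (AdjoinRoot.of P))
      (AdjoinRoot.of (P.map (AdjoinRoot.of P)) (AdjoinRoot.root P))) (AdjoinRoot.root (P.map (AdjoinRoot.of P))) = 0) :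
    W = 0 := by
  rcases subsingleton_or_nontrivial Q with hQ | hQ
  · exact Subsingleton.elim _ _
  have h1 : (1 : AdjoinRoot P) ≠ 0 := fun e => one_ne_zero (α := Q[X])
    (eq_zero_of_mk_eq_zero hP (by rw [natDegree_one]; omega) (by rw [map_one]; exact e))
  haveI : Nontrivial (AdjoinRoot P) := ⟨⟨1, 0, h1⟩⟩
  have e : eval₂RingHom ((AdjoinRoot.of (P.map (AdjoinRoot.of P))).comp (AdjoinRoot.of P))
      (AdjoinRoot.of (P.map (AdjoinRoot.of P)) (AdjoinRoot.root P)) =
      (AdjoinRoot.of (P.map (AdjoinRoot.of P))).comp (AdjoinRoot.mk P) :=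
    Polynomial.ringHom_ext (fun r => by simp) (by simp)
  rw [e, ← eval₂_map] at h
  have h := (AdjoinRoot.aeval_eq (f := P.map (AdjoinRoot.of P)) (W.map (AdjoinRoot.mk P))).symm.trans h
  have h' := eq_zero_of_mk_eq_zero (hP.map _)
    (by rw [hP.natDegree_map]; exact lt_of_le_of_lt (natDegree_map_le.trans hW.1) hn) h
  refine Polynomial.ext fun j => ?_
  have hj := congrArg (coeff · j) h'
  simp only [coeff_map, coeff_zero] at hj
  rw [coeff_zero]
  exact eq_zero_of_mk_eq_zero hP (lt_of_le_of_lt (hW.2 j) hn) hj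

end Groth.Agent.SWTorsorLib
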