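import Groth.Prelude.Def_SekSuwa2
import Groth.Agent.SWTorsorLib.CharPoly
import Groth.Agent.SWTorsorLib.Diag
import Groth.Agent.SWTorsorLib.GKGen
import Groth.Agent.S14683

/-! Characters of `G_{μ,N}` over a quotient of the base extend to `G^(μ)`. -/

set_option autoImplicit false
set_option linter.all false
set_option backward.isDefEq.respectTransparency false
set_option backward.isDefEq.respectTransparency.types false

universe u
open CategoryTheory Limits MonoidalCategory CartesianMonoidalCategory MonObj GrpObj AlgebraicGeometry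
open scoped TensorProduct
open Groth.Agent.GaPoints (ringMap exists_ringMap ringMap_comp_SpecMap ringMap_injective)

noncomputable section

namespace Groth.Agent.SWTorsorLib

variable {R : Type u} [CommRing R] {mu : R} {N : ℕ}

section
variable {Q : Type u} [CommRing Q]

/-- The structure map on functions over an affine base. -/
def strQ (T : Over (Spec (CommRingCat.of Q))) : Q →+* Γ(T.left, ⊤) := ringMap (R := CommRingCat.of Q) T.hom

theorem appTop_strQ {T T' : Over (Spec (CommRingCat.of Q))} (z : T' ⟶ T) (c : Q) :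
    z.left.appTop (strQ T c) = strQ T' c := by
  refine Eq.trans ?_ (congrArg (fun q : T'.left ⟶ Spec (CommRingCat.of Q) => ringMap (R := CommRingCat.of Q) q c) (Over.w z))
  simp [ringMap, strQ, -Over.w]

theorem str_eq_strQ (k : R →+* Q) (T : Over (Spec (CommRingCat.of Q))) (r : R) :
    str (Spec.map (CommRingCat.ofHom k)) T r = strQ T (k r) := ringMap_comp_SpecMap _ _ _

theorem appTop_eval {T T' : Over (Spec (CommRingCat.of Q))} (z : T' ⟶ T) (F : Polynomial Q) (b : Γ(T.left, ⊤)) :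
    z.left.appTop (F.eval₂ (strQ T) b) = F.eval₂ (strQ T') (z.left.appTop b) := by
  rw [Polynomial.hom_eval₂]
  congr 1
  exact RingHom.ext (appTop_strQ z)

theorem sgFn_one {S : Scheme.{u}} (f : S ⟶ Spec (CommRingCat.of R)) {T : Over S} :
    sgFn f (1 : T ⟶ Red.bc f (SekSuwa.G R mu)) = 0 := by
  have h1 := sgFn_mul f (1 : T ⟶ Red.bc f (SekSuwa.G R mu)) 1
  rw [_root_.one_mul] at h1
  refine (isUnit_sgFn f (1 : T ⟶ Red.bc f (SekSuwa.G R mu))).mul_right_eq_zero.1 ?_
  linear_combination -h1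

theorem exists_GK_point (k : R →+* Q) (hN : 0 < N) (h : SekSuwa.DivCond mu N) {T : Over (Spec (CommRingCat.of Q))}
    (b : Γ(T.left, ⊤)) (hb : ((SekSuwa.psiPoly mu N h).map k).eval₂ (strQ T) b = 0) :
    ∃ z : T ⟶ Red.bc (Spec.map (CommRingCat.ofHom k)) (SekSuwa.GK R mu N h),
      sgFn (Spec.map (CommRingCat.ofHom k)) (z ≫ (Over.pullback _).map (SekSuwa.incl R mu N h)) = b := by
  let f := Spec.map (CommRingCat.ofHom k)
  letI : Algebra R Γ(T.left, ⊤) := (str f T).toAlgebra
  have hP : Polynomial.aeval b (SekSuwa.psiPoly mu N h) = 0 := by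
    rw [Polynomial.eval₂_map] at hb
    rw [Polynomial.aeval_def, ← hb]
    congr 1
    exact RingHom.ext fun r => str_eq_strQ k T r
  have hu : (1 + mu • b) * (1 + mu • b) ^ (N - 1) = 1 := by
    rw [← pow_succ', Nat.sub_add_cancel hN, Algebra.smul_def]
    have e := SekSuwa.aeval_psiPoly h b
    rw [hP, mul_zero] at e
    exact sub_eq_zero.1 e.symm
  let f0 : SekSuwa.A R mu →ₐ[R] Γ(T.left, ⊤) := SekSuwa.A.lift R mu _ _ hu
  let φ : SekSuwa.AK R mu N h →ₐ[R] Γ(T.left, ⊤) := Ideal.Quotient.liftₐ (SekSuwa.kerIdeal mu N h) f0 (by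
    intro z hz
    obtain ⟨w, rfl⟩ := Ideal.mem_span_singleton'.mp hz
    rw [map_mul, SekSuwa.kerGen, ← Polynomial.aeval_algHom_apply, SekSuwa.A.lift_t, hP, mul_zero])
  obtain ⟨q, hq⟩ := exists_ringMap (R := CommRingCat.of (SekSuwa.AK R mu N h)) φ.toRingHom
  have hw : q ≫ Spec.map (CommRingCat.ofHom (algebraMap R (SekSuwa.AK R mu N h))) = T.hom ≫ f :=
    ringMap_injective (RingHom.ext fun r => by
      rw [ringMap_comp_SpecMap, hq]
      exact φ.commutes r)
  refine ⟨Over.homMk (pullback.lift q T.hom hw) (pullback.lift_snd _ _ _), ?_⟩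
  rw [sgFn]
  have e : (Over.homMk (pullback.lift q T.hom hw) (pullback.lift_snd _ _ _) ≫ (Over.pullback f).map (SekSuwa.incl R mu N h) :
      T ⟶ Red.bc f (SekSuwa.G R mu)).left ≫ pullback.fst _ _ =
      q ≫ Spec.map (CommRingCat.ofHom (SekSuwa.AK.mkHom R mu N h : SekSuwa.A R mu →+* SekSuwa.AK R mu N h)) := by
    simp [SekSuwa.incl, SekSuwa.specHom]
    erw [pullback.lift_fst_assoc]
    rfl
  erw [e, ringMap_comp_SpecMap, hq]
  exact SekSuwa.A.lift_t _ _ hu

theorem exists_ringMap_eq {Y : Scheme.{u}} {C : Type u} [CommRing C] (e : Y ⟶ Spec (CommRingCat.of C)) [IsIso e]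
    (z : Γ(Y, ⊤)) : ∃ w : C, ringMap (R := CommRingCat.of C) e w = z :=
  (ConcreteCategory.bijective_of_isIso ((Scheme.ΓSpecIso (CommRingCat.of C)).inv ≫ e.appTop)).2 z

theorem mem_of_pullback {A : Type u} [CommRing A] [Algebra R A] [Algebra R Q]
    (z : Γ(pullback (Spec.map (CommRingCat.ofHom (algebraMap R A))) (Spec.map (CommRingCat.ofHom (algebraMap R Q))), ⊤))
    (U : Subring Γ(pullback (Spec.map (CommRingCat.ofHom (algebraMap R A))) (Spec.map (CommRingCat.ofHom (algebraMap R Q))), ⊤))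
    (h₁ : ∀ a : A, ringMap (R := CommRingCat.of A) (pullback.fst _ _) a ∈ U)
    (h₂ : ∀ c : Q, ringMap (R := CommRingCat.of Q) (pullback.snd _ _) c ∈ U) : z ∈ U := by
  obtain ⟨w, rfl⟩ := exists_ringMap_eq (pullbackSpecIso R A Q).hom z
  induction w using TensorProduct.induction_on with
  | zero => rw [map_zero]; exact zero_mem _
  | add a b ha hb => rw [map_add]; exact add_mem ha hb
  | tmul a c =>
    rw [show (a ⊗ₜ[R] c : A ⊗[R] Q) = a ⊗ₜ 1 * (1 ⊗ₜ c) by simp, map_mul]
    refine mul_mem ?_ ?_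
    · have := h₁ a
      rw [← pullbackSpecIso_hom_fst R A Q, ringMap_comp_SpecMap] at this
      exact this
    · have := h₂ c
      rw [← pullbackSpecIso_hom_snd R A Q, ringMap_comp_SpecMap] at this
      exact this

theorem ringMap_fst_algebraMap (k : R →+* Q) {A : Type u} [CommRing A] [Algebra R A] (r : R) :
    ringMap (R := CommRingCat.of A) (pullback.fst (Spec.map (CommRingCat.ofHom (algebraMap R A))) (Spec.map (CommRingCat.ofHom k)))
        (algebraMap R A r) =
      ringMap (R := CommRingCat.of Q) (pullback.snd (Spec.map (CommRingCat.ofHom (algebraMap R A))) (Spec.map (CommRingCat.ofHom k))) (k r) := by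
  refine (ringMap_comp_SpecMap (CommRingCat.ofHom (algebraMap R A)) _ r).symm.trans ?_
  rw [pullback.condition, ringMap_comp_SpecMap]
  rfl

theorem exists_eval_eq (k : R →+* Q) (hN : 0 < N) (h : SekSuwa.DivCond mu N) (hmon : (SekSuwa.psiPoly mu N h).Monic)
    (z : Γ((Red.bc (Spec.map (CommRingCat.ofHom k)) (SekSuwa.GK R mu N h)).left, ⊤)) :
    ∃ F : Polynomial Q, F.eval₂ (strQ _)
      (sgFn (Spec.map (CommRingCat.ofHom k)) ((Over.pullback _).map (SekSuwa.incl R mu N h))) = z := by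
  let f := Spec.map (CommRingCat.ofHom k)
  let T₀ := Red.bc f (SekSuwa.GK R mu N h)
  have hτ : sgFn f ((Over.pullback f).map (SekSuwa.incl R mu N h)) =
      ringMap (R := CommRingCat.of (SekSuwa.AK R mu N h)) (pullback.fst (SekSuwa.GK R mu N h).hom f) SekSuwa.AK.t := by
    rw [sgFn]
    have e : ((Over.pullback f).map (SekSuwa.incl R mu N h)).left ≫ pullback.fst _ _ =
        pullback.fst (SekSuwa.GK R mu N h).hom f ≫
          Spec.map (CommRingCat.ofHom (SekSuwa.AK.mkHom R mu N h : SekSuwa.A R mu →+* SekSuwa.AK R mu N h)) := by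
      simp [SekSuwa.incl, SekSuwa.specHom]
      rfl
    rw [e, ringMap_comp_SpecMap]
    rfl
  letI : Algebra R Q := k.toAlgebra
  refine mem_of_pullback (R := R) (A := SekSuwa.AK R mu N h) (Q := Q) z
    (Polynomial.eval₂RingHom (strQ T₀) (sgFn f ((Over.pullback f).map (SekSuwa.incl R mu N h)))).range
    (fun a => ?_) (fun c => ⟨Polynomial.C c, Polynomial.eval₂_C _ _⟩)
  obtain ⟨q, rfl⟩ := S14683.exists_eq_aeval hN hmon a
  refine ⟨q.map k, ?_⟩
  rw [Polynomial.coe_eval₂RingHom, Polynomial.eval₂_map, hτ, Polynomial.aeval_def, Polynomial.hom_eval₂]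
  congr 1
  exact RingHom.ext fun r => (ringMap_fst_algebraMap k (A := SekSuwa.AK R mu N h) r).symm

theorem exists_charPoly (k : R →+* Q) (hN : 0 < N) (h : SekSuwa.DivCond mu N) (hmon : (SekSuwa.psiPoly mu N h).Monic)
    (hdeg : ((SekSuwa.psiPoly mu N h).map k).natDegree = N)
    (φ : Red.bc (Spec.map (CommRingCat.ofHom k)) (SekSuwa.GK R mu N h) ⟶ Red.bc (Spec.map (CommRingCat.ofHom k)) (Red.diag R ℤ)) :
    ∃ F : Polynomial Q, F.natDegree ≤ N - 1 ∧
      ∀ (T : Over (Spec (CommRingCat.of Q))) (z : T ⟶ Red.bc (Spec.map (CommRingCat.ofHom k)) (SekSuwa.GK R mu N h)),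
        dgFn (Spec.map (CommRingCat.ofHom k)) (z ≫ φ) =
          F.eval₂ (strQ T) (sgFn (Spec.map (CommRingCat.ofHom k)) (z ≫ (Over.pullback _).map (SekSuwa.incl R mu N h))) := by
  let f := Spec.map (CommRingCat.ofHom k)
  let ic := (Over.pullback f).map (SekSuwa.incl R mu N h)
  let T₀ := Red.bc f (SekSuwa.GK R mu N h)
  obtain ⟨q, hq⟩ := exists_eval_eq k hN h hmon (dgFn f φ)
  let P := (SekSuwa.psiPoly mu N h).map k
  have hPm : P.Monic := hmon.map k
  refine ⟨q %ₘ P, ?_, fun T z => ?_⟩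
  · rcases subsingleton_or_nontrivial Q with hQ | hQ
    · simp [Subsingleton.elim (q %ₘ P) 0]
    · have := Polynomial.natDegree_modByMonic_lt q hPm (fun e => by
        have h1 : P.natDegree = N := hdeg
        rw [e, Polynomial.natDegree_one] at h1
        omega)
      rw [show P.natDegree = N from hdeg] at this
      omega
  have hτ : P.eval₂ (strQ T₀) (sgFn f ic) = 0 := by
    letI : Algebra R Γ(T₀.left, ⊤) := (str f T₀).toAlgebra
    let g : SekSuwa.AK R mu N h →ₐ[R] Γ(T₀.left, ⊤) :=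
      { ringMap (R := CommRingCat.of (SekSuwa.AK R mu N h)) (pullback.fst (SekSuwa.GK R mu N h).hom f) with
        commutes' := fun r => by
          show _ = str f T₀ r
          rw [str_eq_strQ k T₀ r]
          exact ringMap_fst_algebraMap k (A := SekSuwa.AK R mu N h) r }
    have hτ' : sgFn f ic = g SekSuwa.AK.t := by
      rw [sgFn]
      have e : ic.left ≫ pullback.fst _ _ = pullback.fst (SekSuwa.GK R mu N h).hom f ≫
          Spec.map (CommRingCat.ofHom (SekSuwa.AK.mkHom R mu N h : SekSuwa.A R mu →+* SekSuwa.AK R mu N h)) := by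
        simp [ic, SekSuwa.incl, SekSuwa.specHom]
        rfl
      rw [e, ringMap_comp_SpecMap]
      rfl
    rw [Polynomial.eval₂_map, show (strQ T₀).comp k = algebraMap R Γ(T₀.left, ⊤) from
      RingHom.ext fun r => (str_eq_strQ k T₀ r).symm, ← Polynomial.aeval_def, hτ', Polynomial.aeval_algHom_apply,
      SekSuwa.AK.aeval_t, map_zero]
  rw [dgFn_comp, sgFn_comp, ← hq, ← appTop_eval]
  congr 1
  rw [← Polynomial.coe_eval₂RingHom, Polynomial.modByMonic_eq_sub_mul_div q, map_sub, map_mul,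
    Polynomial.coe_eval₂RingHom, hτ, zero_mul, sub_zero]

theorem ringMap_bijective {Y : Scheme.{u}} {C : CommRingCat.{u}} (e : Y ⟶ Spec C) [IsIso e] :
    Function.Bijective (ringMap e) :=
  ConcreteCategory.bijective_of_isIso ((Scheme.ΓSpecIso C).inv ≫ e.appTop)

theorem ringMap_id_bijective (C : Type u) [CommRing C] :
    Function.Bijective (ringMap (R := CommRingCat.of C) (𝟙 (Spec (CommRingCat.of C)))) :=
  ringMap_bijective _

theorem strQ_spec {C : Type u} [CommRing C] (c : Q →+* C) :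
    strQ (Over.mk (Spec.map (CommRingCat.ofHom c))) =
      (ringMap (R := CommRingCat.of C) (𝟙 (Spec (CommRingCat.of C)))).comp c := by
  refine RingHom.ext fun r => ?_
  show ringMap (R := CommRingCat.of Q) (Spec.map (CommRingCat.ofHom c)) r = _
  rw [← Category.id_comp (Spec.map (CommRingCat.ofHom c)), ringMap_comp_SpecMap]
  rfl

theorem exists_extension (k : R →+* Q) (hN : 0 < N) (h : SekSuwa.DivCond mu N) (hmon : (SekSuwa.psiPoly mu N h).Monic)
    (hdeg : ((SekSuwa.psiPoly mu N h).map k).natDegree = N)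
    (φ : Red.bc (Spec.map (CommRingCat.ofHom k)) (SekSuwa.GK R mu N h) ⟶ Red.bc (Spec.map (CommRingCat.ofHom k)) (Red.diag R ℤ))
    [IsMonHom φ] :
    ∃ ψ : Red.bc (Spec.map (CommRingCat.ofHom k)) (SekSuwa.G R mu) ⟶ Red.bc (Spec.map (CommRingCat.ofHom k)) (Red.diag R ℤ),
      IsMonHom ψ ∧ (Over.pullback (Spec.map (CommRingCat.ofHom k))).map (SekSuwa.incl R mu N h) ≫ ψ = φ := by
  let f := Spec.map (CommRingCat.ofHom k)
  let ic := (Over.pullback f).map (SekSuwa.incl R mu N h)
  let P := (SekSuwa.psiPoly mu N h).map k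
  obtain ⟨F, hFd, hF⟩ := exists_charPoly k hN h hmon hdeg φ
  let B₁ := AdjoinRoot P
  let P₁ := P.map (AdjoinRoot.of P)
  let c : Q →+* AdjoinRoot P₁ := (AdjoinRoot.of P₁).comp (AdjoinRoot.of P)
  let s₀ : AdjoinRoot P₁ := AdjoinRoot.of P₁ (AdjoinRoot.root P)
  let t₀ : AdjoinRoot P₁ := AdjoinRoot.root P₁
  let T : Over (Spec (CommRingCat.of Q)) := Over.mk (Spec.map (CommRingCat.ofHom c))
  let e : AdjoinRoot P₁ →+* Γ(Spec (CommRingCat.of (AdjoinRoot P₁)), ⊤) := ringMap (R := CommRingCat.of (AdjoinRoot P₁)) (𝟙 (Spec (CommRingCat.of (AdjoinRoot P₁))))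
  have hT : strQ T = e.comp c := strQ_spec c
  have hs : P.eval₂ c s₀ = 0 := by
    rw [← Polynomial.hom_eval₂, AdjoinRoot.eval₂_root, map_zero]
  have ht : P.eval₂ c t₀ = 0 := by
    rw [← Polynomial.eval₂_map]
    exact AdjoinRoot.eval₂_root P₁
  obtain ⟨x, hx⟩ := exists_GK_point k hN h (T := T) (e s₀) (by
    rw [hT]; exact (Polynomial.hom_eval₂ P c e s₀).symm.trans ((congrArg e hs).trans (map_zero e)))
  obtain ⟨y, hy⟩ := exists_GK_point k hN h (T := T) (e t₀) (by
    rw [hT]; exact (Polynomial.hom_eval₂ P c e t₀).symm.trans ((congrArg e ht).trans (map_zero e)))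
  have key := hF T (x * y)
  rw [MonObj.mul_comp, MonObj.mul_comp, dgFn_mul, hF T x, hF T y, sgFn_mul, hx, hy, str_eq_strQ] at key
  have hW : defect (k mu) F = 0 := by
    refine eq_zero_of_eval_root (hmon.map k) (n := N - 1) (by rw [hdeg]; omega) (bounded_defect (k mu) hFd) ?_
    refine (ringMap_id_bijective (AdjoinRoot P₁)).1 ?_
    show e ((defect (k mu) F).eval₂ (Polynomial.eval₂RingHom c s₀) t₀) = e 0
    rw [eval_defect, map_sub, map_mul, map_zero, Polynomial.hom_eval₂, Polynomial.hom_eval₂, Polynomial.hom_eval₂,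
      map_add, map_add, map_mul, map_mul, ← hT, show e (c (k mu)) = strQ T (k mu) from (RingHom.congr_fun hT (k mu)).symm,
      key, sub_self]
  have law : ∀ (T : Over (Spec (CommRingCat.of Q))) (a b : Γ(T.left, ⊤)),
      F.eval₂ (strQ T) (a + b + strQ T (k mu) * a * b) = F.eval₂ (strQ T) a * F.eval₂ (strQ T) b := fun T a b => by
    refine sub_eq_zero.1 ?_
    rw [← eval_defect, hW, Polynomial.eval₂_zero]
  have h1 : ∀ T : Over (Spec (CommRingCat.of Q)), F.eval₂ (strQ T) 0 = 1 := fun T => by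
    have e1 := hF T 1
    rw [MonObj.one_comp, MonObj.one_comp, dgFn_one, sgFn_one] at e1
    exact e1.symm
  let G := Red.bc f (SekSuwa.G R mu)
  have hu : IsUnit (F.eval₂ (strQ G) (sgFn f (𝟙 G))) := by
    refine IsUnit.of_mul_eq_one (F.eval₂ (strQ G) (sgFn f ((𝟙 G)⁻¹ : G ⟶ G))) ?_
    rw [← law, ← str_eq_strQ, ← sgFn_mul, mul_inv_cancel, sgFn_one, h1]
  obtain ⟨ψ, hψ⟩ := dgFn_surjective f (T := G) _ hu
  have hpt : ∀ {T : Over (Spec (CommRingCat.of Q))} (z : T ⟶ G), dgFn f (z ≫ ψ) = F.eval₂ (strQ T) (sgFn f z) := fun {T} z => by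
    rw [dgFn_comp, hψ, appTop_eval, ← sgFn_comp, Category.comp_id]
  refine ⟨ψ, { one_hom := dgFn_injective f ?_, mul_hom := dgFn_injective f ?_ }, dgFn_injective f ?_⟩
  · rw [MonObj.one_eq_one, MonObj.one_eq_one, hpt, sgFn_one, h1, dgFn_one]
  · rw [MonObj.mul_eq_mul, MonObj.mul_eq_mul, MonObj.comp_mul, tensorHom_fst, tensorHom_snd, hpt, dgFn_mul, hpt, hpt,
      sgFn_mul, str_eq_strQ, law]
  · rw [hpt]
    have e2 := hF _ (𝟙 _)
    rw [Category.id_comp, Category.id_comp] at e2
    exact e2.symm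

end

end Groth.Agent.SWTorsorLib
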