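import Mathlib

/-! Interpolation along the orbits of an order `p` translation, inside an algebra of functions. -/

set_option autoImplicit false
set_option linter.all false

universe u v
open Polynomial

noncomputable section

namespace Groth.Agent.SWTorsorLib

variable {R : Type u} [CommRing R] {X : Type v}

/-- An algebra of functions stable under differences along `h`, divided by `m`, with a node function. -/
structure IsStep (p : ℕ) (h : X → X) (m : R) (S : Subalgebra R (X → R)) (T : X → R) : Prop where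
  per : h^[p] = id
  diff : ∀ a ∈ S, ∃ b ∈ S, ∀ x, a (h x) - a x = m * b x
  node : T ∈ S
  sep : ∀ k, 0 < k → k < p → ∃ w ∈ S, ∃ w' ∈ S, w * w' = 1 ∧ ∀ x, T (h^[k] x) - T x = m * w x

namespace IsStep

variable {p : ℕ} {h : X → X} {m : R} {S : Subalgebra R (X → R)} {T : X → R}

/-- The product of the first node polynomials. -/
def nodeProd (T : X → R) (h : X → X) (k : ℕ) (x : X) : R[X] := ∏ i ∈ Finset.range k, (Polynomial.X - C (T (h^[i] x)))

theorem nodeProd_monic (T : X → R) (h : X → X) (k : ℕ) (x : X) : (nodeProd T h k x).Monic :=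
  monic_prod_of_monic _ _ fun i _ => monic_X_sub_C _

theorem natDegree_nodeProd [Nontrivial R] (T : X → R) (h : X → X) (k : ℕ) (x : X) : (nodeProd T h k x).natDegree = k := by
  rw [nodeProd, natDegree_prod_of_monic _ _ fun i _ => monic_X_sub_C _]
  simp

variable [IsDomain R]

theorem node_ne (hS : IsStep p h m S T) (hm : m ≠ 0) {i j : ℕ} (hij : i < j) (hj : j < p) (x : X) :
    T (h^[j] x) ≠ T (h^[i] x) := by
  obtain ⟨w, -, w', -, hw, e⟩ := hS.sep (j - i) (by omega) (by omega)
  intro he
  have e' := e (h^[i] x)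
  rw [← Function.iterate_add_apply, Nat.sub_add_cancel hij.le, he, sub_self] at e'
  have := congrFun hw (h^[i] x)
  rw [Pi.mul_apply, Pi.one_apply, (mul_eq_zero.1 e'.symm).resolve_left hm, zero_mul] at this
  exact zero_ne_one this

theorem eq_of_nodes (hS : IsStep p h m S T) (hm : m ≠ 0) {n : ℕ} (hn : n ≤ p) {x : X} {P Q : R[X]}
    (hP : P.natDegree < n) (hQ : Q.natDegree < n)
    (he : ∀ i < n, P.eval (T (h^[i] x)) = Q.eval (T (h^[i] x))) : P = Q := by
  classical
  refine Polynomial.eq_of_natDegree_lt_card_of_eval_eq' P Q ((Finset.range n).image fun i => T (h^[i] x)) ?_ ?_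
  · intro y hy
    obtain ⟨i, hi, rfl⟩ := Finset.mem_image.1 hy
    exact he i (Finset.mem_range.1 hi)
  · rw [Finset.card_image_of_injOn, Finset.card_range]
    · exact max_lt hP hQ
    · intro i hi j hj e
      have hi' : i < n := Finset.mem_range.1 hi
      have hj' : j < n := Finset.mem_range.1 hj
      rcases lt_trichotomy i j with hl | hl | hl
      · exact absurd e.symm (hS.node_ne hm hl (by omega) x)
      · exact hl
      · exact absurd e (hS.node_ne hm hl (by omega) x)

theorem exists_newton (hS : IsStep p h m S T) (hm : m ≠ 0) {a : X → R} (ha : a ∈ S) :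
    ∀ k < p, ∃ N ∈ S, ∀ x, ∃ Q : R[X], Q.natDegree ≤ k ∧ Q.coeff k = N x ∧ ∀ i ≤ k, Q.eval (T (h^[i] x)) = a (h^[i] x) := by
  intro k hk
  induction k with
  | zero => exact ⟨a, ha, fun x => ⟨C (a x), by simp, by simp, fun i hi => by obtain rfl := Nat.le_zero.1 hi; simp⟩⟩
  | succ k ih =>
    obtain ⟨N, hN, hQ⟩ := ih (Nat.lt_of_succ_lt hk)
    obtain ⟨b, hb, eb⟩ := hS.diff N hN
    obtain ⟨w, hw, w', hw', hww, ew⟩ := hS.sep (k + 1) k.succ_pos hk
    refine ⟨b * w', S.mul_mem hb hw', fun x => ?_⟩
    obtain ⟨Q, hQd, hQc, hQe⟩ := hQ x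
    obtain ⟨Q', hQ'd, hQ'c, hQ'e⟩ := hQ (h x)
    have hnd : (nodeProd T h k (h x)).natDegree = k := natDegree_nodeProd ..
    have key : Q' - Q = C (N (h x) - N x) * nodeProd T h k (h x) := by
      have hd : (Q' - Q - C (N (h x) - N x) * nodeProd T h k (h x)).natDegree ≤ k :=
        (natDegree_sub_le _ _).trans (max_le ((natDegree_sub_le _ _).trans (max_le hQ'd hQd))
          ((natDegree_C_mul_le _ _).trans hnd.le))
      have hc : (Q' - Q - C (N (h x) - N x) * nodeProd T h k (h x)).coeff k = 0 := by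
        have h1 : (nodeProd T h k (h x)).coeff k = 1 := by
          have h2 := (nodeProd_monic T h k (h x)).coeff_natDegree
          rwa [hnd] at h2
        rw [coeff_sub, coeff_sub, coeff_C_mul, hQc, hQ'c, h1]
        ring
      by_contra hne
      rw [← sub_eq_zero] at hne
      have hlt : (Q' - Q - C (N (h x) - N x) * nodeProd T h k (h x)).natDegree < k := lt_of_le_of_ne hd fun e =>
        hne (leadingCoeff_eq_zero.1 (by rw [leadingCoeff, e, hc]))
      refine hne (hS.eq_of_nodes hm (n := k) (x := h x) (by omega) hlt (by rw [natDegree_zero]; omega) fun i hi => ?_)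
      have e1 := hQ'e i hi.le
      have e2 := hQe (i + 1) hi
      rw [Function.iterate_succ_apply] at e2
      rw [eval_sub, eval_sub, e1, e2, eval_mul, nodeProd, eval_prod,
        Finset.prod_eq_zero (Finset.mem_range.2 hi) (by simp), mul_zero, sub_self, sub_self, eval_zero]
    have hb' : b x = w x * (b * w') x := by
      have e3 := congrFun hww x
      rw [Pi.mul_apply, Pi.one_apply] at e3
      rw [Pi.mul_apply]
      linear_combination (-b x) * e3
    refine ⟨Q + C ((b * w') x) * nodeProd T h (k + 1) x, ?_, ?_, fun i hi => ?_⟩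
    · exact (natDegree_add_le _ _).trans (max_le (hQd.trans k.le_succ)
        ((natDegree_C_mul_le _ _).trans (natDegree_nodeProd ..).le))
    · rw [coeff_add, coeff_eq_zero_of_natDegree_lt (Nat.lt_succ_of_le hQd), coeff_C_mul]
      have h1 : (nodeProd T h (k + 1) x).coeff (k + 1) = 1 := by
        have h2 := (nodeProd_monic T h (k + 1) x).coeff_natDegree
        rwa [natDegree_nodeProd] at h2
      rw [h1, zero_add, mul_one]
    · rw [eval_add, eval_mul, eval_C, nodeProd, eval_prod]
      rcases Nat.lt_or_eq_of_le hi with hi | rfl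
      · rw [Finset.prod_eq_zero (Finset.mem_range.2 hi) (by simp), mul_zero, add_zero, hQe i (Nat.lt_succ_iff.1 hi)]
      · have e1 := hQ'e k le_rfl
        rw [← Function.iterate_succ_apply] at e1
        have e2 := congrArg (Polynomial.eval (T (h^[k + 1] x))) key
        rw [eval_sub, eval_mul, eval_C, nodeProd, eval_prod, e1] at e2
        simp only [eval_sub, eval_X, eval_C, ← Function.iterate_succ_apply] at e2 ⊢
        rw [Finset.prod_range_succ']
        simp only [Function.iterate_zero, id_eq]
        linear_combination -e2 + ((b * w') x * ∏ i ∈ Finset.range k, (T (h^[k + 1] x) - T (h^[i + 1] x))) * ew x -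
          (∏ i ∈ Finset.range k, (T (h^[k + 1] x) - T (h^[i + 1] x))) * eb x -
          m * (∏ i ∈ Finset.range k, (T (h^[k + 1] x) - T (h^[i + 1] x))) * hb'

theorem decompose_lt (hS : IsStep p h m S T) (hm : m ≠ 0) (hp : 0 < p) :
    ∀ k ≤ p, ∀ a ∈ S, (∀ x, ∃ Q : R[X], Q.natDegree ≤ k - 1 ∧ (k = 0 → Q = 0) ∧ ∀ i < p, Q.eval (T (h^[i] x)) = a (h^[i] x)) →
      ∃ b : ℕ → X → R, (∀ i, b i ∈ S) ∧ (∀ i x, b i (h x) = b i x) ∧ a = ∑ i ∈ Finset.range k, b i * T ^ i := by
  intro k hk
  induction k with
  | zero =>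
    intro a ha hQ
    refine ⟨fun _ => 0, fun _ => S.zero_mem, fun _ _ => rfl, funext fun x => ?_⟩
    obtain ⟨Q, -, hQ0, hQe⟩ := hQ x
    have := hQe 0 hp
    simpa [hQ0 rfl] using this.symm
  | succ k ih =>
    intro a ha hQ
    obtain ⟨N, hN, hNQ⟩ := hS.exists_newton hm ha k hk
    have hcoeff : ∀ x (Q : R[X]), Q.natDegree ≤ k → (∀ i < p, Q.eval (T (h^[i] x)) = a (h^[i] x)) → Q.coeff k = N x := by
      intro x Q hQd hQe
      obtain ⟨P, hPd, hPc, hPe⟩ := hNQ x
      rw [hS.eq_of_nodes hm (n := k + 1) hk (Nat.lt_succ_of_le hQd) (Nat.lt_succ_of_le hPd)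
        (fun i hi => (hQe i (lt_of_lt_of_le hi hk)).trans (hPe i (Nat.lt_succ_iff.1 hi)).symm), hPc]
    have hinv : ∀ x, N (h x) = N x := fun x => by
      obtain ⟨Q, hQd, -, hQe⟩ := hQ x
      rw [← hcoeff x Q hQd hQe, ← hcoeff (h x) Q hQd fun i hi => ?_]
      rw [← Function.iterate_succ_apply]
      rcases Nat.lt_or_eq_of_le (Nat.succ_le_of_lt hi) with hi' | hi'
      · exact hQe _ hi'
      · rw [hi', hS.per]
        exact hQe 0 (by omega)
    have hinv' : ∀ i x, N (h^[i] x) = N x := fun i x => by
      induction i with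
      | zero => rfl
      | succ i ihi => rw [Function.iterate_succ_apply', hinv, ihi]
    obtain ⟨b, hb, hbi, hab⟩ := ih (Nat.le_of_succ_le hk) (a - N * T ^ k)
      (S.sub_mem ha (S.mul_mem hN (S.pow_mem hS.node k))) fun x => by
        obtain ⟨Q, hQd, -, hQe⟩ := hQ x
        refine ⟨Q - C (N x) * Polynomial.X ^ k, ?_, fun hk0 => ?_, fun i hi => ?_⟩
        · refine natDegree_le_iff_coeff_eq_zero.2 fun j hj => ?_
          rw [coeff_sub, coeff_C_mul_X_pow]
          rcases Nat.lt_or_ge k j with hj' | hj'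
          · rw [coeff_eq_zero_of_natDegree_lt (lt_of_le_of_lt hQd hj'), if_neg hj'.ne', sub_zero]
          · obtain rfl : j = k := by omega
            rw [if_pos rfl, hcoeff x Q hQd hQe, sub_self]
        · subst hk0
          rw [eq_C_of_natDegree_le_zero hQd, hcoeff x Q hQd hQe]
          simp
        · rw [eval_sub, hQe i hi, eval_mul, eval_C, eval_pow, eval_X, Pi.sub_apply, Pi.mul_apply, Pi.pow_apply, hinv']
    refine ⟨Function.update b k N, fun i => ?_, fun i x => ?_, ?_⟩
    · by_cases hi : i = k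
      · rw [hi, Function.update_self]; exact hN
      · rw [Function.update_of_ne hi]; exact hb i
    · by_cases hi : i = k
      · rw [hi, Function.update_self]; exact hinv x
      · rw [Function.update_of_ne hi]; exact hbi i x
    · rw [Finset.sum_range_succ, Function.update_self, Finset.sum_congr rfl (g := fun i => b i * T ^ i) fun i hi => by
        rw [Function.update_of_ne (Finset.mem_range.1 hi).ne], ← hab, sub_add_cancel]

theorem decompose (hS : IsStep p h m S T) (hm : m ≠ 0) (hp : 0 < p) {a : X → R} (ha : a ∈ S) :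
    ∃ b : ℕ → X → R, (∀ i, b i ∈ S) ∧ (∀ i x, b i (h x) = b i x) ∧ a = ∑ i ∈ Finset.range p, b i * T ^ i := by
  obtain ⟨N, hN, hNQ⟩ := hS.exists_newton hm ha (p - 1) (by omega)
  refine hS.decompose_lt hm hp p le_rfl a ha fun x => ?_
  obtain ⟨Q, hQd, -, hQe⟩ := hNQ x
  exact ⟨Q, hQd, fun h0 => absurd h0 hp.ne', fun i hi => hQe i (by omega)⟩

/-- Independence of the powers of the node function over invariant functions. -/
theorem eq_zero_of_sum (hS : IsStep p h m S T) (hm : m ≠ 0) (b : ℕ → X → R) (hb : ∀ i x, b i (h x) = b i x)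
    (he : ∑ i ∈ Finset.range p, b i * T ^ i = 0) {i : ℕ} (hi : i < p) (x : X) : b i x = 0 := by
  have hb' : ∀ j k x, b j (h^[k] x) = b j x := fun j k x => by
    induction k with
    | zero => rfl
    | succ k ihk => rw [Function.iterate_succ_apply', hb, ihk]
  have key : (∑ j ∈ Finset.range p, C (b j x) * Polynomial.X ^ j) = 0 := by
    refine hS.eq_of_nodes hm (n := p) (x := x) le_rfl ?_ (by rw [natDegree_zero]; omega) fun k hk => ?_
    · refine lt_of_le_of_lt (natDegree_sum_le_of_forall_le _ _ (n := p - 1) fun j hj =>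
        (natDegree_C_mul_X_pow_le _ _).trans (by have := Finset.mem_range.1 hj; omega)) (by omega)
    · have e := congrFun he (h^[k] x)
      simp only [Finset.sum_apply, Pi.mul_apply, Pi.pow_apply, hb', Pi.zero_apply] at e
      rw [eval_finset_sum, eval_zero]
      simpa using e
  have := congrArg (fun P => coeff P i) key
  simpa [finset_sum_coeff, hi] using this

end IsStep

end Groth.Agent.SWTorsorLib
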