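import Groth.Agent.SWTorsorLib.OrdPMain
import Groth.Agent.SWTorsorLib.TwoStep

/-! Finite flat groups with a commutative group of integral points separating the functions. -/

set_option autoImplicit false
set_option linter.all false
set_option backward.isDefEq.respectTransparency false
set_option backward.isDefEq.respectTransparency.types false

universe u v
open CategoryTheory Limits MonoidalCategory CartesianMonoidalCategory MonObj GrpObj AlgebraicGeometry
open scoped TensorProduct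

noncomputable section

namespace Groth.Agent.SWTorsorLib

variable {R : Type u} [CommRing R]

/-- A commutative group of integral points, with the algebra of its functions. -/
structure PtData (G : Over (Spec (CommRingCat.of R))) [GrpObj G] [Algebra R Γ(G.left, ⊤)] (M : Type v) [AddCommGroup M] where
  σ : M → (basePt R ⟶ G)
  mul : ∀ a b, σ a * σ b = σ (a + b)
  inj : Function.Injective σ
  ev : Γ(G.left, ⊤) →ₐ[R] (M → R)
  ev_eq : ∀ a x, ev a x = val (σ x) a
  sep : Function.Injective ev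
  alg : ∀ r, algebraMap R Γ(G.left, ⊤) r = Groth.Agent.GaPoints.ringMap (R := CommRingCat.of R) G.hom r

namespace PtData

variable {G : Over (Spec (CommRingCat.of R))} [GrpObj G] [Algebra R Γ(G.left, ⊤)] {M : Type v} [AddCommGroup M]
  (D : PtData G M)

theorem σ_zero : D.σ 0 = 1 := mul_left_cancel (a := D.σ 0) (by rw [D.mul, add_zero, _root_.mul_one])

theorem exists_translate (y : M) (a : Γ(G.left, ⊤)) : ∃ a', ∀ x, D.ev a' x = D.ev a (x + y) :=
  ⟨(𝟙 G * (toPt G ≫ D.σ y)).left.appTop a, fun x => by rw [D.ev_eq, D.ev_eq, val_translate, D.mul]⟩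

variable [IsDomain R] [IsDiscreteValuationRing R] [IsAffine G.left] [Finite M]

theorem exists_delta (x₀ : M) : ∃ a, D.ev a x₀ ≠ 0 ∧ ∀ y ≠ x₀, D.ev a y = 0 := by
  classical
  haveI : Fintype M := Fintype.ofFinite M
  have h : ∀ y : M, ∃ a, y ≠ x₀ → D.ev a x₀ ≠ D.ev a y := fun y => by
    by_cases hy : y = x₀
    · exact ⟨0, fun h => absurd hy h⟩
    · by_contra hno
      push_neg at hno
      exact hy (D.inj (val_ext fun a => by rw [← D.ev_eq, ← D.ev_eq]; exact (hno a).2.symm))
  choose a ha using h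
  refine ⟨∏ y ∈ Finset.univ.erase x₀, (a y - algebraMap R _ (D.ev (a y) y)), ?_, fun y hy => ?_⟩
  · rw [map_prod, Finset.prod_apply, Finset.prod_ne_zero_iff]
    intro y hy
    rw [map_sub, AlgHom.commutes, Pi.sub_apply, Pi.algebraMap_apply, Algebra.algebraMap_self_apply, sub_ne_zero]
    exact ha y (Finset.ne_of_mem_erase hy)
  · rw [map_prod, Finset.prod_apply]
    exact Finset.prod_eq_zero (Finset.mem_erase.2 ⟨hy, Finset.mem_univ y⟩) (by simp [AlgHom.commutes])

/-- The maximal ideal under a point. -/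
def pIdeal (x : M) : Ideal Γ(G.left, ⊤) :=
  RingHom.ker ((IsLocalRing.residue R).comp ((Pi.evalAlgHom R (fun _ : M => R) x).comp D.ev).toRingHom)

theorem mem_pIdeal {x : M} {a : Γ(G.left, ⊤)} : a ∈ D.pIdeal x ↔ D.ev a x ∈ IsLocalRing.maximalIdeal R :=
  IsLocalRing.residue_eq_zero_iff _

theorem isMaximal_pIdeal (x : M) : (D.pIdeal x).IsMaximal :=
  RingHom.ker_isMaximal_of_surjective _ fun c => by
    obtain ⟨r, rfl⟩ := IsLocalRing.residue_surjective c
    exact ⟨algebraMap R _ r, by simp [AlgHom.commutes]⟩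

theorem isUnit_of_values {a : Γ(G.left, ⊤)} (h : ∀ x, IsUnit (D.ev a x)) : IsUnit a := by
  classical
  haveI : Fintype M := Fintype.ofFinite M
  by_contra hu
  obtain ⟨P, hP, haP⟩ := exists_max_ideal_of_mem_nonunits (mem_nonunits_iff.2 hu)
  let q := fun x : M => a - algebraMap R _ (D.ev a x)
  have h0 : ∏ x, q x = 0 := D.sep (funext fun y => by
    rw [map_prod, Finset.prod_apply, map_zero]
    exact Finset.prod_eq_zero (Finset.mem_univ y) (by simp [q, AlgHom.commutes]))
  obtain ⟨x, -, hx⟩ := (hP.isPrime.prod_mem_iff).1 (h0 ▸ P.zero_mem : ∏ x, q x ∈ P)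
  refine hP.ne_top (P.eq_top_of_isUnit_mem ?_ ((h x).map (algebraMap R Γ(G.left, ⊤))))
  have := P.sub_mem haP hx
  rwa [sub_sub_cancel] at this

theorem pIdeal_add {x y : M} (z : M) (h : D.pIdeal x = D.pIdeal y) : D.pIdeal (x + z) = D.pIdeal (y + z) := by
  ext a
  obtain ⟨a', ha'⟩ := D.exists_translate z a
  have := SetLike.ext_iff.1 h a'
  rw [D.mem_pIdeal, D.mem_pIdeal, ha', ha'] at this
  rwa [D.mem_pIdeal, D.mem_pIdeal]

theorem exists_residue (F : M → R) (hF : ∀ x y, D.pIdeal x = D.pIdeal y → F x = F y) :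
    ∃ a, ∀ x, D.ev a x - F x ∈ IsLocalRing.maximalIdeal R := by
  let I := Set.range D.pIdeal
  have hco : Pairwise (Function.onFun IsCoprime fun P : I => (P : Ideal Γ(G.left, ⊤))) := fun P Q hne => by
    obtain ⟨x, hx⟩ := P.2
    obtain ⟨y, hy⟩ := Q.2
    show IsCoprime (P : Ideal Γ(G.left, ⊤)) (Q : Ideal Γ(G.left, ⊤))
    rw [← hx, ← hy]
    exact Ideal.isCoprime_iff_sup_eq.2 ((D.isMaximal_pIdeal x).coprime_of_ne (D.isMaximal_pIdeal y)
      (fun e => hne (Subtype.ext (hx.symm.trans (e.trans hy)))))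
  haveI : Finite I := Set.finite_range D.pIdeal |>.to_subtype
  obtain ⟨a, ha⟩ := Ideal.pi_quotient_surjective hco fun P => Ideal.Quotient.mk _ (algebraMap R _ (F P.2.choose))
  refine ⟨a, fun x => ?_⟩
  have h1 := (D.mem_pIdeal).1 (Ideal.Quotient.eq.1 (ha ⟨D.pIdeal x, x, rfl⟩))
  rw [map_sub, AlgHom.commutes, Pi.sub_apply, Pi.algebraMap_apply, Algebra.algebraMap_self_apply] at h1
  rwa [hF _ x (Exists.choose_spec (⟨x, rfl⟩ : ∃ y, D.pIdeal y = D.pIdeal x))] at h1

variable {p : ℕ} [hp : Fact p.Prime] [CharP (IsLocalRing.ResidueField R) p]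

/-- Restriction of functions to a cyclic subgroup of points. -/
def res (f : ZMod p →+ M) : Γ(G.left, ⊤) →ₐ[R] (ZMod p → R) :=
  AlgHom.pi fun n => (Pi.evalAlgHom R (fun _ : M => R) (f n)).comp D.ev

theorem res_apply (f : ZMod p →+ M) (a : Γ(G.left, ⊤)) (n : ZMod p) : D.res f a n = D.ev a (f n) := rfl

theorem exists_lattice_res (f : ZMod p →+ M) (hf : Function.Injective f) :
    ∃ m : R, m ≠ 0 ∧ IsLattice m (D.res f).range :=
  isLattice_of_points (fun n => D.σ (f n)) (fun a b => by rw [D.mul, map_add]) (D.inj.comp hf)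
    (by show D.σ (f 0) = 1; rw [map_zero, D.σ_zero]) D.alg (D.res f) fun a n => D.ev_eq a (f n)

theorem exists_diff {f : ZMod p →+ M} {m : R} (hL : IsLattice m (D.res f).range) (a : Γ(G.left, ⊤)) :
    ∃ b, ∀ x, D.ev a (x + f 1) - D.ev a x = m * D.ev b x := by
  have hs : ∀ c, m ∣ val (D.σ (f 1)) c - val (1 : basePt R ⟶ G) c := fun c => by
    have h := hL.dvd_sub_zero (g := D.res f c) ⟨c, rfl⟩ 1
    rw [D.res_apply, D.res_apply, map_zero, D.ev_eq, D.ev_eq, D.σ_zero] at h
    exact h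
  obtain ⟨b, hb⟩ := exists_translate_sub (D.σ (f 1)) m hs a
  refine ⟨b, fun x => ?_⟩
  have e := congrArg (val (D.σ x)) hb
  rw [map_sub, map_mul, val_translate, val_str, D.mul] at e
  rw [D.ev_eq, D.ev_eq, D.ev_eq]
  exact e

theorem exists_node_unit {f : ZMod p →+ M} {m : R} (hL : IsLattice m (D.res f).range) (hm : IsUnit m) :
    ∃ T, ∀ k : ℕ, 0 < k → k < p → ∀ x, IsUnit (D.ev T (x + f k) - D.ev T x) := by
  have hne : ∀ k : ZMod p, k ≠ 0 → ∀ x, D.pIdeal (x + f k) ≠ D.pIdeal x := fun k hk x e => by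
    obtain ⟨g, ⟨a, rfl⟩, hu⟩ := hL.exists_sep hm hk
    change IsUnit (D.ev a (f k) - D.ev a (f 0)) at hu
    rw [map_zero] at hu
    have e' := D.pIdeal_add (-x) e
    rw [add_neg_cancel, ← sub_eq_add_neg, add_sub_cancel_left] at e'
    have h1 : a - algebraMap R _ (D.ev a 0) ∈ D.pIdeal 0 := by rw [D.mem_pIdeal]; simp [AlgHom.commutes]
    rw [← e', D.mem_pIdeal, map_sub, AlgHom.commutes] at h1
    exact IsLocalRing.notMem_maximalIdeal.2 hu (by simpa using h1)
  let sg : Setoid M := Setoid.ker D.pIdeal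
  let rel : Setoid M :=
    { r := fun x y => ∃ k : ZMod p, D.pIdeal (x + f k) = D.pIdeal y
      iseqv := ⟨fun x => ⟨0, by rw [map_zero, add_zero]⟩, fun {x y} ⟨k, hk⟩ => ⟨-k, by
        have := D.pIdeal_add (f (-k)) hk
        rw [add_assoc, ← map_add, add_neg_cancel, map_zero, add_zero] at this
        exact this.symm⟩, fun {x y z} ⟨k, hk⟩ ⟨l, hl⟩ => ⟨k + l, by
        rw [map_add, ← add_assoc, D.pIdeal_add (f l) hk, hl]⟩⟩ }
  let rep : M → M := fun x => (Quotient.mk rel x).out
  have hrep : ∀ x, ∃ k : ZMod p, D.pIdeal (rep x + f k) = D.pIdeal x := fun x => Quotient.mk_out (s := rel) x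
  choose F hF using hrep
  have hshift : ∀ x y (k : ZMod p), D.pIdeal (x + f k) = D.pIdeal y → F y = F x + k := fun x y k e => by
    have hr : rep x = rep y := congrArg Quotient.out (Quotient.sound (s := rel) ⟨k, e⟩)
    have e1 := D.pIdeal_add (f k) (hF x)
    rw [e, hr, add_assoc, ← map_add, ← hF y] at e1
    by_contra hne'
    have e2 := hne (F x + k - F y) (sub_ne_zero.2 (Ne.symm hne')) (rep y + f (F y))
    rw [add_assoc, ← map_add, add_sub_cancel] at e2
    exact e2 e1
  obtain ⟨T, hT⟩ := D.exists_residue (fun x => ((F x).val : R)) fun x y e => by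
    rw [hshift x y 0 (by rw [map_zero, add_zero]; exact e), add_zero]
  refine ⟨T, fun k hk0 hk x => IsLocalRing.notMem_maximalIdeal.1 fun hmem => ?_⟩
  have h1 := (IsLocalRing.residue_eq_zero_iff _).2 (hT (x + f k))
  have h2 := (IsLocalRing.residue_eq_zero_iff _).2 (hT x)
  have h3 := (IsLocalRing.residue_eq_zero_iff _).2 hmem
  rw [map_sub, sub_eq_zero] at h1 h2 h3
  rw [h1, h2, hshift x (x + f k) k rfl, map_natCast, map_natCast, CharP.natCast_eq_natCast _ p, Nat.ModEq] at h3
  rw [ZMod.val_add, ZMod.val_natCast_of_lt hk, Nat.mod_mod, Nat.mod_eq_of_lt (F x).val_lt] at h3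
  have hlt := (F x).val_lt
  rcases Nat.lt_or_ge ((F x).val + k) p with hh | hh
  · rw [Nat.mod_eq_of_lt hh] at h3; omega
  · rw [Nat.mod_eq_sub_mod hh, Nat.mod_eq_of_lt (by omega)] at h3; omega

theorem exists_node_nonunit {f : ZMod p →+ M} {m : R} (hL : IsLattice m (D.res f).range) (hm : ¬ IsUnit m) (hm0 : m ≠ 0) :
    ∃ T s, (∀ x, D.ev T (x + f 1) - D.ev T x = m * D.ev s x) ∧ ∀ x, D.ev s x - 1 ∈ IsLocalRing.maximalIdeal R := by
  classical
  haveI : Fintype M := Fintype.ofFinite M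
  have hmem : m ∈ IsLocalRing.maximalIdeal R := hm
  obtain ⟨g, ⟨T₀, rfl⟩, hg0, hg1⟩ := hL.gen
  change D.ev T₀ (f 0) = 0 at hg0
  change D.ev T₀ (f 1) = m at hg1
  rw [map_zero] at hg0
  obtain ⟨s₀, hs₀⟩ := D.exists_diff hL T₀
  have hs0 : D.ev s₀ 0 = 1 := mul_left_cancel₀ hm0 (by rw [← hs₀ 0, zero_add, hg1, hg0, sub_zero, _root_.mul_one])
  let I := Set.range D.pIdeal
  haveI : Fintype I := Set.fintypeRange D.pIdeal
  let r : I → M := fun P => P.2.choose
  have hr : ∀ P : I, D.pIdeal (r P) = P := fun P => P.2.choose_spec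
  choose u hu using fun P : I => D.exists_residue (fun x => if D.pIdeal x = P then 1 else 0) fun x y e => by rw [e]
  choose T' hT' using fun P : I => D.exists_translate (-r P) T₀
  choose s' hs' using fun P : I => D.exists_translate (-r P) s₀
  choose du hdu using fun P : I => D.exists_diff hL (u P ^ p)
  have hdu0 : ∀ P x, D.ev (du P) x ∈ IsLocalRing.maximalIdeal R := fun P x => by
    obtain ⟨d, hd⟩ := D.exists_diff hL (u P)
    obtain ⟨c, hc⟩ := exists_add_pow_prime_eq (R := R) hp.out (D.ev (u P) x) (m * D.ev d x)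
    have e := hdu P x
    rw [map_pow, Pi.pow_apply, Pi.pow_apply, show D.ev (u P) (x + f 1) = D.ev (u P) x + m * D.ev d x by rw [← hd x]; ring, hc] at e
    have hp2 := hp.out.two_le
    have hpmem : (p : R) ∈ IsLocalRing.maximalIdeal R := (IsLocalRing.residue_eq_zero_iff _).1 (by rw [map_natCast]; exact CharP.cast_eq_zero _ p)
    have e' : D.ev (du P) x = (m * m ^ (p - 2)) * D.ev d x ^ p + (p : R) * (D.ev (u P) x * D.ev d x * c) := by
      refine mul_left_cancel₀ hm0 ?_
      rw [← e, mul_pow, show m ^ p = m * (m * m ^ (p - 2)) by rw [← pow_succ', ← pow_succ', show p - 2 + 1 + 1 = p by omega]]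
      ring
    rw [e']
    exact add_mem (Ideal.mul_mem_right _ _ (Ideal.mul_mem_right _ _ hmem)) (Ideal.mul_mem_right _ _ hpmem)
  obtain ⟨τe, hτe⟩ : ∃ τe : I → Γ(G.left, ⊤), ∀ P x, D.ev (τe P) x = D.ev (T' P) (x + f 1) :=
    ⟨fun P => (D.exists_translate (f 1) (T' P)).choose, fun P => (D.exists_translate (f 1) (T' P)).choose_spec⟩
  refine ⟨∑ P : I, u P ^ p * T' P, ∑ P : I, (du P * τe P + u P ^ p * s' P), fun x => ?_, fun x => ?_⟩
  · simp only [map_sum, map_add, map_mul, Finset.sum_apply, Pi.add_apply, Pi.mul_apply, Finset.mul_sum, hτe, hT', hs',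
      ← Finset.sum_sub_distrib]
    refine Finset.sum_congr rfl fun P _ => ?_
    have e1 := hdu P x
    have e2 := hs₀ (x + -r P)
    rw [add_right_comm] at e2
    linear_combination D.ev T₀ (x + f 1 + -r P) * e1 + D.ev (u P ^ p) x * e2
  · have hsum : D.ev (∑ P : I, (du P * τe P + u P ^ p * s' P)) x - 1 =
        ∑ P : I, D.ev (du P) x * D.ev (τe P) x +
          ∑ P : I, ((D.ev (u P) x) ^ p * D.ev s₀ (x + -r P) - if P = ⟨D.pIdeal x, x, rfl⟩ then 1 else 0) := by
      simp only [map_sum, map_add, map_mul, map_pow, Finset.sum_apply, Pi.add_apply, Pi.mul_apply, Pi.pow_apply, hs',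
        Finset.sum_add_distrib, Finset.sum_sub_distrib, Finset.sum_ite_eq', Finset.mem_univ, if_true]
      ring
    rw [hsum]
    refine add_mem (sum_mem fun P _ => Ideal.mul_mem_right _ _ (hdu0 P x)) (sum_mem fun P _ => ?_)
    have hux := (IsLocalRing.residue_eq_zero_iff _).2 (hu P x)
    rw [map_sub, sub_eq_zero] at hux
    refine (IsLocalRing.residue_eq_zero_iff _).1 ?_
    rw [map_sub, map_mul, map_pow, hux]
    by_cases hP : D.pIdeal x = P
    · have e1 : D.pIdeal (x + -r P) = D.pIdeal 0 := by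
        have := D.pIdeal_add (-r P) (hP.trans (hr P).symm)
        rwa [add_neg_cancel] at this
      have h1 : s₀ - 1 ∈ D.pIdeal 0 := by
        rw [D.mem_pIdeal, map_sub, map_one, Pi.sub_apply, hs0, Pi.one_apply, sub_self]
        exact zero_mem _
      rw [← e1, D.mem_pIdeal, map_sub, map_one, Pi.sub_apply, Pi.one_apply] at h1
      have h2 := (IsLocalRing.residue_eq_zero_iff _).2 h1
      rw [map_sub, sub_eq_zero] at h2
      rw [if_pos hP, if_pos (Subtype.ext hP.symm), h2, map_one, one_pow, _root_.one_mul, sub_self]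
    · rw [if_neg hP, if_neg (fun e => hP (congrArg Subtype.val e).symm), map_zero, zero_pow hp.out.ne_zero, zero_mul,
        sub_self]

theorem exists_isStep (f : ZMod p →+ M) (hf : Function.Injective f) :
    ∃ m T, m ≠ 0 ∧ IsLattice m (D.res f).range ∧ IsStep p (fun x => x + f 1) m D.ev.range (D.ev T) := by
  obtain ⟨m, hm0, hL⟩ := D.exists_lattice_res f hf
  have hit : ∀ k x, (fun x => x + f 1)^[k] x = x + f (k : ZMod p) := fun k x => by
    induction k with
    | zero => simp
    | succ k ih => rw [Function.iterate_succ_apply', ih, Nat.cast_succ, map_add, add_assoc]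
  have key : ∃ T, ∀ k : ℕ, 0 < k → k < p → ∃ w, (∀ x, IsUnit (D.ev w x)) ∧ ∀ x, D.ev T (x + f k) - D.ev T x = m * D.ev w x := by
    by_cases hm : IsUnit m
    · obtain ⟨T, hT⟩ := D.exists_node_unit hL hm
      refine ⟨T, fun k hk0 hk => ?_⟩
      obtain ⟨Tk, hTk⟩ := D.exists_translate (f k) T
      refine ⟨algebraMap R _ ↑hm.unit⁻¹ * (Tk - T), fun x => ?_, fun x => ?_⟩
      · rw [map_mul, AlgHom.commutes, map_sub, Pi.mul_apply, Pi.sub_apply, hTk]
        exact (hm.unit⁻¹.isUnit).mul (hT k hk0 hk x)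
      · rw [map_mul, AlgHom.commutes, map_sub, Pi.mul_apply, Pi.sub_apply, hTk, Pi.algebraMap_apply,
          Algebra.algebraMap_self_apply, ← _root_.mul_assoc, IsUnit.mul_val_inv, _root_.one_mul]
    · obtain ⟨T, s, hTs, hs⟩ := D.exists_node_nonunit hL hm hm0
      choose sj hsj using fun j : ℕ => D.exists_translate (f j) s
      refine ⟨T, fun k hk0 hk => ⟨∑ j ∈ Finset.range k, sj j, fun x => ?_, fun x => ?_⟩⟩
      · refine IsLocalRing.notMem_maximalIdeal.1 fun hmem => ?_
        have h1 := (IsLocalRing.residue_eq_zero_iff _).2 hmem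
        have h2 : ∀ y, IsLocalRing.residue R (D.ev s y) = 1 := fun y => by
          have := (IsLocalRing.residue_eq_zero_iff _).2 (hs y)
          rwa [map_sub, map_one, sub_eq_zero] at this
        simp only [map_sum, Finset.sum_apply, hsj, h2, Finset.sum_const, Finset.card_range, nsmul_eq_mul, _root_.mul_one] at h1
        exact absurd (Nat.le_of_dvd hk0 ((CharP.cast_eq_zero_iff _ p k).1 h1)) (not_le.2 hk)
      · simp only [map_sum, Finset.sum_apply, hsj, Finset.mul_sum, ← hTs]
        have e := Finset.sum_range_sub (fun j : ℕ => D.ev T (x + f j)) k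
        rw [Nat.cast_zero, map_zero, add_zero] at e
        rw [← e]
        exact Finset.sum_congr rfl fun j _ => by rw [Nat.cast_succ, map_add, add_assoc]
  obtain ⟨T, hT⟩ := key
  refine ⟨m, T, hm0, hL, funext fun x => ?_, ?_, ⟨T, rfl⟩, fun k hk0 hk => ?_⟩
  · rw [hit, ZMod.natCast_self, map_zero, add_zero, id]
  · rintro _ ⟨a, rfl⟩
    obtain ⟨b, hb⟩ := D.exists_diff hL a
    exact ⟨D.ev b, ⟨b, rfl⟩, hb⟩
  · obtain ⟨w, hw, e⟩ := hT k hk0 hk
    obtain ⟨w', hw'⟩ := (D.isUnit_of_values hw).exists_right_inv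
    exact ⟨D.ev w, ⟨w, rfl⟩, D.ev w', ⟨w', rfl⟩, by rw [← map_mul, hw', map_one], fun x => by rw [hit]; exact e x⟩

end PtData

end Groth.Agent.SWTorsorLib
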