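import Groth.Prelude.Def_SekSuwa
import Groth.Agent.GmTorsor.Points

/-! Points of the group schemes `G^(λ)` over an arbitrary base, and their flatness. -/

set_option autoImplicit false
set_option linter.all false
set_option backward.isDefEq.respectTransparency false
set_option backward.defeqAttrib.useBackward true
set_option backward.isDefEq.respectTransparency.types false

universe u
open CategoryTheory Limits MonoidalCategory CartesianMonoidalCategory MonObj GrpObj AlgebraicGeometry
open scoped TensorProduct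

noncomputable section

namespace Groth.Agent.SWTorsorLib

open Groth.Agent.GaPoints (ringMap exists_ringMap ringMap_comp_SpecMap ringMap_injective)
open Groth.Agent.GmTorsor (mor gammaSpec_map)

variable {R : Type u} [CommRing R]

theorem flat_A (lam : R) : Module.Flat R (SekSuwa.A R lam) := by
  let q : Polynomial R := 1 + lam • Polynomial.X
  let L := Localization.Away q
  have h1 : (1 + lam • algebraMap (Polynomial R) L Polynomial.X) * IsLocalization.Away.invSelf (S := L) q = 1 := by
    have e : algebraMap (Polynomial R) L q = 1 + lam • algebraMap (Polynomial R) L Polynomial.X := by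
      rw [map_add, map_one]
      congr 1
      exact map_smul (IsScalarTower.toAlgHom R (Polynomial R) L) lam _
    rw [← e]
    exact IsLocalization.Away.mul_invSelf (S := L) q
  let toL : SekSuwa.A R lam →ₐ[R] L := SekSuwa.A.lift R lam _ _ h1
  have hu : IsUnit (Polynomial.aeval (SekSuwa.A.t : SekSuwa.A R lam) q) := by
    rw [map_add, map_one, map_smul, Polynomial.aeval_X]
    exact SekSuwa.A.isUnit_u
  let fr₀ : L →+* SekSuwa.A R lam := IsLocalization.Away.lift q (g := (Polynomial.aeval SekSuwa.A.t).toRingHom) hu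
  let fr : L →ₐ[R] SekSuwa.A R lam :=
    { fr₀ with
      commutes' := fun r => by
        show fr₀ (algebraMap R L r) = _
        rw [IsScalarTower.algebraMap_apply R (Polynomial R) L, IsLocalization.Away.lift_eq]
        exact (Polynomial.aeval SekSuwa.A.t).commutes r }
  have ht : fr (toL SekSuwa.A.t) = SekSuwa.A.t := by
    show fr₀ (toL SekSuwa.A.t) = _
    rw [show toL SekSuwa.A.t = algebraMap (Polynomial R) L Polynomial.X from SekSuwa.A.lift_t _ _ _,
      IsLocalization.Away.lift_eq]
    exact Polynomial.aeval_X _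
  have h2 : fr.comp toL = AlgHom.id R _ := by
    refine SekSuwa.A.algHom_ext ht ((SekSuwa.A.isUnit_u (R := R) (lam := lam)).mul_left_cancel ?_)
    have e := congrArg (fr.comp toL) (SekSuwa.A.u_mul_inv (R := R) (lam := lam))
    rw [map_mul, map_one, SekSuwa.A.u, map_add, map_one, map_smul] at e
    rw [AlgHom.comp_apply] at e ⊢
    rw [ht] at e
    rw [AlgHom.id_apply, SekSuwa.A.u_mul_inv]
    exact e
  have h3 : toL.comp fr = AlgHom.id R L := by
    refine AlgHom.coe_ringHom_injective (IsLocalization.ringHom_ext (Submonoid.powers q) (Polynomial.ringHom_ext (fun r => ?_) ?_))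
    · show toL (fr (algebraMap (Polynomial R) L (Polynomial.C r))) = algebraMap (Polynomial R) L (Polynomial.C r)
      rw [show algebraMap (Polynomial R) L (Polynomial.C r) = algebraMap R L r from
        (IsScalarTower.algebraMap_apply R (Polynomial R) L r).symm, fr.commutes, toL.commutes]
    · show toL (fr₀ (algebraMap (Polynomial R) L Polynomial.X)) = algebraMap (Polynomial R) L Polynomial.X
      rw [IsLocalization.Away.lift_eq]
      show toL (Polynomial.aeval SekSuwa.A.t Polynomial.X) = _
      rw [Polynomial.aeval_X]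
      exact SekSuwa.A.lift_t _ _ _
  haveI : Module.Flat (Polynomial R) L := IsLocalization.flat L (Submonoid.powers q)
  haveI : Module.Flat R L := Module.Flat.trans R (Polynomial R) L
  exact Module.Flat.of_linearEquiv (AlgEquiv.ofAlgHom fr toL h2 h3).symm.toLinearEquiv

variable {S : Scheme.{u}} (f : S ⟶ Spec (CommRingCat.of R)) {lam : R}

/-- The function of a point. -/
def sgFn {T : Over S} (x : T ⟶ Red.bc f (SekSuwa.G R lam)) : Γ(T.left, ⊤) :=
  ringMap (R := CommRingCat.of (SekSuwa.A R lam)) (x.left ≫ pullback.fst _ _) SekSuwa.A.t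

/-- The structure map on functions. -/
def str (T : Over S) : R →+* Γ(T.left, ⊤) := ringMap (R := CommRingCat.of R) (T.hom ≫ f)

theorem ringMap_algebraMap {T : Over S} (x : T ⟶ Red.bc f (SekSuwa.G R lam)) (r : R) :
    ringMap (R := CommRingCat.of (SekSuwa.A R lam)) (x.left ≫ pullback.fst _ _) (algebraMap R (SekSuwa.A R lam) r) =
      str f T r := by
  have e : (x.left ≫ pullback.fst _ _) ≫ Spec.map (CommRingCat.ofHom (algebraMap R (SekSuwa.A R lam))) = T.hom ≫ f := by
    rw [Category.assoc]
    erw [pullback.condition]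
    rw [← Category.assoc]
    congr 1
    exact Over.w x
  rw [str, ← e, ringMap_comp_SpecMap]
  rfl

theorem isUnit_sgFn {T : Over S} (x : T ⟶ Red.bc f (SekSuwa.G R lam)) :
    IsUnit (1 + str f T lam * sgFn f x) := by
  have h := (SekSuwa.A.isUnit_u (R := R) (lam := lam)).map
    (ringMap (R := CommRingCat.of (SekSuwa.A R lam)) (x.left ≫ pullback.fst _ _))
  rw [SekSuwa.A.u_def] at h
  erw [map_add, map_one, map_mul, ringMap_algebraMap] at h
  exact h

theorem sgFn_injective {T : Over S} : Function.Injective (sgFn f (lam := lam) (T := T)) := by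
  intro x y h
  refine Over.OverMorphism.ext (pullback.hom_ext (ringMap_injective ?_) ((Over.w x).trans (Over.w y).symm))
  letI : Algebra R Γ(T.left, ⊤) := (str f T).toAlgebra
  let a (z : T ⟶ Red.bc f (SekSuwa.G R lam)) : SekSuwa.A R lam →ₐ[R] Γ(T.left, ⊤) :=
    { ringMap (R := CommRingCat.of (SekSuwa.A R lam)) (z.left ≫ pullback.fst _ _) with
      commutes' := ringMap_algebraMap f z }
  have ht : a x SekSuwa.A.t = a y SekSuwa.A.t := h
  have hu : a x SekSuwa.A.u = a y SekSuwa.A.u := by
    rw [SekSuwa.A.u, map_add, map_add, map_one, map_one, map_smul, map_smul, ht]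
  have : a x = a y := SekSuwa.A.algHom_ext ht ((SekSuwa.A.isUnit_u.map (a x)).mul_left_cancel (by
    conv_rhs => rw [hu, ← map_mul]
    rw [← map_mul, SekSuwa.A.u_mul_inv, map_one, map_one]))
  exact congrArg AlgHom.toRingHom this

theorem sgFn_surjective {T : Over S} (b : Γ(T.left, ⊤)) (hb : IsUnit (1 + str f T lam * b)) :
    ∃ x : T ⟶ Red.bc f (SekSuwa.G R lam), sgFn f x = b := by
  letI : Algebra R Γ(T.left, ⊤) := (str f T).toAlgebra
  obtain ⟨c, hc⟩ := hb.exists_right_inv
  let φ := SekSuwa.A.lift R lam b c (by rw [Algebra.smul_def]; exact hc)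
  obtain ⟨q, hq⟩ := exists_ringMap (R := CommRingCat.of (SekSuwa.A R lam)) φ.toRingHom
  have hw : q ≫ Spec.map (CommRingCat.ofHom (algebraMap R (SekSuwa.A R lam))) = T.hom ≫ f :=
    ringMap_injective (RingHom.ext fun r => by
      rw [ringMap_comp_SpecMap, hq]
      exact φ.commutes r)
  refine ⟨Over.homMk (pullback.lift q T.hom hw) (pullback.lift_snd _ _ _), ?_⟩
  change ringMap ((pullback.lift q T.hom _) ≫ pullback.fst _ _) (SekSuwa.A.t : SekSuwa.A R lam) = b
  rw [pullback.lift_fst, hq]
  exact SekSuwa.A.lift_t _ _ _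

/-- The group law over the base ring. -/
theorem sg_mul {Y : Over (Spec (CommRingCat.of R))} (x y : Y ⟶ SekSuwa.G R lam) :
    ringMap (R := CommRingCat.of (SekSuwa.A R lam)) (x * y).left SekSuwa.A.t =
      ringMap (R := CommRingCat.of (SekSuwa.A R lam)) x.left SekSuwa.A.t +
        ringMap (R := CommRingCat.of (SekSuwa.A R lam)) y.left SekSuwa.A.t +
        ringMap (R := CommRingCat.of R) Y.hom lam *
          ringMap (R := CommRingCat.of (SekSuwa.A R lam)) x.left SekSuwa.A.t *
          ringMap (R := CommRingCat.of (SekSuwa.A R lam)) y.left SekSuwa.A.t := by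
  let A := SekSuwa.A R lam
  let j₁ : CommRingCat.of A ⟶ CommRingCat.of (A ⊗[R] A) :=
    CommRingCat.ofHom Algebra.TensorProduct.includeLeftRingHom
  let j₂ : CommRingCat.of A ⟶ CommRingCat.of (A ⊗[R] A) :=
    CommRingCat.ofHom (R := A) (S := A ⊗[R] A)
      (RingHomClass.toRingHom (Algebra.TensorProduct.includeRight : A →ₐ[R] A ⊗[R] A))
  let m : Y.left ⟶ Spec (CommRingCat.of (A ⊗[R] A)) :=
    (CartesianMonoidalCategory.lift x y).left ≫ (pullbackSpecIso R A A).hom
  have h₁ : m ≫ Spec.map j₁ = x.left := by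
    simp only [m, j₁, Category.assoc]
    erw [pullbackSpecIso_hom_fst]
    simp
    exact pullback.lift_fst _ _ _
  have h₂ : m ≫ Spec.map j₂ = y.left := by
    simp only [m, j₂, Category.assoc]
    erw [pullbackSpecIso_hom_snd]
    simp
    exact pullback.lift_snd _ _ _
  have h₃ : x.left ≫ Spec.map (CommRingCat.ofHom (algebraMap R A)) = Y.hom := Over.w x
  have h₀ : (x * y).left = m ≫ Spec.map (CommRingCat.ofHom (Bialgebra.comulAlgHom R A).toRingHom) := by
    rw [Hom.mul_def, Over.comp_left]
    erw [mul_spec_asOver_spec_left]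
    simp [m, A]
  rw [h₀, ← h₃, ← h₁, ← h₂, ringMap_comp_SpecMap, ringMap_comp_SpecMap, ringMap_comp_SpecMap, ringMap_comp_SpecMap,
    ringMap_comp_SpecMap, ← map_add, ← map_mul, ← map_mul, ← map_add]
  congr 1
  change Bialgebra.comulAlgHom R A SekSuwa.A.t = j₁ SekSuwa.A.t + j₂ SekSuwa.A.t +
    j₁ (algebraMap R A lam) * j₁ SekSuwa.A.t * j₂ SekSuwa.A.t
  rw [show Bialgebra.comulAlgHom R A SekSuwa.A.t = _ from SekSuwa.A.comul_t]
  simp [j₁, j₂, Algebra.smul_def, A]

theorem sgFn_mul {T : Over S} (x y : T ⟶ Red.bc f (SekSuwa.G R lam)) :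
    sgFn f (x * y) = sgFn f x + sgFn f y + str f T lam * sgFn f x * sgFn f y := by
  let adj := Over.mapPullbackAdj f
  obtain ⟨a, rfl⟩ := (adj.homEquiv T (SekSuwa.G R lam)).surjective x
  obtain ⟨b, rfl⟩ := (adj.homEquiv T (SekSuwa.G R lam)).surjective y
  have hm : adj.homEquiv T (SekSuwa.G R lam) (a * b) =
      adj.homEquiv T (SekSuwa.G R lam) a * adj.homEquiv T (SekSuwa.G R lam) b := by
    simp only [Adjunction.homEquiv_unit, Functor.map_mul, MonObj.comp_mul]
  have key : ∀ c : (Over.map f).obj T ⟶ SekSuwa.G R lam,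
      sgFn f (adj.homEquiv T (SekSuwa.G R lam) c) = ringMap (R := CommRingCat.of (SekSuwa.A R lam)) c.left SekSuwa.A.t := by
    intro c
    conv_rhs => rw [← (adj.homEquiv T (SekSuwa.G R lam)).symm_apply_apply c, Adjunction.homEquiv_counit]
    simp [adj, sgFn]
  rw [← hm, key, key, key]
  exact sg_mul a b

theorem sgFn_comp {T T' : Over S} (g : T' ⟶ T) (x : T ⟶ Red.bc f (SekSuwa.G R lam)) :
    sgFn f (g ≫ x) = g.left.appTop (sgFn f x) := by
  simp [sgFn, ringMap]

/-- The function of a point with values in a spectrum. -/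
def sgVal {C : Type u} [CommRing C] {b : Spec (CommRingCat.of C) ⟶ S}
    (g : Over.mk b ⟶ Red.bc f (SekSuwa.G R lam)) : C :=
  (Scheme.ΓSpecIso (CommRingCat.of C)).hom (sgFn f g)

/-- The structure map of a spectrum. -/
def strC {C : Type u} [CommRing C] (b : Spec (CommRingCat.of C) ⟶ S) (r : R) : C :=
  (Scheme.ΓSpecIso (CommRingCat.of C)).hom (str f (Over.mk b) r)

variable {C C' : Type u} [CommRing C] [CommRing C'] {b : Spec (CommRingCat.of C) ⟶ S}
  {b' : Spec (CommRingCat.of C') ⟶ S}

theorem strC_mor (ψ : C →+* C') (h : Spec.map (CommRingCat.ofHom ψ) ≫ b = b') (r : R) :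
    strC f b' r = ψ (strC f b r) := by
  rw [strC, strC, ← gammaSpec_map ψ]
  congr 1
  subst h
  simp [str, ringMap]

theorem strC_eq (b : Spec (CommRingCat.of C) ⟶ S) (r : R) :
    strC f b r = (Spec.preimage (b ≫ f)).hom r := by
  conv_lhs => rw [strC, str, show (Over.mk b).hom ≫ f = Spec.map (Spec.preimage (b ≫ f)) from (Spec.map_preimage _).symm]
  refine (gammaSpec_map (Spec.preimage (b ≫ f)).hom _).trans (congrArg _ ?_)
  exact ConcreteCategory.congr_hom (Iso.inv_hom_id (Scheme.ΓSpecIso (CommRingCat.of R))) r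

theorem sgVal_mor (ψ : C →+* C') (h : Spec.map (CommRingCat.ofHom ψ) ≫ b = b')
    (g : Over.mk b ⟶ Red.bc f (SekSuwa.G R lam)) : sgVal f (mor ψ h ≫ g) = ψ (sgVal f g) := by
  rw [sgVal, sgFn_comp]
  exact gammaSpec_map ψ _

theorem sgVal_mul (g g' : Over.mk b ⟶ Red.bc f (SekSuwa.G R lam)) :
    sgVal f (g * g') = sgVal f g + sgVal f g' + strC f b lam * sgVal f g * sgVal f g' := by
  simp only [sgVal, strC, sgFn_mul, map_add, map_mul]

theorem isUnit_sgVal (g : Over.mk b ⟶ Red.bc f (SekSuwa.G R lam)) :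
    IsUnit (1 + strC f b lam * sgVal f g) := by
  have h := (isUnit_sgFn f g).map (Scheme.ΓSpecIso (CommRingCat.of C)).hom.hom
  rw [map_add, map_one, map_mul] at h
  exact h

theorem sgVal_injective : Function.Injective (sgVal f (lam := lam) (b := b)) :=
  (ConcreteCategory.bijective_of_isIso (Scheme.ΓSpecIso (CommRingCat.of C)).hom).1.comp (sgFn_injective f)

theorem exists_sgVal (c : C) (hc : IsUnit (1 + strC f b lam * c)) :
    ∃ g : Over.mk b ⟶ Red.bc f (SekSuwa.G R lam), sgVal f g = c := by
  have hd := hc.map (Scheme.ΓSpecIso (CommRingCat.of C)).inv.hom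
  rw [map_add, map_one, map_mul] at hd
  obtain ⟨g, hg⟩ := sgFn_surjective f (T := Over.mk b) ((Scheme.ΓSpecIso (CommRingCat.of C)).inv c) (by
    simpa [strC] using hd)
  refine ⟨g, ?_⟩
  rw [sgVal, hg]
  simp

theorem isAffineHom_bc (lam : R) : IsAffineHom (Red.bc f (SekSuwa.G R lam)).hom := by
  haveI : IsAffine (SekSuwa.G R lam).left := isAffine_Spec _
  haveI : IsAffineHom (SekSuwa.G R lam).hom := isAffineHom_of_isAffine _
  exact MorphismProperty.pullback_snd _ _ inferInstance

theorem flat_bc (lam : R) : Flat (Red.bc f (SekSuwa.G R lam)).hom := by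
  haveI : Flat (SekSuwa.G R lam).hom := by
    refine (HasRingHomProperty.Spec_iff (P := @Flat)).mpr ?_
    exact (RingHom.flat_algebraMap_iff).mpr (flat_A lam)
  exact MorphismProperty.pullback_snd _ _ inferInstance

end Groth.Agent.SWTorsorLib
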