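import Groth.Prelude.Def_SekSuwa2
import Groth.Agent.SWTorsorLib.Lattice
import Groth.Agent.SWTorsorLib.Points
import Groth.Agent.S14694
import Groth.Agent.S14683

/-! The points of `G_{λ,1}` over a ring with a primitive `p`-th root of unity. -/

set_option autoImplicit false
set_option linter.all false
set_option backward.isDefEq.respectTransparency false
set_option backward.isDefEq.respectTransparency.types false

universe u
open CategoryTheory Limits MonoidalCategory CartesianMonoidalCategory MonObj GrpObj AlgebraicGeometry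
open Groth.Agent.GaPoints (ringMap exists_ringMap ringMap_comp_SpecMap ringMap_injective)

noncomputable section

namespace Groth.Agent.SWTorsorLib

variable {R : Type u} [CommRing R] {p : ℕ}

theorem zeta_add [NeZero p] {ζ : R} (hζ : ζ ^ p = 1) (a b : ZMod p) : ζ ^ (a + b).val = ζ ^ a.val * ζ ^ b.val := by
  rw [← pow_add, ZMod.val_add, ← pow_eq_pow_mod _ hζ]

section
variable [IsDomain R] [IsLocalRing R] [hp : Fact p.Prime] [CharP (IsLocalRing.ResidueField R) p] {ζ : R}

theorem zeta_sub_one_mem (hζ : IsPrimitiveRoot ζ p) : ζ - 1 ∈ IsLocalRing.maximalIdeal R := by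
  refine (IsLocalRing.residue_eq_zero_iff _).1 ((pow_eq_zero_iff hp.out.ne_zero).1 ?_)
  rw [map_sub, map_one, sub_pow_char, ← map_pow, hζ.pow_eq_one, map_one, one_pow, sub_self]

theorem associated_one_sub_pow (hζ : IsPrimitiveRoot ζ p) {k : ℕ} (h0 : 0 < k) (hk : k < p) :
    Associated (1 - ζ ^ k) (ζ - 1) := by
  have e : 1 - ζ ^ k = (ζ - 1) * -(∑ i ∈ Finset.range k, ζ ^ i) := by rw [mul_neg, mul_geom_sum]; ring
  have hu : IsUnit (∑ i ∈ Finset.range k, ζ ^ i) := by
    refine IsLocalRing.notMem_maximalIdeal.1 fun h => ?_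
    have hz : IsLocalRing.residue R ζ = 1 := by
      have := (IsLocalRing.residue_eq_zero_iff _).2 (zeta_sub_one_mem hζ)
      rwa [map_sub, map_one, sub_eq_zero] at this
    have h1 := (IsLocalRing.residue_eq_zero_iff _).2 h
    simp only [map_sum, map_pow, hz, one_pow, Finset.sum_const, Finset.card_range, nsmul_eq_mul, _root_.mul_one] at h1
    exact absurd (Nat.le_of_dvd h0 ((CharP.cast_eq_zero_iff _ p k).1 h1)) (not_le.2 hk)
  rw [e]
  exact associated_mul_unit_left _ _ hu.neg

theorem associated_natCast (hζ : IsPrimitiveRoot ζ p) : Associated ((ζ - 1) ^ (p - 1)) (p : R) := by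
  have h : IsPrimitiveRoot ζ (p - 1 + 1) := by rwa [Nat.sub_add_cancel hp.out.one_le]
  have e := h.prod_one_sub_pow_eq_order
  rw [← Nat.cast_add_one, Nat.sub_add_cancel hp.out.one_le] at e
  rw [← e, ← Finset.card_range (p - 1), ← Finset.prod_const, Finset.card_range]
  exact (Associated.prod _ _ _ fun k hk =>
    (associated_one_sub_pow hζ (Nat.succ_pos k) (by have := Finset.mem_range.1 hk; omega)).symm)

theorem divCond_of_mul_eq (hζ : IsPrimitiveRoot ζ p) {lam m : R} (hlm : lam * m = ζ - 1) (hlam : lam ≠ 0) :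
    SekSuwa.DivCond lam p := by
  have hd : lam ^ (p - 1) ∣ (p : R) :=
    (pow_dvd_pow_of_dvd ⟨m, hlm.symm⟩ _).trans (associated_natCast hζ).dvd
  refine ⟨mem_nonZeroDivisors_of_ne_zero hlam, ?_⟩
  have hdvd : Polynomial.C (lam ^ p) ∣ ((1 + Polynomial.C lam * Polynomial.X) ^ p - 1 : Polynomial R) := by
    rw [Polynomial.C_dvd_iff_dvd_coeff]
    intro i
    have ec : ((1 + Polynomial.C lam * Polynomial.X) ^ p : Polynomial R).coeff i = lam ^ i * (p.choose i : R) := by
      have : (1 + Polynomial.C lam * Polynomial.X : Polynomial R) ^ p =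
          ((1 + Polynomial.X) ^ p).comp (Polynomial.C lam * Polynomial.X) := by simp
      rw [this, Polynomial.comp_C_mul_X_coeff, Polynomial.coeff_one_add_X_pow, mul_comm]
    rw [Polynomial.coeff_sub, Polynomial.coeff_one, ec]
    rcases Nat.eq_zero_or_pos i with rfl | hi
    · simp
    rw [if_neg hi.ne', sub_zero]
    by_cases hip : p ≤ i
    · exact (pow_dvd_pow lam hip).mul_right _
    obtain ⟨b, hb⟩ := hp.out.dvd_choose_self (k := i) hi.ne' (not_le.1 hip)
    obtain ⟨d, hd⟩ := hd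
    rw [hb, Nat.cast_mul, hd]
    refine ⟨lam ^ (i - 1) * d * b, ?_⟩
    rw [show lam ^ i * (lam ^ (p - 1) * d * (b : R)) = lam ^ (i + (p - 1)) * d * b by rw [pow_add]; ring,
      show lam ^ p * (lam ^ (i - 1) * d * (b : R)) = lam ^ (p + (i - 1)) * d * b by rw [pow_add]; ring,
      show i + (p - 1) = p + (i - 1) by have := hp.out.one_le; omega]
  obtain ⟨P, hP⟩ := hdvd
  exact ⟨P, hP.symm⟩

theorem exists_tFun (hζ : IsPrimitiveRoot ζ p) {lam m : R} (hlm : lam * m = ζ - 1) :
    ∃ t : ZMod p → R, (∀ n, lam * t n = ζ ^ n.val - 1) ∧ t 1 = m := by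
  refine ⟨fun n => m * ∑ j ∈ Finset.range n.val, ζ ^ j, fun n => ?_, ?_⟩
  · rw [← _root_.mul_assoc, hlm, mul_geom_sum]
  · haveI : Fact (1 < p) := ⟨hp.out.one_lt⟩
    simp [ZMod.val_one]

end

section Points
variable [IsDomain R] [hp : Fact p.Prime] {ζ : R} {lam : R} (h : SekSuwa.DivCond lam p)

theorem lam_ne_zero {lam : R} (h : SekSuwa.DivCond lam p) : lam ≠ 0 := nonZeroDivisors.ne_zero h.1

theorem exists_chi (hζ : IsPrimitiveRoot ζ p) (t : ZMod p → R) (ht : ∀ n, lam * t n = ζ ^ n.val - 1) :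
    ∃ χ : ZMod p → (SekSuwa.AK R lam p h →ₐ[R] R), ∀ n, χ n SekSuwa.AK.t = t n := by
  have hu : ∀ n, (1 + lam * t n) ^ p = 1 := fun n => by
    rw [ht, add_sub_cancel, ← pow_mul, mul_comm, pow_mul, hζ.pow_eq_one, one_pow]
  have hroot : ∀ n, Polynomial.aeval (t n) (SekSuwa.psiPoly lam p h) = 0 := fun n => by
    have := SekSuwa.aeval_psiPoly h (t n)
    rw [Algebra.algebraMap_self_apply, Algebra.algebraMap_self_apply, hu, sub_self] at this
    exact (mul_eq_zero.1 this).resolve_left (pow_ne_zero p (lam_ne_zero h))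
  have hc : ∀ n, (1 + lam • t n) * (1 + lam * t n) ^ (p - 1) = 1 := fun n => by
    rw [smul_eq_mul, ← pow_succ', Nat.sub_add_cancel hp.out.one_le, hu]
  refine ⟨fun n => Ideal.Quotient.liftₐ (SekSuwa.kerIdeal lam p h) (SekSuwa.A.lift R lam (t n) _ (hc n)) (by
      intro a ha
      obtain ⟨d, rfl⟩ := Ideal.mem_span_singleton'.mp ha
      rw [map_mul, SekSuwa.kerGen, ← Polynomial.aeval_algHom_apply, SekSuwa.A.lift_t, hroot, mul_zero]),
    fun n => SekSuwa.A.lift_t _ _ (hc n)⟩

theorem psi_monic : (SekSuwa.psiPoly lam p h).Monic :=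
  Polynomial.monic_of_natDegree_le_of_coeff_eq_one p
    (Polynomial.natDegree_le_iff_coeff_eq_zero.2 (S14694.monic_psi hp.out.pos h).2) (S14694.monic_psi hp.out.pos h).1

variable (χ : ZMod p → (SekSuwa.AK R lam p h →ₐ[R] R))

theorem injective_eval (hinj : Function.Injective fun n => χ n SekSuwa.AK.t) :
    Function.Injective (AlgHom.pi χ) := by
  rw [injective_iff_map_eq_zero]
  intro z hz
  obtain ⟨c, rfl⟩ := S14683.exists_eq_sum (h := h) (lam_ne_zero h) hp.out.pos z
  have hc : c = 0 := by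
    have hinj' : Function.Injective (fun i : Fin p => χ ((i : ℕ) : ZMod p) SekSuwa.AK.t) := fun a b hab => by
      have := congrArg ZMod.val (hinj hab)
      rwa [ZMod.val_natCast_of_lt a.2, ZMod.val_natCast_of_lt b.2, ← Fin.ext_iff] at this
    refine Matrix.eq_zero_of_forall_index_sum_mul_pow_eq_zero hinj' fun i => ?_
    have := congrFun hz ((i : ℕ) : ZMod p)
    simpa [map_sum, map_smul, smul_eq_mul] using this
  simp [hc]

theorem isLattice_range (t : ZMod p → R) (hχ : ∀ n, χ n SekSuwa.AK.t = t n) (ht : ∀ n, lam * t n = ζ ^ n.val - 1)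
    (hζ : IsPrimitiveRoot ζ p) {m : R} (hlm : lam * m = ζ - 1) (ht1 : t 1 = m) :
    IsLattice m (AlgHom.pi χ).range := by
  haveI : Fact (1 < p) := ⟨hp.out.one_lt⟩
  have hT : AlgHom.pi χ SekSuwa.AK.t = t := funext hχ
  have hd : ∀ n, t (n + 1) - t n = m * (1 + lam * t n) := fun n => by
    refine mul_left_cancel₀ (lam_ne_zero h) ?_
    rw [mul_sub, ht, ht, ← _root_.mul_assoc, hlm, zeta_add hζ.pow_eq_one, ZMod.val_one]
    ring
  have htmem : t ∈ (AlgHom.pi χ).range := ⟨_, hT⟩
  refine ⟨fun g hg => ?_, t, htmem, ?_, ht1⟩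
  · obtain ⟨z, rfl⟩ := hg
    obtain ⟨q, rfl⟩ := S14683.exists_eq_aeval hp.out.pos (psi_monic h) z
    induction q using Polynomial.induction_on' with
    | add a b ha hb =>
      obtain ⟨x, hx, ex⟩ := ha
      obtain ⟨y, hy, ey⟩ := hb
      refine ⟨x + y, add_mem hx hy, fun n => ?_⟩
      have e1 := ex n
      have e2 := ey n
      simp only [map_add, AlgHom.toRingHom_eq_coe, RingHom.coe_coe, Pi.add_apply] at e1 e2 ⊢
      linear_combination e1 + e2
    | monomial k a =>
      rw [Polynomial.aeval_monomial]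
      change ∃ x ∈ (AlgHom.pi χ).range, ∀ n, AlgHom.pi χ _ (n + 1) - AlgHom.pi χ _ n = m * x n
      rw [map_mul, AlgHom.commutes, map_pow, hT]
      induction k with
      | zero => exact ⟨0, zero_mem _, fun n => by simp⟩
      | succ k ih =>
        obtain ⟨x, hx, ex⟩ := ih
        refine ⟨x * t + (algebraMap R (ZMod p → R) a * t ^ k + m • x) * (1 + lam • t),
          add_mem (mul_mem hx htmem) (mul_mem (add_mem (mul_mem (Subalgebra.algebraMap_mem _ _) (pow_mem htmem k))
            (Subalgebra.smul_mem _ hx m)) (add_mem (one_mem _) (Subalgebra.smul_mem _ htmem lam))), fun n => ?_⟩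
        have e := ex n
        simp only [Pi.mul_apply, Pi.pow_apply, Pi.add_apply, Pi.smul_apply, Pi.one_apply, smul_eq_mul,
          Pi.algebraMap_apply, Algebra.algebraMap_self_apply, pow_succ] at e ⊢
        linear_combination (t n + m * (1 + lam * t n)) * e + a * t (n + 1) ^ k * hd n
  · exact mul_left_cancel₀ (lam_ne_zero h) (by rw [ht]; simp)

theorem rm_spec {A B : Type u} [CommRing A] [CommRing B] (φ : A →+* B) (a : A) :
    ringMap (R := CommRingCat.of A) (Spec.map (CommRingCat.ofHom φ)) a =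
      ringMap (R := CommRingCat.of B) (𝟙 (Spec (CommRingCat.of B))) (φ a) := by
  rw [← Category.id_comp (Spec.map (CommRingCat.ofHom φ)), ringMap_comp_SpecMap]
  rfl

theorem pt_mul (t : ZMod p → R) (hχ : ∀ n, χ n SekSuwa.AK.t = t n) (ht : ∀ n, lam * t n = ζ ^ n.val - 1)
    (hζ : IsPrimitiveRoot ζ p) (a b : ZMod p) :
    S14683.pt (χ a) * S14683.pt (χ b) = S14683.pt (χ (a + b)) := by
  obtain ⟨ψ, hψ⟩ := S14683.pt_surjective (S14683.pt (χ a) * S14683.pt (χ b))
  rw [← hψ]
  congr 1
  let i := SekSuwa.incl R lam p h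
  have hi : ∀ f : SekSuwa.AK R lam p h →ₐ[R] R,
      ringMap (R := CommRingCat.of (SekSuwa.A R lam)) (S14683.pt f ≫ i).left SekSuwa.A.t =
        ringMap (R := CommRingCat.of R) (𝟙 (Spec (CommRingCat.of R))) (f SekSuwa.AK.t) := fun f => by
    show ringMap (R := CommRingCat.of (SekSuwa.A R lam)) (Spec.map (CommRingCat.ofHom f.toRingHom) ≫
      Spec.map (CommRingCat.ofHom (SekSuwa.AK.mkHom R lam p h : SekSuwa.A R lam →+* SekSuwa.AK R lam p h))) SekSuwa.A.t = _
    rw [ringMap_comp_SpecMap]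
    exact rm_spec f.toRingHom _
  have e := congrArg (fun x => ringMap (R := CommRingCat.of (SekSuwa.A R lam)) (x ≫ i).left SekSuwa.A.t) hψ
  simp only [MonObj.mul_comp] at e
  rw [hi, sg_mul, hi, hi] at e
  erw [rm_spec (algebraMap R R) lam, ← map_add, ← map_mul, ← map_mul, ← map_add] at e
  have e' : ψ SekSuwa.AK.t = t a + t b + lam * t a * t b := by
    rw [← hχ a, ← hχ b]
    exact (ConcreteCategory.bijective_of_isIso ((Scheme.ΓSpecIso (CommRingCat.of R)).inv ≫
      Scheme.Hom.appTop (𝟙 (Spec (CommRingCat.of R))))).1 e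
  refine AlgHom.ext fun z => ?_
  obtain ⟨q, rfl⟩ := S14683.exists_eq_aeval hp.out.pos (psi_monic h) z
  rw [← Polynomial.aeval_algHom_apply, ← Polynomial.aeval_algHom_apply, e', hχ]
  congr 2
  refine mul_left_cancel₀ (lam_ne_zero h) ?_
  rw [ht (a + b), zeta_add hζ.pow_eq_one]
  linear_combination (1 + lam * t b) * ht a + ζ ^ a.val * ht b

end Points

end Groth.Agent.SWTorsorLib
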