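import Groth.Agent.SWTorsorLib.TwoStepMaps

/-! Exactness of the two-step sequence. -/

set_option autoImplicit false
set_option linter.all false
set_option backward.isDefEq.respectTransparency false
set_option backward.isDefEq.respectTransparency.types false

universe u v
open CategoryTheory Limits MonoidalCategory CartesianMonoidalCategory MonObj GrpObj AlgebraicGeometry
open scoped TensorProduct

noncomputable section

namespace Groth.Agent.SWTorsorLib

variable {R : Type u} [CommRing R] [IsDomain R] [IsDiscreteValuationRing R] {p : ℕ} [hp : Fact p.Prime]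
  [CharP (IsLocalRing.ResidueField R) p]

theorem evPair_left {R A C : Type u} [CommRing R] [CommRing A] [Algebra R A] [CommRing C] [Algebra R C]
    (a : A →ₐ[R] R) (b : C →ₐ[R] R) (x : A) : evPair a b (x ⊗ₜ 1) = a x := by simp

theorem isPushout_of_powers {B A E : Type u} [CommRing B] [CommRing A] [CommRing E] (θ : B →+* A) (l r : A →+* E)
    (T : A) {n : ℕ} (hc : ∀ z, r (θ z) = l (θ z)) (hspan : ∀ a, ∃ z : Fin n → B, a = ∑ i, θ (z i) * T ^ (i : ℕ))
    (hsurj : ∀ e, ∃ c : Fin n → A, e = ∑ i, l (c i) * r T ^ (i : ℕ))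
    (hinj : ∀ c : Fin n → A, ∑ i, l (c i) * r T ^ (i : ℕ) = 0 → c = 0) :
    IsPushout (CommRingCat.ofHom θ) (CommRingCat.ofHom θ) (CommRingCat.ofHom l) (CommRingCat.ofHom r) := by
  letI : Algebra B A := θ.toAlgebra
  letI : Algebra B E := (l.comp θ).toAlgebra
  let fL : A →ₐ[B] E := { l with commutes' := fun z => rfl }
  let fR : A →ₐ[B] E := { r with commutes' := fun z => hc z }
  let Φ : A ⊗[B] A →ₐ[B] E := Algebra.TensorProduct.productMap fL fR
  have hΦ : ∀ (c : Fin n → A), Φ (∑ i, c i ⊗ₜ[B] (T ^ (i : ℕ))) = ∑ i, l (c i) * r T ^ (i : ℕ) := fun c => by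
    rw [map_sum]
    refine Finset.sum_congr rfl fun i _ => ?_
    rw [Algebra.TensorProduct.productMap_apply_tmul, map_pow]
    rfl
  have hgen : ∀ w : A ⊗[B] A, ∃ c : Fin n → A, w = ∑ i, c i ⊗ₜ[B] (T ^ (i : ℕ)) := fun w => by
    induction w using TensorProduct.induction_on with
    | zero => exact ⟨0, by simp⟩
    | add a b ha hb =>
      obtain ⟨c, hr⟩ := ha
      obtain ⟨c', hr'⟩ := hb
      exact ⟨c + c', by simp only [hr, hr', Pi.add_apply, TensorProduct.add_tmul, Finset.sum_add_distrib]⟩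
    | tmul a d =>
      obtain ⟨z, rfl⟩ := hspan d
      refine ⟨fun i => θ (z i) * a, ?_⟩
      rw [TensorProduct.tmul_sum]
      exact Finset.sum_congr rfl fun i _ => (TensorProduct.smul_tmul (z i) a (T ^ (i : ℕ))).symm
  have hbij : Function.Bijective Φ := by
    refine ⟨(injective_iff_map_eq_zero _).2 fun w hw => ?_, fun e => ?_⟩
    · obtain ⟨c, rfl⟩ := hgen w
      rw [hinj c ((hΦ c).symm.trans hw)]
      simp
    · obtain ⟨c, rfl⟩ := hsurj e
      exact ⟨_, hΦ c⟩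
  refine (CommRingCat.isPushout_tensorProduct B A A).of_iso (Iso.refl _) (Iso.refl _) (Iso.refl _)
    (RingEquiv.ofBijective Φ hbij).toCommRingCatIso ?_ ?_ ?_ ?_
  · simp; rfl
  · simp; rfl
  · ext a
    show Φ (a ⊗ₜ 1) = l a
    rw [Algebra.TensorProduct.productMap_apply_tmul, map_one, _root_.mul_one]
    rfl
  · ext a
    show Φ (1 ⊗ₜ a) = r a
    rw [Algebra.TensorProduct.productMap_apply_tmul, map_one, _root_.one_mul]
    rfl

namespace PtData

variable {G : Over (Spec (CommRingCat.of R))} [GrpObj G] [Algebra R Γ(G.left, ⊤)] {M : Type v} [AddCommGroup M]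
  (D : PtData G M) [IsAffine G.left] [Finite M] {f : ZMod p →+ M} {ν : M →+ ZMod p}
  {N₁ : Model (D.res f).range} {θ₁ : Γ(G.left, ⊤) →ₐ[R] SekSuwa.AK R N₁.lam p N₁.h}
  {N₂ : Model (D.ev.range.comap (comapFun ν))} {θ₂ : SekSuwa.AK R N₂.lam p N₂.h →ₐ[R] Γ(G.left, ⊤)}

/-- The translation map on functions. -/
theorem exists_rho (h₁ : ∀ n a, N₁.χ n (θ₁ a) = D.ev a (f n)) :
    ∃ ρ : Γ(G.left, ⊤) →ₐ[R] Γ(G.left, ⊤) ⊗[R] SekSuwa.AK R N₁.lam p N₁.h,
      lift (S14683.pt (Algebra.TensorProduct.includeLeft : Γ(G.left, ⊤) →ₐ[R] _) ≫ D.iG)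
          (S14683.pt (Algebra.TensorProduct.includeRight : SekSuwa.AK R N₁.lam p N₁.h →ₐ[R] _)) ≫
          (G ◁ (S14683.pt θ₁ ≫ D.iG)) ≫ μ[G] = S14683.pt ρ ≫ D.iG ∧
      ∀ x n a, evPair (D.at' x) (N₁.χ n) (ρ a) = D.ev a (x + f n) := by
  let l := S14683.pt (Algebra.TensorProduct.includeLeft : Γ(G.left, ⊤) →ₐ[R] Γ(G.left, ⊤) ⊗[R] SekSuwa.AK R N₁.lam p N₁.h)
  let r := S14683.pt (Algebra.TensorProduct.includeRight : SekSuwa.AK R N₁.lam p N₁.h →ₐ[R] Γ(G.left, ⊤) ⊗[R] SekSuwa.AK R N₁.lam p N₁.h)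
  obtain ⟨ρ, hρ⟩ := S14683.pt_surjective ((lift (l ≫ D.iG) r ≫ (G ◁ (S14683.pt θ₁ ≫ D.iG)) ≫ μ[G]) ≫ inv D.iG)
  refine ⟨ρ, by rw [hρ, Category.assoc, IsIso.inv_hom_id, Category.comp_id], fun x n a => ?_⟩
  have e1 : lift (l ≫ D.iG) r ≫ (G ◁ (S14683.pt θ₁ ≫ D.iG)) ≫ μ[G] = (l ≫ D.iG) * (r ≫ S14683.pt θ₁ ≫ D.iG) := by
    rw [lift_whiskerLeft_assoc, Hom.mul_def]
  rw [e1] at hρ
  have el : S14683.pt (evPair (D.at' x) (N₁.χ n)) ≫ l = S14683.pt (D.at' x) := by
    rw [S14683.pt_comp, Algebra.TensorProduct.lift_comp_includeLeft]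
  have er : S14683.pt (evPair (D.at' x) (N₁.χ n)) ≫ r = S14683.pt (N₁.χ n) := by
    rw [S14683.pt_comp]; congr 1; ext z; simp
  have e2 : S14683.pt ((evPair (D.at' x) (N₁.χ n)).comp ρ) = S14683.pt (D.at' (x + f n)) := by
    rw [← cancel_mono D.iG, ← S14683.pt_comp, hρ, D.pt_iG]
    simp only [Category.assoc, IsIso.inv_hom_id, Category.comp_id]
    rw [MonObj.comp_mul, reassoc_of% el, reassoc_of% er, D.pt_iG, D.pt_u h₁, D.mul]
  exact AlgHom.congr_fun (S14683.pt_injective e2) a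

variable {m : R} {T : Γ(G.left, ⊤)}

theorem isStep_pair (hS : IsStep p (fun x => x + f 1) m D.ev.range (D.ev T)) (hL : IsLattice m (D.res f).range)
    (ρ : Γ(G.left, ⊤) →ₐ[R] Γ(G.left, ⊤) ⊗[R] SekSuwa.AK R N₁.lam p N₁.h)
    (hρ : ∀ x n a, evPair (D.at' x) (N₁.χ n) (ρ a) = D.ev a (x + f n)) :
    IsStep p (fun y : M × ZMod p => (y.1, y.2 + 1)) m
      (AlgHom.pi fun y : M × ZMod p => evPair (D.at' y.1) (N₁.χ y.2)).range (fun y => D.ev T (y.1 + f y.2)) := by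
  have hit : ∀ k (y : M × ZMod p), (fun y : M × ZMod p => (y.1, y.2 + 1))^[k] y = (y.1, y.2 + k) := fun k y => by
    induction k with
    | zero => simp
    | succ k ih => rw [Function.iterate_succ_apply', ih, Nat.cast_succ, add_assoc]
  have hit' : ∀ k x, (fun x => x + f 1)^[k] x = x + f (k : ZMod p) := fun k x => by
    induction k with
    | zero => simp
    | succ k ih => rw [Function.iterate_succ_apply', ih, Nat.cast_succ, map_add, add_assoc]
  refine ⟨funext fun y => by rw [hit, ZMod.natCast_self, add_zero]; rfl, ?_, ⟨ρ T, funext fun y => hρ y.1 y.2 T⟩,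
    fun k hk0 hk => ?_⟩
  · rintro _ ⟨w, rfl⟩
    induction w using TensorProduct.induction_on with
    | zero => exact ⟨0, zero_mem _, fun y => by simp⟩
    | add a b ha hb =>
      obtain ⟨a', ha', ea⟩ := ha
      obtain ⟨b', hb', eb⟩ := hb
      refine ⟨a' + b', add_mem ha' hb', fun y => ?_⟩
      have e1 := ea y
      have e2 := eb y
      simp only [AlgHom.toRingHom_eq_coe, RingHom.coe_coe, map_add, Pi.add_apply] at e1 e2 ⊢
      linear_combination e1 + e2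
    | tmul a c =>
      obtain ⟨g, hg, eg⟩ := hL.diff (AlgHom.pi N₁.χ c) ((SetLike.ext_iff.1 N₁.range _).1 ⟨c, rfl⟩)
      obtain ⟨c', rfl⟩ := (SetLike.ext_iff.1 N₁.range _).2 hg
      refine ⟨_, ⟨a ⊗ₜ c', rfl⟩, fun y => ?_⟩
      have e := eg y.2
      simp only [AlgHom.toRingHom_eq_coe, RingHom.coe_coe] at e ⊢
      show evPair (D.at' y.1) (N₁.χ (y.2 + 1)) (a ⊗ₜ c) - evPair (D.at' y.1) (N₁.χ y.2) (a ⊗ₜ c) =
        m * evPair (D.at' y.1) (N₁.χ y.2) (a ⊗ₜ c')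
      rw [Algebra.TensorProduct.lift_tmul, Algebra.TensorProduct.lift_tmul, Algebra.TensorProduct.lift_tmul]
      change N₁.χ (y.2 + 1) c - N₁.χ y.2 c = m * N₁.χ y.2 c' at e
      linear_combination D.at' y.1 a * e
  · obtain ⟨_, ⟨w, rfl⟩, _, ⟨w', rfl⟩, hww, ew⟩ := hS.sep k hk0 hk
    refine ⟨_, ⟨ρ w, rfl⟩, _, ⟨ρ w', rfl⟩, funext fun y => ?_, fun y => ?_⟩
    · show evPair (D.at' y.1) (N₁.χ y.2) (ρ w) * evPair (D.at' y.1) (N₁.χ y.2) (ρ w') = 1
      rw [hρ, hρ]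
      exact congrFun hww _
    · show _ = m * evPair (D.at' y.1) (N₁.χ y.2) (ρ w)
      rw [hρ, hit, map_add, ← add_assoc, ← hit']
      exact ew _

theorem invariant_factor (hν : ∀ x, ν x = 0 ↔ x ∈ Set.range f) {g₀ : M} (hg : ν g₀ = 1) (a : Γ(G.left, ⊤))
    (ha : ∀ x, D.ev a (x + f 1) = D.ev a x) (h₂ : ∀ x z, D.ev (θ₂ z) x = N₂.χ (ν x) z) : ∃ z, θ₂ z = a := by
  have hk : ∀ (k : ℕ) x, D.ev a (x + f k) = D.ev a x := fun k x => by
    induction k with
    | zero => simp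
    | succ k ih => rw [Nat.cast_succ, map_add, ← add_assoc, ha, ih]
  have hmem : (fun n : ZMod p => D.ev a (n.val • g₀)) ∈ D.ev.range.comap (comapFun ν) := by
    refine ⟨a, funext fun x => ?_⟩
    obtain ⟨k, hk'⟩ := (hν (x - (ν x).val • g₀)).1 (by rw [map_sub, map_nsmul, hg]; simp)
    show D.ev a x = D.ev a ((ν x).val • g₀)
    rw [← hk k.val ((ν x).val • g₀), ZMod.natCast_zmod_val, hk', add_sub_cancel]
  obtain ⟨z, hz⟩ := (SetLike.ext_iff.1 N₂.range _).2 hmem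
  refine ⟨z, D.sep (funext fun x => ?_)⟩
  obtain ⟨k, hk'⟩ := (hν (x - (ν x).val • g₀)).1 (by rw [map_sub, map_nsmul, hg]; simp)
  rw [h₂]
  refine (congrFun hz (ν x)).trans ?_
  show D.ev a ((ν x).val • g₀) = _
  rw [← hk k.val ((ν x).val • g₀), ZMod.natCast_zmod_val, hk', add_sub_cancel]

/-- The powers of the node form a basis over the quotient. -/
theorem exists_basis (hS : IsStep p (fun x => x + f 1) m D.ev.range (D.ev T)) (hm : m ≠ 0)
    (hν : ∀ x, ν x = 0 ↔ x ∈ Set.range f) {g₀ : M} (hg : ν g₀ = 1) (h₂ : ∀ x z, D.ev (θ₂ z) x = N₂.χ (ν x) z) :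
    (∀ a, ∃ z : Fin p → SekSuwa.AK R N₂.lam p N₂.h, a = ∑ i, θ₂ (z i) * T ^ (i : ℕ)) ∧
      ∀ z : Fin p → SekSuwa.AK R N₂.lam p N₂.h, ∑ i, θ₂ (z i) * T ^ (i : ℕ) = 0 → z = 0 := by
  refine ⟨fun a => ?_, fun z hz => ?_⟩
  · obtain ⟨b, hb, hbi, hab⟩ := hS.decompose hm hp.out.pos (a := D.ev a) ⟨a, rfl⟩
    choose β hβ using hb
    choose z hz using fun i => D.invariant_factor hν hg (β i) (fun x => by
      show (D.ev.toRingHom (β i)) (x + f 1) = D.ev.toRingHom (β i) x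
      rw [hβ]; exact hbi i x) h₂
    refine ⟨fun i => z i, D.sep ?_⟩
    rw [hab, map_sum, ← Fin.sum_univ_eq_sum_range (fun i => b i * D.ev T ^ i)]
    refine Finset.sum_congr rfl fun i _ => ?_
    rw [map_mul, map_pow, hz, ← hβ]
    rfl
  · have key := fun (k : ℕ) (hk : k < p) => hS.eq_zero_of_sum (i := k) hm (fun i => if hi : i < p then D.ev (θ₂ (z ⟨i, hi⟩)) else 0) (fun i x => by
      split_ifs
      · rw [h₂, h₂, map_add, (hν (f 1)).2 ⟨1, rfl⟩, add_zero]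
      · rfl) (by
      rw [← Fin.sum_univ_eq_sum_range (fun i => (if hi : i < p then D.ev (θ₂ (z ⟨i, hi⟩)) else 0) * D.ev T ^ i)]
      simp only [Fin.is_lt, dite_true, Fin.eta, ← map_pow, ← map_mul, ← map_sum, hz, map_zero]) hk
    refine funext fun i => N₂.inj (funext fun n => ?_)
    have e := key i.1 i.2 (n.val • g₀)
    rw [dif_pos i.2, Fin.eta, h₂, map_nsmul, hg] at e
    simpa using e

variable [Module.Free R Γ(G.left, ⊤)]

theorem isPushout_rings (hS : IsStep p (fun x => x + f 1) m D.ev.range (D.ev T)) (hm : m ≠ 0)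
    (hL : IsLattice m (D.res f).range)
    (hν : ∀ x, ν x = 0 ↔ x ∈ Set.range f) {g₀ : M} (hg : ν g₀ = 1) (h₂ : ∀ x z, D.ev (θ₂ z) x = N₂.χ (ν x) z)
    (ρ : Γ(G.left, ⊤) →ₐ[R] Γ(G.left, ⊤) ⊗[R] SekSuwa.AK R N₁.lam p N₁.h)
    (hρ : ∀ x n a, evPair (D.at' x) (N₁.χ n) (ρ a) = D.ev a (x + f n)) :
    IsPushout (CommRingCat.ofHom θ₂.toRingHom) (CommRingCat.ofHom θ₂.toRingHom)
      (CommRingCat.ofHom (Algebra.TensorProduct.includeLeft : Γ(G.left, ⊤) →ₐ[R] Γ(G.left, ⊤) ⊗[R] SekSuwa.AK R N₁.lam p N₁.h).toRingHom)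
      (CommRingCat.ofHom ρ.toRingHom) := by
  have hEV : ∀ w, (∀ x y, evPair (D.at' x) (N₁.χ y) w = 0) → w = 0 :=
    fun w hw => tensor_sep (A := Γ(G.left, ⊤)) (B := SekSuwa.AK R N₁.lam p N₁.h) D.at' D.at'_injective N₁.χ N₁.inj hw
  have hstep := D.isStep_pair hS hL ρ hρ
  have hν' : ∀ k, ν (f k) = 0 := fun k => (hν _).2 ⟨k, rfl⟩
  refine isPushout_of_powers θ₂.toRingHom _ ρ.toRingHom T (fun z => sub_eq_zero.1 (hEV _ fun x y => ?_))
    (D.exists_basis hS hm hν hg h₂).1 (fun e => ?_) (fun c hc => ?_)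
  · rw [map_sub, sub_eq_zero]
    refine (hρ x y (θ₂ z)).trans (Eq.trans ?_ (evPair_left (D.at' x) (N₁.χ y) (θ₂ z)).symm)
    show _ = D.ev (θ₂ z) x
    rw [h₂, h₂, map_add, hν', add_zero]
  · obtain ⟨b, hb, hbi, hzb⟩ := hstep.decompose hm hp.out.pos
      (a := fun y : M × ZMod p => evPair (D.at' y.1) (N₁.χ y.2) e) ⟨e, rfl⟩
    choose w hwb using hb
    have hr : ∀ i, ∃ r, ∀ x, D.ev r x = evPair (D.at' x) (N₁.χ 0) (w i) := fun i => by
      obtain ⟨n, φ, ψ, hw'⟩ : ∃ (n : ℕ) (φ : Fin n → Γ(G.left, ⊤)) (ψ : Fin n → SekSuwa.AK R N₁.lam p N₁.h),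
          w i = ∑ j, φ j ⊗ₜ[R] ψ j := by
        induction w i using TensorProduct.induction_on with
        | zero => exact ⟨0, ![], ![], by simp⟩
        | tmul a c => exact ⟨1, fun _ => a, fun _ => c, by simp⟩
        | add x y hx hy =>
          obtain ⟨k, φ, ψ, rfl⟩ := hx
          obtain ⟨k', φ', ψ', rfl⟩ := hy
          exact ⟨k + k', Fin.append φ φ', Fin.append ψ ψ', by simp [Fin.sum_univ_add]⟩
      refine ⟨∑ j, φ j * algebraMap R _ (N₁.χ 0 (ψ j)), fun x => ?_⟩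
      rw [hw', map_sum, map_sum, Finset.sum_apply]
      refine Finset.sum_congr rfl fun j _ => ?_
      rw [map_mul, AlgHom.commutes, Algebra.TensorProduct.lift_tmul]
      rfl
    choose r hr using hr
    have hbk : ∀ i (k : ℕ) x, b i (x, (k : ZMod p)) = b i (x, 0) := fun i k x => by
      induction k with
      | zero => simp
      | succ k ih => rw [Nat.cast_succ, ← ih]; exact hbi i (x, (k : ZMod p))
    refine ⟨fun i => r i, sub_eq_zero.1 (hEV _ fun x y => ?_)⟩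
    have ez := congrFun hzb (x, y)
    rw [Finset.sum_apply, ← Fin.sum_univ_eq_sum_range (fun i => (b i * (fun y : M × ZMod p => D.ev T (y.1 + f y.2)) ^ i) (x, y))] at ez
    rw [map_sub, ez, map_sum, ← Finset.sum_sub_distrib]
    refine Finset.sum_eq_zero fun i _ => sub_eq_zero.2 ?_
    rw [map_mul, map_pow, Pi.mul_apply, Pi.pow_apply]
    refine Eq.trans ?_ (congr (congrArg HMul.hMul (evPair_left (D.at' x) (N₁.χ y) (r i)).symm) (congrArg (fun c => c ^ (i : ℕ)) (hρ x y T).symm))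
    show _ = D.ev (r i) x * _
    rw [hr, show evPair (D.at' x) (N₁.χ 0) (w i) = b i (x, 0) from congrFun (hwb i) (x, 0), ← hbk i y.val x,
      ZMod.natCast_zmod_val]
  · have key := fun (k : ℕ) (hk : k < p) => hstep.eq_zero_of_sum (i := k) hm (fun i y => if hi : i < p then D.ev (c ⟨i, hi⟩) y.1 else 0) (fun i y => rfl) (by
      funext y
      rw [Finset.sum_apply]
      refine (Fin.sum_univ_eq_sum_range _ p).symm.trans ?_
      have h0 := congrArg (evPair (D.at' y.1) (N₁.χ y.2)) hc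
      rw [map_sum, map_zero] at h0
      refine Eq.trans (Finset.sum_congr rfl fun i _ => ?_) h0
      rw [map_mul, map_pow, Pi.mul_apply, Pi.pow_apply, dif_pos i.2, Fin.eta]
      exact (congr (congrArg HMul.hMul (evPair_left (D.at' y.1) (N₁.χ y.2) (c i))) (congrArg (fun d => d ^ (i : ℕ)) (hρ y.1 y.2 T))).symm) hk
    refine funext fun i => D.sep (funext fun x => ?_)
    have e := key i.1 i.2 (x, 0)
    simpa [dif_pos i.2] using e

end PtData

end Groth.Agent.SWTorsorLib
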