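import Groth.Agent.SWTorsorLib.TwoStepQuot

/-! The two maps of a two-step group. -/

set_option autoImplicit false
set_option linter.all false
set_option backward.isDefEq.respectTransparency false
set_option backward.isDefEq.respectTransparency.types false

universe u v
open CategoryTheory Limits MonoidalCategory CartesianMonoidalCategory MonObj GrpObj AlgebraicGeometry
open scoped TensorProduct

noncomputable section

namespace Groth.Agent.SWTorsorLib

variable {R : Type u} [CommRing R] [IsDomain R] [IsDiscreteValuationRing R] {p : ℕ} [hp : Fact p.Prime]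
  [CharP (IsLocalRing.ResidueField R) p]

/-- A model of a lattice by a group `G_{λ,1}`. -/
structure Model (S : Subalgebra R (ZMod p → R)) where
  lam : R
  h : SekSuwa.DivCond lam p
  χ : ZMod p → (SekSuwa.AK R lam p h →ₐ[R] R)
  inj : Function.Injective (AlgHom.pi χ)
  tinj : Function.Injective fun n => χ n SekSuwa.AK.t
  mul : ∀ a b, S14683.pt (χ a) * S14683.pt (χ b) = S14683.pt (χ (a + b))
  range : (AlgHom.pi χ).range = S

theorem exists_model {ζ : R} (hζ : IsPrimitiveRoot ζ p) {m : R} (hm0 : m ≠ 0) {S : Subalgebra R (ZMod p → R)}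
    (hL : IsLattice m S) : Nonempty (Model S) := by
  obtain ⟨lam, hlam⟩ : m ∣ ζ - 1 := by
    by_cases hu : IsUnit m
    · exact hu.dvd
    · refine (IsIntegrallyClosed.pow_dvd_pow_iff (n := p - 1) ?_).1
        ((hL.pow_dvd_natCast hm0 hu).trans (associated_natCast hζ).symm.dvd)
      have := hp.out.two_le
      omega
  have hlm : lam * m = ζ - 1 := by rw [_root_.mul_comm, ← hlam]
  have hlam0 : lam ≠ 0 := fun e => sub_ne_zero.2 (hζ.ne_one hp.out.one_lt) (by rw [← hlm, e, zero_mul])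
  have h := divCond_of_mul_eq hζ hlm hlam0
  obtain ⟨t, ht, ht1⟩ := exists_tFun hζ hlm
  obtain ⟨χ, hχ⟩ := exists_chi h hζ t ht
  have htinj : Function.Injective fun n => χ n SekSuwa.AK.t := fun a b hab => by
    refine ZMod.val_injective p (hζ.pow_inj a.val_lt b.val_lt ?_)
    simp only [hχ] at hab
    have := congrArg (fun x => lam * x + 1) hab
    simpa [ht] using this
  exact ⟨⟨lam, h, χ, injective_eval h χ htinj, htinj, pt_mul h χ t hχ ht hζ,
    hL.eq (isLattice_range h χ t hχ ht hζ hlm ht1)⟩⟩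

theorem Model.χ_zero {S : Subalgebra R (ZMod p → R)} (N : Model S) : S14683.pt (N.χ 0) = 1 :=
  mul_left_cancel (a := S14683.pt (N.χ 0)) (by rw [N.mul, add_zero, _root_.mul_one])

/-- Evaluation at a pair of points. -/
abbrev evPair {A B : Type u} [CommRing A] [Algebra R A] [CommRing B] [Algebra R B] (a : A →ₐ[R] R) (b : B →ₐ[R] R) :
    A ⊗[R] B →ₐ[R] R := Algebra.TensorProduct.lift a b (fun _ _ => Commute.all _ _)

theorem tensor_sep.{w} {A B : Type u} [CommRing A] [Algebra R A] [Module.Free R A] [CommRing B] [Algebra R B] {I : Type v} {J : Type w}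
    (e : I → (A →ₐ[R] R)) (he : Function.Injective (AlgHom.pi e)) (e' : J → (B →ₐ[R] R))
    (he' : Function.Injective (AlgHom.pi e')) {w : A ⊗[R] B} (hw : ∀ x y, evPair (e x) (e' y) w = 0) : w = 0 := by
  classical
  obtain ⟨c, rfl⟩ := (TensorProduct.eq_repr_basis_left (Module.Free.chooseBasis R A) w)
  have key : ∀ i, c i = 0 := fun i => by
    refine (injective_iff_map_eq_zero _).1 he' _ (funext fun y => ?_)
    have h1 : (c.sum fun j cj => (e' y cj) • Module.Free.chooseBasis R A j) = 0 := by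
      refine (injective_iff_map_eq_zero _).1 he _ (funext fun x => ?_)
      have h := hw x y
      simp only [Finsupp.sum, map_sum, Finset.sum_apply, map_smul, Pi.smul_apply, Algebra.TensorProduct.lift_tmul] at h ⊢
      refine Eq.trans ?_ h
      exact Finset.sum_congr rfl fun j _ => by show e' y (c j) * e x _ = _; rw [_root_.mul_comm]
    by_contra hne
    have hi : i ∈ c.support := Finsupp.mem_support_iff.2 fun e0 => hne (by rw [e0, map_zero])
    exact hne (linearIndependent_iff'.1 (Module.Free.chooseBasis R A).linearIndependent c.support (fun j => e' y (c j)) h1 i hi)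
  simp [Finsupp.sum, key]

namespace PtData

variable {G : Over (Spec (CommRingCat.of R))} [GrpObj G] [Algebra R Γ(G.left, ⊤)] {M : Type v} [AddCommGroup M]
  (D : PtData G M) [IsAffine G.left] [Finite M]

/-- The functions at a point. -/
abbrev at' (x : M) : Γ(G.left, ⊤) →ₐ[R] R := (Pi.evalAlgHom R (fun _ : M => R) x).comp D.ev

theorem at'_injective : Function.Injective (AlgHom.pi D.at') := fun a b h => D.sep h

theorem free_A (D : PtData G M) [Module.Finite R Γ(G.left, ⊤)] : Module.Free R Γ(G.left, ⊤) := by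
  haveI : Module.IsTorsionFree R Γ(G.left, ⊤) :=
    D.sep.moduleIsTorsionFree D.ev (fun r a => map_smul D.ev r a)
  exact Module.free_of_finite_type_torsion_free'

instance isIso_iG : IsIso D.iG := by
  haveI : IsIso ((Over.forget _).map D.iG) := inferInstanceAs (IsIso G.left.isoSpec.inv)
  exact isIso_of_reflects_iso _ (Over.forget _)

theorem hom_ext_points {Q : Type u} [CommRing Q] [Algebra R Q] {I : Type v} (e : I → (Q →ₐ[R] R))
    (he : ∀ w, (∀ i, e i w = 0) → w = 0) (α β : (Spec (CommRingCat.of Q)).asOver (Spec (CommRingCat.of R)) ⟶ G)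
    (h : ∀ i, S14683.pt (e i) ≫ α = S14683.pt (e i) ≫ β) : α = β := by
  refine Over.OverMorphism.ext (ext_of_isAffine (CommRingCat.hom_ext (RingHom.ext fun a => ?_)))
  apply (ConcreteCategory.bijective_of_isIso (Scheme.ΓSpecIso (CommRingCat.of Q)).hom).1
  refine sub_eq_zero.1 (he _ fun i => ?_)
  rw [map_sub, sub_eq_zero]
  have e1 := congrArg (fun z : basePt R ⟶ G => val z a) (h i)
  simp only [val, RingHom.comp_apply, Over.comp_left, Scheme.Hom.comp_appTop, CommRingCat.hom_comp] at e1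
  erw [GmTorsor.gammaSpec_map, GmTorsor.gammaSpec_map] at e1
  exact e1

end PtData

theorem hom_ext_GK {lam : R} {h : SekSuwa.DivCond lam p} {Q : Type u} [CommRing Q] [Algebra R Q] {I : Type v}
    (e : I → (Q →ₐ[R] R)) (he : ∀ w, (∀ i, e i w = 0) → w = 0)
    (α β : (Spec (CommRingCat.of Q)).asOver (Spec (CommRingCat.of R)) ⟶ SekSuwa.GK R lam p h)
    (hab : ∀ i, S14683.pt (e i) ≫ α = S14683.pt (e i) ≫ β) : α = β := by
  obtain ⟨a, rfl⟩ := S14683.pt_surjective α
  obtain ⟨b, rfl⟩ := S14683.pt_surjective β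
  congr 1
  refine AlgHom.ext fun z => sub_eq_zero.1 (he _ fun i => ?_)
  have e1 := hab i
  rw [S14683.pt_comp, S14683.pt_comp] at e1
  rw [map_sub, sub_eq_zero]
  exact AlgHom.congr_fun (S14683.pt_injective e1) z

namespace PtData

variable {G : Over (Spec (CommRingCat.of R))} [GrpObj G] [Algebra R Γ(G.left, ⊤)] {M : Type v} [AddCommGroup M]
  (D : PtData G M) [IsAffine G.left] [Finite M] {f : ZMod p →+ M} {ν : M →+ ZMod p}

theorem exists_theta₁ (N : Model (D.res f).range) :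
    ∃ θ : Γ(G.left, ⊤) →ₐ[R] SekSuwa.AK R N.lam p N.h, ∀ n a, N.χ n (θ a) = D.ev a (f n) := by
  let E := (AlgEquiv.ofInjective _ N.inj).trans (Subalgebra.equivOfEq _ _ N.range)
  refine ⟨E.symm.toAlgHom.comp (D.res f).rangeRestrict, fun n a => ?_⟩
  have e : AlgHom.pi N.χ (E.symm ((D.res f).rangeRestrict a)) = D.res f a :=
    congrArg Subtype.val (E.apply_symm_apply ((D.res f).rangeRestrict a))
  exact congrFun e n

theorem exists_theta₂ (N : Model (D.ev.range.comap (comapFun ν))) :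
    ∃ θ : SekSuwa.AK R N.lam p N.h →ₐ[R] Γ(G.left, ⊤), ∀ x z, D.ev (θ z) x = N.χ (ν x) z := by
  have hmem : ∀ z, comapFun (R := R) ν (AlgHom.pi N.χ z) ∈ D.ev.range := fun z =>
    show AlgHom.pi N.χ z ∈ D.ev.range.comap (comapFun ν) from by
      have hz : AlgHom.pi N.χ z ∈ (AlgHom.pi N.χ).range := ⟨z, rfl⟩
      rwa [N.range] at hz
  refine ⟨(AlgEquiv.ofInjective D.ev D.sep).symm.toAlgHom.comp (((comapFun ν).comp (AlgHom.pi N.χ)).codRestrict _ hmem),
    fun x z => ?_⟩
  have e := congrArg Subtype.val ((AlgEquiv.ofInjective D.ev D.sep).apply_symm_apply ⟨_, hmem z⟩)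
  exact congrFun e x

variable {N₁ : Model (D.res f).range} {θ₁ : Γ(G.left, ⊤) →ₐ[R] SekSuwa.AK R N₁.lam p N₁.h}

theorem pt_u (h₁ : ∀ n a, N₁.χ n (θ₁ a) = D.ev a (f n)) (n : ZMod p) :
    S14683.pt (N₁.χ n) ≫ S14683.pt θ₁ ≫ D.iG = D.σ (f n) := by
  rw [← Category.assoc, S14683.pt_comp, show (N₁.χ n).comp θ₁ = D.at' (f n) from AlgHom.ext fun a => h₁ n a, D.pt_iG]

theorem isMonHom_u (h₁ : ∀ n a, N₁.χ n (θ₁ a) = D.ev a (f n)) [Module.Free R (SekSuwa.AK R N₁.lam p N₁.h)] :
    IsMonHom (S14683.pt θ₁ ≫ D.iG) := by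
  refine ⟨?_, ?_⟩
  · have h0 : (1 : basePt R ⟶ SekSuwa.GK R N₁.lam p N₁.h) ≫ (S14683.pt θ₁ ≫ D.iG) = 1 := by
      rw [← N₁.χ_zero, D.pt_u h₁, map_zero, D.σ_zero]
    rw [MonObj.one_eq_one, MonObj.one_eq_one, ← MonObj.comp_one (toPt (𝟙_ _)), Category.assoc, h0, MonObj.comp_one]
  · let A := SekSuwa.AK R N₁.lam p N₁.h
    let a₁ := S14683.pt (Algebra.TensorProduct.includeLeft : A →ₐ[R] A ⊗[R] A)
    let a₂ := S14683.pt (Algebra.TensorProduct.includeRight : A →ₐ[R] A ⊗[R] A)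
    haveI : Epi (lift a₁ a₂) := S14683.epi_lift_pt (R := R) (A := A) (B := A)
    rw [← cancel_epi (lift a₁ a₂), ← Category.assoc, ← Hom.mul_def, lift_map_assoc, ← Hom.mul_def]
    refine PtData.hom_ext_points (fun ij : ZMod p × ZMod p => evPair (N₁.χ ij.1) (N₁.χ ij.2))
      (fun w hw => tensor_sep N₁.χ N₁.inj N₁.χ N₁.inj fun x y => hw (x, y)) _ _ fun ij => ?_
    have l : S14683.pt (evPair (N₁.χ ij.1) (N₁.χ ij.2)) ≫ a₁ = S14683.pt (N₁.χ ij.1) := by
      rw [S14683.pt_comp, Algebra.TensorProduct.lift_comp_includeLeft]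
    have r : S14683.pt (evPair (N₁.χ ij.1) (N₁.χ ij.2)) ≫ a₂ = S14683.pt (N₁.χ ij.2) := by
      rw [S14683.pt_comp]; congr 1; ext z; simp
    rw [← Category.assoc, MonObj.comp_mul, l, r, N₁.mul, D.pt_u h₁, MonObj.comp_mul, ← Category.assoc, l, D.pt_u h₁,
      ← Category.assoc, r, D.pt_u h₁, D.mul, map_add]

variable {N₂ : Model (D.ev.range.comap (comapFun ν))} {θ₂ : SekSuwa.AK R N₂.lam p N₂.h →ₐ[R] Γ(G.left, ⊤)}

theorem pt_v (h₂ : ∀ x z, D.ev (θ₂ z) x = N₂.χ (ν x) z) (x : M) :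
    D.σ x ≫ inv D.iG ≫ S14683.pt θ₂ = S14683.pt (N₂.χ (ν x)) := by
  rw [← D.pt_iG x, Category.assoc, IsIso.hom_inv_id_assoc, S14683.pt_comp]
  congr 1
  exact AlgHom.ext fun z => h₂ x z

theorem isMonHom_v (h₂ : ∀ x z, D.ev (θ₂ z) x = N₂.χ (ν x) z) [Module.Free R Γ(G.left, ⊤)] :
    IsMonHom (inv D.iG ≫ S14683.pt θ₂) := by
  refine ⟨?_, ?_⟩
  · have h0 : (1 : basePt R ⟶ G) ≫ (inv D.iG ≫ S14683.pt θ₂) = 1 := by
      rw [← D.σ_zero, D.pt_v h₂, map_zero, N₂.χ_zero]
    rw [MonObj.one_eq_one, MonObj.one_eq_one, ← MonObj.comp_one (toPt (𝟙_ _)), Category.assoc, h0, MonObj.comp_one]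
  · let A := Γ(G.left, ⊤)
    let a₁ := S14683.pt (Algebra.TensorProduct.includeLeft : A →ₐ[R] A ⊗[R] A)
    let a₂ := S14683.pt (Algebra.TensorProduct.includeRight : A →ₐ[R] A ⊗[R] A)
    haveI : Epi (lift a₁ a₂) := S14683.epi_lift_pt (R := R) (A := A) (B := A)
    rw [← cancel_epi (D.iG ⊗ₘ D.iG), ← cancel_epi (lift a₁ a₂), lift_map_assoc, lift_map_assoc, ← Category.assoc (lift _ _),
      ← Hom.mul_def, lift_map_assoc, ← Hom.mul_def]
    refine hom_ext_GK (fun xy : M × M => evPair (D.at' xy.1) (D.at' xy.2))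
      (fun w hw => tensor_sep D.at' D.at'_injective D.at' D.at'_injective fun x y => hw (x, y)) _ _ fun xy => ?_
    have l : S14683.pt (evPair (D.at' xy.1) (D.at' xy.2)) ≫ a₁ ≫ D.iG = D.σ xy.1 := by
      rw [← Category.assoc, S14683.pt_comp, Algebra.TensorProduct.lift_comp_includeLeft, D.pt_iG]
    have r : S14683.pt (evPair (D.at' xy.1) (D.at' xy.2)) ≫ a₂ ≫ D.iG = D.σ xy.2 := by
      rw [← Category.assoc, S14683.pt_comp,
        show (evPair (D.at' xy.1) (D.at' xy.2)).comp Algebra.TensorProduct.includeRight = D.at' xy.2 by ext z; simp, D.pt_iG]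
    rw [← Category.assoc, MonObj.comp_mul, l, r, D.mul, D.pt_v h₂, MonObj.comp_mul]
    simp only [Category.assoc]
    rw [reassoc_of% l, reassoc_of% r, D.pt_v h₂, D.pt_v h₂, N₂.mul, map_add]

theorem comp_eq_one (h₁ : ∀ n a, N₁.χ n (θ₁ a) = D.ev a (f n)) (h₂ : ∀ x z, D.ev (θ₂ z) x = N₂.χ (ν x) z)
    (hν : ∀ n, ν (f n) = 0) : (S14683.pt θ₁ ≫ D.iG) ≫ (inv D.iG ≫ S14683.pt θ₂) = 1 := by
  refine hom_ext_GK N₁.χ (fun w hw => (injective_iff_map_eq_zero _).1 N₁.inj w (funext hw)) _ _ fun n => ?_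
  rw [← Category.assoc, D.pt_u h₁, D.pt_v h₂, hν, N₂.χ_zero, MonObj.comp_one]

end PtData

end Groth.Agent.SWTorsorLib
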