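import Groth.Agent.SWTorsorLib.CommPoints

/-! The quotient lattice of a two-step group. -/

set_option autoImplicit false
set_option linter.all false
set_option backward.isDefEq.respectTransparency false
set_option backward.isDefEq.respectTransparency.types false

universe u v
open CategoryTheory Limits MonoidalCategory CartesianMonoidalCategory MonObj GrpObj AlgebraicGeometry
open scoped TensorProduct

noncomputable section

namespace Groth.Agent.SWTorsorLib

variable {R : Type u} [CommRing R]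

theorem tensor_sum {A : Type u} [CommRing A] [Algebra R A] (w : A ⊗[R] A) :
    ∃ (n : ℕ) (φ ψ : Fin n → A), w = ∑ i, φ i ⊗ₜ[R] ψ i := by
  induction w using TensorProduct.induction_on with
  | zero => exact ⟨0, ![], ![], by simp⟩
  | tmul a b => exact ⟨1, fun _ => a, fun _ => b, by simp⟩
  | add x y hx hy =>
    obtain ⟨n, φ, ψ, rfl⟩ := hx
    obtain ⟨n', φ', ψ', rfl⟩ := hy
    exact ⟨n + n', Fin.append φ φ', Fin.append ψ ψ', by simp [Fin.sum_univ_add]⟩

namespace PtData

variable {G : Over (Spec (CommRingCat.of R))} [GrpObj G] [Algebra R Γ(G.left, ⊤)] {M : Type v} [AddCommGroup M]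
  (D : PtData G M) [IsAffine G.left]

/-- The canonical map from the spectrum of the functions. -/
def iG (D : PtData G M) : (Spec (CommRingCat.of Γ(G.left, ⊤))).asOver (Spec (CommRingCat.of R)) ⟶ G :=
  Over.homMk G.left.isoSpec.inv (by
    refine GaPoints.ringMap_injective (R := CommRingCat.of R) (RingHom.ext fun r => ?_)
    apply (ConcreteCategory.bijective_of_isIso (Scheme.ΓSpecIso (CommRingCat.of Γ(G.left, ⊤))).hom).1
    have e : GaPoints.ringMap (R := CommRingCat.of R) (G.left.isoSpec.inv ≫ G.hom) r =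
        (Spec.map (CommRingCat.ofHom (RingHom.id _)) ≫ G.left.isoSpec.inv).appTop (GaPoints.ringMap (R := CommRingCat.of R) G.hom r) := by
      rw [CommRingCat.ofHom_id]
      simp [GaPoints.ringMap]
    erw [e, spec_isoSpec_inv_appTop, ← D.alg]
    show _ = (Scheme.ΓSpecIso (CommRingCat.of Γ(G.left, ⊤))).hom (GaPoints.ringMap (R := CommRingCat.of R)
      (Spec.map (CommRingCat.ofHom (algebraMap R Γ(G.left, ⊤)))) r)
    rw [rm_spec]
    simp [GaPoints.ringMap])

theorem pt_iG (x : M) : S14683.pt ((Pi.evalAlgHom R (fun _ : M => R) x).comp D.ev) ≫ D.iG = D.σ x := by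
  refine val_ext fun a => ?_
  rw [← D.ev_eq]
  exact spec_isoSpec_inv_appTop _ a

/-- The comultiplication, as a finite sum on points. -/
theorem exists_decomp (b : Γ(G.left, ⊤)) :
    ∃ (n : ℕ) (φ ψ : Fin n → Γ(G.left, ⊤)), ∀ x y, D.ev b (x + y) = ∑ i, D.ev (φ i) x * D.ev (ψ i) y := by
  let A := Γ(G.left, ⊤)
  let pL := S14683.pt (Algebra.TensorProduct.includeLeft : A →ₐ[R] A ⊗[R] A) ≫ D.iG
  let pR := S14683.pt (Algebra.TensorProduct.includeRight : A →ₐ[R] A ⊗[R] A) ≫ D.iG
  let w : A ⊗[R] A := (Scheme.ΓSpecIso (CommRingCat.of (A ⊗[R] A))).hom ((pL * pR).left.appTop b)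
  obtain ⟨n, φ, ψ, hw⟩ := tensor_sum w
  refine ⟨n, φ, ψ, fun x y => ?_⟩
  let e (z : M) : A →ₐ[R] R := (Pi.evalAlgHom R (fun _ : M => R) z).comp D.ev
  let L : A ⊗[R] A →ₐ[R] R := Algebra.TensorProduct.lift (e x) (e y) (fun _ _ => Commute.all _ _)
  have h1 : S14683.pt L ≫ (pL * pR) = D.σ (x + y) := by
    rw [MonObj.comp_mul, ← Category.assoc, ← Category.assoc, S14683.pt_comp, S14683.pt_comp,
      Algebra.TensorProduct.lift_comp_includeLeft, D.pt_iG,
      show L.comp Algebra.TensorProduct.includeRight = e y by ext z; simp [L], D.pt_iG, D.mul]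
  rw [D.ev_eq, ← h1]
  show (Scheme.ΓSpecIso (CommRingCat.of R)).hom ((Spec.map (CommRingCat.ofHom L.toRingHom)).appTop ((pL * pR).left.appTop b)) = _
  erw [GmTorsor.gammaSpec_map]
  show L w = _
  rw [hw, map_sum]
  simp [L, e]
  rfl

variable [IsDomain R] [IsDiscreteValuationRing R] [Finite M] {p : ℕ} [hp : Fact p.Prime]
  [CharP (IsLocalRing.ResidueField R) p]

/-- Pulling functions back along a homomorphism. -/
def comapFun (ν : M → ZMod p) : (ZMod p → R) →ₐ[R] (M → R) := AlgHom.pi fun x => Pi.evalAlgHom R (fun _ : ZMod p => R) (ν x)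

theorem exists_lattice_quot {f : ZMod p →+ M} {m : R} {T : Γ(G.left, ⊤)}
    (hS : IsStep p (fun x => x + f 1) m D.ev.range (D.ev T)) (hm : m ≠ 0)
    (hf : Function.Injective f) (ν : M →+ ZMod p) (hker : ∀ x, ν x = 0 ↔ x ∈ Set.range f) (g₀ : M) (hg : ν g₀ = 1) :
    ∃ m₂ : R, m₂ ≠ 0 ∧ IsLattice m₂ (D.ev.range.comap (comapFun ν)) := by
  classical
  haveI : Fintype M := Fintype.ofFinite M
  haveI : Fact (1 < p) := ⟨hp.out.one_lt⟩
  have hν1 : ν (f 1) = 0 := (hker _).2 ⟨1, rfl⟩
  let B := D.ev.range.comap (comapFun (R := R) ν)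
  have hcomap : ∀ (g : ZMod p → R) x, comapFun ν g x = g (ν x) := fun g x => rfl
  have hfac : ∀ a : Γ(G.left, ⊤), (∀ x, D.ev a (x + f 1) = D.ev a x) →
      (fun n : ZMod p => D.ev a (n.val • g₀)) ∈ B ∧ ∀ x, D.ev a x = D.ev a ((ν x).val • g₀) := by
    intro a ha
    have hk : ∀ (k : ℕ) x, D.ev a (x + f k) = D.ev a x := fun k x => by
      induction k with
      | zero => simp
      | succ k ih => rw [Nat.cast_succ, map_add, ← add_assoc, ha, ih]
    have hfact : ∀ x, D.ev a x = D.ev a ((ν x).val • g₀) := fun x => by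
      obtain ⟨k, hk'⟩ := (hker (x - (ν x).val • g₀)).1 (by rw [map_sub, map_nsmul, hg]; simp)
      rw [← hk k.val ((ν x).val • g₀), ZMod.natCast_zmod_val, hk', add_sub_cancel]
    exact ⟨⟨a, funext fun x => (hfact x).trans rfl⟩, hfact⟩
  let J : Submodule R R := (B.toSubmodule ⊓ LinearMap.ker (LinearMap.proj (0 : ZMod p))).map (LinearMap.proj (1 : ZMod p))
  obtain ⟨m₂, hJ⟩ : ∃ m₂, J = Submodule.span R {m₂} := ⟨_, (Submodule.IsPrincipal.span_singleton_generator J).symm⟩
  have hdvd : ∀ g ∈ B, m₂ ∣ g 1 - g 0 := fun g hgB => by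
    have hmem : g 1 - g 0 ∈ J := ⟨g - algebraMap R _ (g 0), ⟨B.sub_mem hgB (B.algebraMap_mem _), by simp⟩, by simp⟩
    rw [hJ, Submodule.mem_span_singleton] at hmem
    obtain ⟨c, hc⟩ := hmem
    exact ⟨c, by rw [← hc, smul_eq_mul, _root_.mul_comm]⟩
  have hm2 : m₂ ≠ 0 := fun h0 => by
    obtain ⟨a, ha0, ha⟩ := D.exists_delta (0 : M)
    choose τ hτ using fun k : ZMod p => D.exists_translate (f k) a
    have hinv : ∀ x, D.ev (∑ k, τ k) (x + f 1) = D.ev (∑ k, τ k) x := fun x => by
      simp only [map_sum, Finset.sum_apply, hτ]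
      exact Fintype.sum_equiv (Equiv.addLeft 1) _ _ fun k => by simp [add_assoc]
    obtain ⟨hB, -⟩ := hfac _ hinv
    have h2 := hdvd _ hB
    rw [h0] at h2
    have h3 := sub_eq_zero.1 (zero_dvd_iff.1 h2)
    simp only [ZMod.val_one, one_smul, ZMod.val_zero, zero_smul, map_sum, Finset.sum_apply, hτ, zero_add] at h3
    rw [Finset.sum_eq_single (0 : ZMod p), map_zero, add_zero, ha _ (fun e => ?_)] at h3
    rotate_left
    · rw [e, map_zero] at hg; exact one_ne_zero hg.symm
    · intro k _ hk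
      refine ha _ fun e => ?_
      have := congrArg ν e
      rw [map_add, hg, (hker _).2 ⟨k, rfl⟩, map_zero, add_zero] at this
      exact one_ne_zero this
    · intro h; exact absurd (Finset.mem_univ _) h
    rw [Finset.sum_eq_single (0 : ZMod p) (fun k _ hk => ha _ ?_) (fun h => absurd (Finset.mem_univ _) h), map_zero] at h3
    · exact ha0 h3.symm
    · exact fun e => hk (hf (e.trans (map_zero f).symm))
  refine ⟨m₂, hm2, fun g hgB => ?_, ?_⟩
  · obtain ⟨a, ha⟩ := hgB
    have hg' : ∀ x, D.ev a x = g (ν x) := fun x => congrFun ha x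
    obtain ⟨n, φ, ψ, hdec⟩ := D.exists_decomp a
    choose b hbS hbi hbT using fun i => hS.decompose hm hp.out.pos (a := D.ev (ψ i)) ⟨ψ i, rfl⟩
    have hrow : ∀ x y, D.ev a (x + y) = ∑ i, D.ev (φ i) x * b i 0 y := fun x y => by
      let c : ℕ → M → R := fun j => (if j = 0 then fun y => D.ev a (x + y) else 0) - fun y => ∑ i, D.ev (φ i) x * b i j y
      have hc := hS.eq_zero_of_sum hm c (fun j y => by
        have e : D.ev a (x + (y + f 1)) = D.ev a (x + y) := by
          rw [hg', hg', map_add, map_add, map_add, hν1, add_zero]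
        simp only [c, Pi.sub_apply]
        split_ifs <;> simp [hbi, e]) (funext fun y => by
        have hψ : ∀ i, D.ev (ψ i) y = ∑ j ∈ Finset.range p, b i j y * D.ev T y ^ j := fun i => by
          rw [hbT i]
          simp [Finset.sum_apply]
        simp only [c, Finset.sum_apply, Pi.mul_apply, Pi.pow_apply, Pi.sub_apply, sub_mul, Finset.sum_sub_distrib, Pi.zero_apply,
          Finset.sum_mul]
        rw [Finset.sum_comm (s := Finset.range p), Finset.sum_eq_single 0 (fun j _ hj => by simp [hj])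
          (fun h => absurd (Finset.mem_range.2 hp.out.pos) h), if_pos rfl, pow_zero, _root_.mul_one, hdec, sub_eq_zero]
        refine Finset.sum_congr rfl fun i _ => ?_
        rw [hψ, Finset.mul_sum]
        exact Finset.sum_congr rfl fun j _ => by ring) hp.out.pos y
      simpa [c, sub_eq_zero] using hc
    have hb0 : ∀ i, m₂ ∣ b i 0 g₀ - b i 0 0 := fun i => by
      obtain ⟨β, hβ⟩ := hbS i 0
      have hβ' : ∀ x, D.ev β x = b i 0 x := congrFun hβ
      have := hdvd _ (hfac β fun x => by rw [hβ', hβ']; exact hbi i 0 x).1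
      simpa [hβ', ZMod.val_one] using this
    choose cq hcq using hb0
    let d : Γ(G.left, ⊤) := ∑ i, φ i * algebraMap R _ (cq i)
    have hd : ∀ x, g (ν x + 1) - g (ν x) = m₂ * D.ev d x := fun x => by
      have e1 : g (ν x + 1) = D.ev a (x + g₀) := by rw [hg', map_add, hg]
      have e0 : g (ν x) = D.ev a (x + 0) := by rw [hg', add_zero]
      rw [e1, e0, hrow, hrow, ← Finset.sum_sub_distrib]
      simp only [d, map_sum, map_mul, AlgHom.commutes, Finset.sum_apply, Pi.mul_apply, Pi.algebraMap_apply,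
        Algebra.algebraMap_self_apply, Finset.mul_sum]
      exact Finset.sum_congr rfl fun i _ => by linear_combination D.ev (φ i) x * hcq i
    obtain ⟨hB, hfd⟩ := hfac d fun x => mul_left_cancel₀ hm2 (by rw [← hd, ← hd, map_add, hν1, add_zero])
    refine ⟨_, hB, fun n => ?_⟩
    have hn : ν (n.val • g₀) = n := by rw [map_nsmul, hg]; simp
    have := hd (n.val • g₀)
    rwa [hn] at this
  · have hmem : m₂ ∈ J := hJ ▸ Submodule.mem_span_singleton_self m₂
    obtain ⟨g, ⟨hgB, hg0⟩, hg1⟩ := hmem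
    exact ⟨g, hgB, hg0, hg1⟩

end PtData

end Groth.Agent.SWTorsorLib
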